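import Mathlib
import Cfsg.Agent.LieClassical.SLTwoUnipotent

/-!
# A group acting additively on `F²` and containing all transvections with one axis

`N` acts additively on `F × F`, `L₀ = {(0, γ)}`; all transvections `(α, γ) ↦ (α, γ + l α)` occur; any two images of
`L₀` are equal or intersect trivially, and `L₀` is not fixed. Then, after a shear `(α, γ) ↦ (α, γ - f α)`, the conjugates
of the transvections act as elements of `SL(2, F)` and generate it.
-/

set_option autoImplicit false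

namespace Cfsg.Agent.TypeSpFour.Desargues

open Matrix Cfsg.Agent.LieClassical.SLTwoUnipotent

variable {F : Type*} [Field F]

/-- the action of `SL(2, F)` on `F × F` -/
def act (M : SpecialLinearGroup (Fin 2) F) (v : F × F) : F × F :=
  (M.1 0 0 * v.1 + M.1 0 1 * v.2, M.1 1 0 * v.1 + M.1 1 1 * v.2)

theorem act_one (v : F × F) : act 1 v = v := by
  simp [act]

theorem act_mul (M M' : SpecialLinearGroup (Fin 2) F) (v : F × F) : act (M * M') v = act M (act M' v) := by
  ext
  · change (M.1 * M'.1) 0 0 * v.1 + (M.1 * M'.1) 0 1 * v.2 = _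
    simp [act, Matrix.mul_apply, Fin.sum_univ_two]; ring
  · change (M.1 * M'.1) 1 0 * v.1 + (M.1 * M'.1) 1 1 * v.2 = _
    simp [act, Matrix.mul_apply, Fin.sum_univ_two]; ring

theorem act_inj {M M' : SpecialLinearGroup (Fin 2) F} (h : ∀ v, act M v = act M' v) : M = M' := by
  have h1 := h (1, 0)
  have h2 := h (0, 1)
  simp only [act, mul_one, mul_zero, add_zero, zero_add, Prod.mk.injEq] at h1 h2
  apply Subtype.ext
  ext i j
  fin_cases i <;> fin_cases j
  · exact h1.1
  · exact h2.1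
  · exact h1.2
  · exact h2.2

theorem act_inv (M : SpecialLinearGroup (Fin 2) F) (v w : F × F) (h : act M v = w) : act M⁻¹ w = v := by
  rw [← h, ← act_mul, inv_mul_cancel, act_one]

theorem act_l (t : F) (v : F × F) : act (l t) v = (v.1, v.2 + t * v.1) := by
  simp [act, l, add_comm]

theorem act_u (t : F) (v : F × F) : act (u t) v = (v.1 + t * v.2, v.2) := by
  simp [act, u]

/-- the determinant on `F²`. -/
def det2 (v w : F × F) : F := v.1 * w.2 - v.2 * w.1

/-- an additive action on `F × F` -/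
structure AddAct (N : Type*) [Group N] (Φ : N → F × F → F × F) : Prop where
  one : ∀ v, Φ 1 v = v
  mul : ∀ m n v, Φ (m * n) v = Φ m (Φ n v)
  add : ∀ n v w, Φ n (v + w) = Φ n v + Φ n w

/-- `n` acts as a transvection with axis `{(0, γ)}` -/
def IsTau {N : Type*} (Φ : N → F × F → F × F) (n : N) : Prop :=
  ∃ l : F, ∀ v, Φ n v = (v.1, v.2 + l * v.1)

/-- dependent vectors -/
theorem exists_smul_of_det2 {e w : F × F} (he : e ≠ 0) (h : det2 e w = 0) : ∃ c : F, w = c • e := by
  obtain ⟨a, b⟩ := e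
  obtain ⟨x, y⟩ := w
  simp only [det2] at h
  by_cases ha : a = 0
  · have hb : b ≠ 0 := by
      rintro rfl
      exact he (by rw [ha]; rfl)
    refine ⟨y * b⁻¹, ?_⟩
    rw [ha, zero_mul, zero_sub, neg_eq_zero] at h
    ext
    · simp [ha, (mul_eq_zero.1 h).resolve_left hb]
    · simp [hb]
  · refine ⟨x * a⁻¹, ?_⟩
    ext
    · simp [ha]
    · simp only [Prod.smul_mk, smul_eq_mul]
      field_simp
      linear_combination h

theorem det2_smul_right (c : F) (v w : F × F) : det2 v (c • w) = c * det2 v w := by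
  simp only [det2, Prod.smul_fst, Prod.smul_snd, smul_eq_mul]; ring

theorem det2_add_right (v w w' : F × F) : det2 v (w + w') = det2 v w + det2 v w' := by
  simp only [det2, Prod.fst_add, Prod.snd_add]; ring

theorem det2_self (v : F × F) : det2 v v = 0 := by
  simp only [det2]; ring

/-- a vector with determinant one -/
theorem exists_det2_one {e : F × F} (he : e ≠ 0) : ∃ w, det2 e w = 1 := by
  obtain ⟨a, b⟩ := e
  by_cases ha : a = 0
  · have hb : b ≠ 0 := by
      rintro rfl
      exact he (by rw [ha]; rfl)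
    exact ⟨(-b⁻¹, 0), by simp [det2, hb]⟩
  · exact ⟨(0, a⁻¹), by simp [det2, ha]⟩

theorem eq_add_of_det2_one {e w : F × F} (h : det2 e w = 1) (v : F × F) :
    v = (-(det2 w v)) • e + (det2 e v) • w := by
  obtain ⟨a, b⟩ := e
  obtain ⟨x, y⟩ := w
  obtain ⟨p, q⟩ := v
  simp only [det2] at h ⊢
  ext
  · simp only [Prod.smul_mk, smul_eq_mul, Prod.mk_add_mk]
    linear_combination (-p) * h
  · simp only [Prod.smul_mk, smul_eq_mul, Prod.mk_add_mk]
    linear_combination (-q) * h

/-- an additive map preserving dependence, fixing `F e` and trivial modulo `F e` is a transvection -/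
theorem exists_transvection {g : F × F → F × F} (hadd : ∀ v w, g (v + w) = g v + g w)
    (hdet : ∀ v w, det2 v w = 0 → det2 (g v) (g w) = 0) {e : F × F} (he : e ≠ 0)
    (hfix : ∀ c : F, g (c • e) = c • e) (htriv : ∀ v, ∃ c : F, g v = v + c • e) :
    ∃ k : F, ∀ v, g v = v + (k * det2 e v) • e := by
  obtain ⟨w, hw⟩ := exists_det2_one he
  choose c hc using htriv
  have hwe : det2 w e = -1 := by
    have : det2 w e = - det2 e w := by simp only [det2]; ring
    rw [this, hw]
  have key : ∀ a : F, c (a • w) = a * c w := by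
    intro a
    have h1 : det2 w (a • w) = 0 := by rw [det2_smul_right, det2_self, mul_zero]
    have h2 := hdet _ _ h1
    rw [hc w, hc (a • w)] at h2
    have h3 : det2 (w + c w • e) (a • w + c (a • w) • e) =
        c (a • w) * det2 w e + c w * a * det2 e w := by
      simp only [det2, Prod.fst_add, Prod.snd_add, Prod.smul_fst, Prod.smul_snd, smul_eq_mul]; ring
    rw [h3, hwe, hw] at h2
    linear_combination -h2
  refine ⟨c w, fun v => ?_⟩
  have h1 := eq_add_of_det2_one hw v
  conv_lhs => rw [h1]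
  rw [hadd, hfix, hc, key, ← add_assoc, ← h1, mul_comm]

/-- the matrix of a transvection -/
def tmat (k : F) (e : F × F) : SpecialLinearGroup (Fin 2) F :=
  ⟨!![1 - k * e.1 * e.2, k * e.1 ^ 2; -(k * e.2 ^ 2), 1 + k * e.1 * e.2], by
    rw [Matrix.det_fin_two_of]; ring⟩

theorem act_tmat (k : F) (e v : F × F) : act (tmat k e) v = v + (k * det2 e v) • e := by
  ext
  · simp [act, tmat, det2]; ring
  · simp [act, tmat, det2]; ring

section main

variable {N : Type*} [Group N] {Φ : N → F × F → F × F}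

theorem AddAct.zero (hΦ : AddAct N Φ) (n : N) : Φ n 0 = 0 := by
  have h := hΦ.add n 0 0
  rw [add_zero] at h
  exact left_eq_add.1 h

theorem AddAct.neg (hΦ : AddAct N Φ) (n : N) (v : F × F) : Φ n (-v) = - Φ n v := by
  rw [eq_neg_iff_add_eq_zero, ← hΦ.add, neg_add_cancel, hΦ.zero]

theorem AddAct.sub (hΦ : AddAct N Φ) (n : N) (v w : F × F) : Φ n (v - w) = Φ n v - Φ n w := by
  rw [sub_eq_add_neg, hΦ.add, hΦ.neg, sub_eq_add_neg]

theorem AddAct.inv_left (hΦ : AddAct N Φ) (n : N) (v : F × F) : Φ n⁻¹ (Φ n v) = v := by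
  rw [← hΦ.mul, inv_mul_cancel, hΦ.one]

theorem AddAct.inv_right (hΦ : AddAct N Φ) (n : N) (v : F × F) : Φ n (Φ n⁻¹ v) = v := by
  rw [← hΦ.mul, mul_inv_cancel, hΦ.one]

theorem AddAct.eq_zero (hΦ : AddAct N Φ) (n : N) {v : F × F} (h : Φ n v = 0) : v = 0 := by
  rw [← hΦ.inv_left n v, h, hΦ.zero]

theorem AddAct.inj (hΦ : AddAct N Φ) (n : N) {v w : F × F} (h : Φ n v = Φ n w) : v = w := by
  rw [← hΦ.inv_left n v, h, hΦ.inv_left]

variable (hΦ : AddAct N Φ) (ha : ∀ l : F, ∃ n, ∀ v, Φ n v = (v.1, v.2 + l * v.1))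
  (hb : ∀ n, (∀ v : F × F, v.1 = 0 → (Φ n v).1 = 0) ∨ (∀ v : F × F, v.1 = 0 → (Φ n v).1 = 0 → v = 0))
  {m : N} (hm : ∀ v : F × F, v.1 = 0 → (Φ m v).2 = 0)

include hΦ ha hb hm in
/-- an image of `L₀` other than `L₀` itself is a line -/
theorem exists_preimage [Finite F] (α : F) : ∃ w : F × F, w.1 = 0 ∧ Φ m w = (α, 0) := by
  have hinj : Function.Injective (fun γ : F => (Φ m (0, γ)).1) := by
    intro γ γ' h
    have h1 : Φ m (0, γ) = Φ m (0, γ') := by
      ext
      · exact h
      · rw [hm _ rfl, hm _ rfl]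
    exact (Prod.ext_iff.1 (hΦ.inj m h1)).2
  obtain ⟨γ, hγ⟩ := (Finite.injective_iff_surjective.1 hinj) α
  refine ⟨(0, γ), rfl, ?_⟩
  ext
  · exact hγ
  · exact hm _ rfl

include hΦ ha hb hm in
theorem det2_of_axis [Finite F] (n : N) {v w : F × F} (hv : v.1 = 0) (hw : w.1 = 0) :
    det2 (Φ n v) (Φ n w) = 0 := by
  rcases hb n with h | h
  · simp only [det2, h v hv, h w hw]; ring
  by_cases hv0 : v = 0
  · rw [hv0, hΦ.zero]; simp [det2]
  have hα : (Φ n v).1 ≠ 0 := fun h1 => hv0 (h v hv h1)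
  obtain ⟨t, ht⟩ := ha ((Φ n v).2 / (Φ n v).1)
  obtain ⟨w0, hw0, e0⟩ := exists_preimage hΦ ha hb hm (Φ n v).1
  have e1 : Φ t (Φ m w0) = Φ n v := by
    rw [ht, e0]
    ext
    · rfl
    · simp only []; field_simp; ring
  set k := m⁻¹ * t⁻¹ * n with hk
  have e2 : Φ k v = w0 := by
    rw [hk, hΦ.mul, hΦ.mul, ← e1, hΦ.inv_left, hΦ.inv_left]
  rcases hb k with h1 | h1
  · have h2 := h1 w hw
    have e3 : Φ n w = Φ t (Φ m (Φ k w)) := by
      rw [hk, hΦ.mul, hΦ.mul, hΦ.inv_right, hΦ.inv_right]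
    rw [e3, ← e1, ht, ht]
    have h3 := hm _ h2
    have h4 := hm _ hw0
    simp only [det2, h3, h4]; ring
  · exact absurd (h1 v hv (by rw [e2]; exact hw0)) hv0

include hΦ ha hb hm in
theorem det2_of_det2 [Finite F] (n : N) {v w : F × F} (h : det2 v w = 0) :
    det2 (Φ n v) (Φ n w) = 0 := by
  by_cases hv0 : v = 0
  · rw [hv0, hΦ.zero]; simp [det2]
  by_cases hv : v.1 = 0
  · have hv2 : v.2 ≠ 0 := fun h1 => hv0 (Prod.ext hv h1)
    have hw : w.1 = 0 := by
      simp only [det2, hv, zero_mul, zero_sub, neg_eq_zero] at h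
      exact (mul_eq_zero.1 h).resolve_left hv2
    exact det2_of_axis hΦ ha hb hm n hv hw
  · obtain ⟨t, ht⟩ := ha (v.2 / v.1)
    obtain ⟨v0, hv0', e0⟩ := exists_preimage hΦ ha hb hm v.1
    obtain ⟨w0, hw0', e1⟩ := exists_preimage hΦ ha hb hm w.1
    have e2 : Φ (n * (t * m)) v0 = Φ n v := by
      rw [hΦ.mul, hΦ.mul, e0, ht]
      congr 1
      ext
      · rfl
      · simp only []; field_simp; ring
    have e3 : Φ (n * (t * m)) w0 = Φ n w := by
      rw [hΦ.mul, hΦ.mul, e1, ht]
      congr 1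
      ext
      · rfl
      · simp only [det2] at h
        simp only []; field_simp; linear_combination -h
    rw [← e2, ← e3]
    exact det2_of_axis hΦ ha hb hm _ hv0' hw0'

include hΦ ha hb hm in
/-- conjugates of transvections are transvections -/
theorem exists_tmat [Finite F] (n t : N) (ht : IsTau Φ t) :
    ∃ k : F, ∀ v, Φ (n * t * n⁻¹) v = v + (k * det2 (Φ n (0, 1)) v) • Φ n (0, 1) := by
  obtain ⟨l0, ht⟩ := ht
  set e := Φ n (0, 1) with he
  have he0 : e ≠ 0 := by
    intro h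
    have := hΦ.eq_zero n h
    exact one_ne_zero (congrArg Prod.snd this)
  -- the multiples of `e` are the images of the axis
  have h1 : ∀ γ : F, ∃ c : F, Φ n (0, γ) = c • e := fun γ =>
    exists_smul_of_det2 he0 (det2_of_axis hΦ ha hb hm n rfl rfl)
  choose c hc using h1
  have hcinj : Function.Injective c := by
    intro γ γ' h
    have h2 : Φ n (0, γ) = Φ n (0, γ') := by rw [hc, hc, h]
    exact (Prod.ext_iff.1 (hΦ.inj n h2)).2
  have hcsurj := Finite.injective_iff_surjective.1 hcinj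
  have hconj : ∀ v, Φ (n * t * n⁻¹) v = Φ n (Φ t (Φ n⁻¹ v)) := fun v => by rw [hΦ.mul, hΦ.mul]
  refine exists_transvection (hΦ.add _) (fun v w h => det2_of_det2 hΦ ha hb hm _ h) he0 ?_ ?_
  · intro a
    obtain ⟨γ, rfl⟩ := hcsurj a
    rw [hconj, ← hc, hΦ.inv_left, ht]
    simp
  · intro v
    refine ⟨c (l0 * (Φ n⁻¹ v).1), ?_⟩
    rw [hconj, ht, ← hc]
    have : (((Φ n⁻¹ v).1, (Φ n⁻¹ v).2 + l0 * (Φ n⁻¹ v).1) : F × F) = Φ n⁻¹ v + (0, l0 * (Φ n⁻¹ v).1) := by
      ext <;> simp
    rw [this, hΦ.add, hΦ.inv_right]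

include hΦ ha hb hm in
theorem main0 [Finite F] : (∀ n t, IsTau Φ t → ∃ M : SpecialLinearGroup (Fin 2) F, ∀ v, Φ (n * t * n⁻¹) v = act M v) ∧
    (∀ Q : Subgroup (SpecialLinearGroup (Fin 2) F), (∀ n t M, IsTau Φ t → (∀ v, Φ (n * t * n⁻¹) v = act M v) → M ∈ Q) →
      Q = ⊤) := by
  constructor
  · intro n t ht
    obtain ⟨k, hk⟩ := exists_tmat hΦ ha hb hm n t ht
    exact ⟨tmat k _, fun v => by rw [hk, act_tmat]⟩
  · intro Q hQ
    apply eq_top_of_u_mem_of_l_mem
    · choose t ht using ha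
      have h1 : ∀ s : F, ∃ k : F, ∀ v, Φ (m * t s * m⁻¹) v = (v.1 + k * v.2, v.2) := by
        intro s
        obtain ⟨k, hk⟩ := exists_tmat hΦ (fun l => ⟨t l, ht l⟩) hb hm m (t s) ⟨s, ht s⟩
        refine ⟨k * (Φ m (0, 1)).1 ^ 2, fun v => ?_⟩
        rw [hk]
        have h2 := hm (0, 1) rfl
        ext
        · simp only [det2, h2, Prod.fst_add, Prod.smul_fst, smul_eq_mul]; ring
        · simp only [h2, Prod.snd_add, Prod.smul_snd, smul_eq_mul]; ring
      choose k hk using h1
      have hkinj : Function.Injective k := by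
        intro s s' h
        have h2 : Φ (m * t s * m⁻¹) (Φ m (1, 0)) = Φ (m * t s' * m⁻¹) (Φ m (1, 0)) := by
          rw [hk, hk, h]
        rw [hΦ.mul, hΦ.mul, hΦ.mul, hΦ.mul, hΦ.inv_left] at h2
        have h3 := hΦ.inj m h2
        rw [ht, ht] at h3
        simpa using (Prod.ext_iff.1 h3).2
      intro x
      obtain ⟨s, rfl⟩ := (Finite.injective_iff_surjective.1 hkinj) x
      refine hQ m (t s) _ ⟨s, ht s⟩ fun v => ?_
      rw [hk, act_u]
    · intro x
      obtain ⟨t, ht⟩ := ha x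
      refine hQ 1 t _ ⟨x, ht⟩ fun v => ?_
      rw [one_mul, inv_one, mul_one, ht, act_l]

end main

/-- the shear `(α, γ) ↦ (α, γ - f α)` -/
def shear (f : F → F) (v : F × F) : F × F := (v.1, v.2 - f v.1)

/-- the inverse shear -/
def shear' (f : F → F) (v : F × F) : F × F := (v.1, v.2 + f v.1)

theorem shear_shear' (f : F → F) (v : F × F) : shear f (shear' f v) = v := by
  simp [shear, shear']

theorem shear'_shear (f : F → F) (v : F × F) : shear' f (shear f v) = v := by
  simp [shear, shear']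

theorem main [Finite F] {N : Type*} [Group N] {Φ : N → F × F → F × F} (hΦ : AddAct N Φ)
    (ha : ∀ l : F, ∃ n, ∀ v, Φ n v = (v.1, v.2 + l * v.1))
    (hb : ∀ n, (∀ v : F × F, v.1 = 0 → (Φ n v).1 = 0) ∨ (∀ v : F × F, v.1 = 0 → (Φ n v).1 = 0 → v = 0))
    (hc : ∃ m, ∀ v : F × F, v.1 = 0 → (Φ m v).1 = 0 → v = 0) :
    ∃ f : F → F, (∀ a b, f (a + b) = f a + f b) ∧
      (∀ n t, IsTau Φ t → ∃ M : SpecialLinearGroup (Fin 2) F, ∀ v, shear f (Φ (n * t * n⁻¹) v) = act M (shear f v)) ∧
      (∀ Q : Subgroup (SpecialLinearGroup (Fin 2) F), (∀ n t M, IsTau Φ t →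
        (∀ v, shear f (Φ (n * t * n⁻¹) v) = act M (shear f v)) → M ∈ Q) → Q = ⊤) := by
  obtain ⟨m, hm⟩ := hc
  have hinj : Function.Injective (fun γ : F => (Φ m (0, γ)).1) := by
    intro γ γ' h
    have h1 : (Φ m ((0, γ) - (0, γ'))).1 = 0 := by
      rw [hΦ.sub, Prod.fst_sub]
      exact sub_eq_zero.2 h
    have h2 := hm _ (by simp) h1
    have h3 := congrArg Prod.snd h2
    exact sub_eq_zero.1 h3
  have hsurj := Finite.injective_iff_surjective.1 hinj
  choose g hg using hsurj
  have hg' : ∀ α, (Φ m (0, g α)).1 = α := hg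
  have hgadd : ∀ a b, g (a + b) = g a + g b := by
    intro a b
    apply hinj
    show (Φ m (0, g (a + b))).1 = (Φ m (0, g a + g b)).1
    rw [hg']
    have : ((0, g a + g b) : F × F) = (0, g a) + (0, g b) := by simp
    rw [this, hΦ.add, Prod.fst_add, hg', hg']
  set f : F → F := fun α => (Φ m (0, g α)).2 with hf
  have hfadd : ∀ a b, f (a + b) = f a + f b := by
    intro a b
    simp only [hf]
    rw [hgadd]
    have : ((0, g a + g b) : F × F) = (0, g a) + (0, g b) := by simp
    rw [this, hΦ.add, Prod.snd_add]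
  have hsadd : ∀ v w, shear f (v + w) = shear f v + shear f w := by
    intro v w
    ext
    · rfl
    · simp only [shear, Prod.snd_add, Prod.fst_add, hfadd]; ring
  have hs'add : ∀ v w, shear' f (v + w) = shear' f v + shear' f w := by
    intro v w
    ext
    · rfl
    · simp only [shear', Prod.snd_add, Prod.fst_add, hfadd]; ring
  have hf0 : f 0 = 0 := by
    have := hfadd 0 0
    rw [add_zero] at this
    exact left_eq_add.1 this
  let Ψ : N → F × F → F × F := fun n v => shear f (Φ n (shear' f v))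
  have hΨ : AddAct N Ψ :=
    { one := fun v => by
        show shear f (Φ 1 (shear' f v)) = v
        rw [hΦ.one, shear_shear']
      mul := fun m n v => by
        show shear f (Φ (m * n) (shear' f v)) = shear f (Φ m (shear' f (shear f (Φ n (shear' f v)))))
        rw [hΦ.mul, shear'_shear]
      add := fun n v w => by
        show shear f (Φ n (shear' f (v + w))) = _
        rw [hs'add, hΦ.add, hsadd] }
  have htau : ∀ {n : N} {l : F}, (∀ v, Φ n v = (v.1, v.2 + l * v.1)) → ∀ v, Ψ n v = (v.1, v.2 + l * v.1) := by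
    intro n l h v
    show shear f (Φ n (shear' f v)) = _
    rw [h]
    ext
    · rfl
    · simp only [shear, shear']; ring
  have htau' : ∀ {n : N}, IsTau Φ n → IsTau Ψ n := fun ⟨l, h⟩ => ⟨l, htau h⟩
  have ha' : ∀ l : F, ∃ n, ∀ v, Ψ n v = (v.1, v.2 + l * v.1) := fun l => by
    obtain ⟨n, hn⟩ := ha l
    exact ⟨n, htau hn⟩
  have haxis : ∀ v : F × F, v.1 = 0 → shear' f v = v := by
    intro v hv
    ext
    · rfl
    · simp only [shear', hv, hf0, add_zero]
  have hb' : ∀ n, (∀ v : F × F, v.1 = 0 → (Ψ n v).1 = 0) ∨ (∀ v : F × F, v.1 = 0 → (Ψ n v).1 = 0 → v = 0) := by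
    intro n
    rcases hb n with h | h
    · left
      intro v hv
      show (Φ n (shear' f v)).1 = 0
      rw [haxis v hv]
      exact h v hv
    · right
      intro v hv h1
      have h2 : (Φ n (shear' f v)).1 = 0 := h1
      rw [haxis v hv] at h2
      exact h v hv h2
  have hm' : ∀ v : F × F, v.1 = 0 → (Ψ m v).2 = 0 := by
    intro v hv
    show (Φ m (shear' f v)).2 - f (Φ m (shear' f v)).1 = 0
    rw [haxis v hv]
    have h1 : g (Φ m v).1 = v.2 := by
      apply hinj
      show (Φ m (0, g (Φ m v).1)).1 = (Φ m (0, v.2)).1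
      rw [hg']
      congr 2
      exact Prod.ext hv rfl
    have h2 : ((0, v.2) : F × F) = v := Prod.ext hv.symm rfl
    simp only [hf]
    rw [h1, h2, sub_self]
  obtain ⟨h1, h2⟩ := main0 hΨ ha' hb' hm'
  refine ⟨f, hfadd, ?_, ?_⟩
  · intro n t ht
    obtain ⟨M, hM⟩ := h1 n t (htau' ht)
    refine ⟨M, fun v => ?_⟩
    rw [← hM]
    show _ = shear f (Φ (n * t * n⁻¹) (shear' f (shear f v)))
    rw [shear'_shear]
  · intro Q hQ
    apply h2 Q
    intro n t M ht hM
    have ht' : IsTau Φ t := by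
      obtain ⟨l, ht⟩ := ht
      refine ⟨l, fun v => ?_⟩
      have h3 := ht (shear f v)
      change shear f (Φ t (shear' f (shear f v))) = _ at h3
      rw [shear'_shear] at h3
      have h4 := congrArg (shear' f) h3
      rw [shear'_shear] at h4
      rw [h4]
      ext
      · rfl
      · simp only [shear, shear']; ring
    refine hQ n t M ht' fun v => ?_
    rw [← hM]
    show _ = shear f (Φ (n * t * n⁻¹) (shear' f (shear f v)))
    rw [shear'_shear]

end Cfsg.Agent.TypeSpFour.Desargues
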