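import Mathlib
import Cfsg.Agent.TypeL3.Closed

/-!
# One half of the Sylow 2-subgroup of `Sp₄(q)`, `q` even

`S = AB` with `A = x(F) c(F) d(F)`, `B = y(F) c(F) d(F)`, `[x a, y t] = c (a t) d (a t²)`. If `N(A)` does not normalise
`Z = A ∩ B`, then the conjugates of `Z` in `N(A)` meet pairwise in one subgroup `W`, which is `c(F)` or `d(F)`.
-/

set_option autoImplicit false

namespace Cfsg.Agent.TypeSpFour.Half

open Subgroup Cfsg.Agent.Lib.GoldschmidtFusion Cfsg.Agent.TypeL3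
open scoped commutatorElement

universe u

variable {F : Type*} [Field F] {G : Type u} [Group G]

/-- `S = AB`, `A = x(F) c(F) d(F)`, `B = y(F) c(F) d(F)`, `[x a, y t] = c (a t) d (a t²)`. -/
structure HalfC2 (S A B : Subgroup G) (x y c d : F → G) : Prop extends IsAB S A B where
  x_add : ∀ a b, x (a + b) = x a * x b
  y_add : ∀ a b, y (a + b) = y a * y b
  c_add : ∀ a b, c (a + b) = c a * c b
  d_add : ∀ a b, d (a + b) = d a * d b
  mem_A' : ∀ g, g ∈ A ↔ ∃ a γ δ, g = x a * (c γ * d δ)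
  mem_B' : ∀ g, g ∈ B ↔ ∃ t γ δ, g = y t * (c γ * d δ)
  mem_Z' : ∀ g, g ∈ A ⊓ B ↔ ∃ γ δ, g = c γ * d δ
  inj_Z : ∀ γ δ, c γ * d δ = 1 → γ = 0 ∧ δ = 0
  comm : ∀ a t, x a * y t * (x a)⁻¹ * (y t)⁻¹ = c (a * t) * d (a * t ^ 2)

theorem hom_zero {f : F → G} (hf : ∀ a b, f (a + b) = f a * f b) : f 0 = 1 := by
  have h := hf 0 0
  rw [add_zero] at h
  exact mul_eq_left.1 h.symm

theorem hom_neg {f : F → G} (hf : ∀ a b, f (a + b) = f a * f b) (a : F) : f (-a) = (f a)⁻¹ := by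
  rw [eq_inv_iff_mul_eq_one, ← hf, neg_add_cancel, hom_zero hf]

/-- the image of an additive map -/
def img (f : F → G) (hf : ∀ a b, f (a + b) = f a * f b) : Subgroup G where
  carrier := Set.range f
  one_mem' := ⟨0, hom_zero hf⟩
  mul_mem' := by
    rintro _ _ ⟨a, rfl⟩ ⟨b, rfl⟩
    exact ⟨a + b, hf a b⟩
  inv_mem' := by
    rintro _ ⟨a, rfl⟩
    exact ⟨-a, hom_neg hf a⟩

theorem mem_img {f : F → G} {hf : ∀ a b, f (a + b) = f a * f b} {g : G} : g ∈ img f hf ↔ ∃ a, f a = g := Iff.rfl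

theorem card_img {f : F → G} (hf : ∀ a b, f (a + b) = f a * f b) (h0 : ∀ a, f a = 1 → a = 0) :
    Nat.card (img f hf) = Nat.card F := by
  refine (Nat.card_congr (Equiv.ofBijective (fun a => (⟨f a, ⟨a, rfl⟩⟩ : img f hf)) ⟨?_, ?_⟩)).symm
  · intro a b hab
    have h1 : f a = f b := congrArg Subtype.val hab
    have h2 : f (a - b) = 1 := by rw [sub_eq_add_neg, hf, hom_neg hf, h1, mul_inv_cancel]
    exact sub_eq_zero.1 (h0 _ h2)
  · rintro ⟨_, a, rfl⟩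
    exact ⟨a, rfl⟩

namespace HalfC2

section basic

variable {S A B : Subgroup G} {x y c d : F → G}

theorem c_mem (h : HalfC2 S A B x y c d) (γ : F) : c γ ∈ A ⊓ B :=
  (h.mem_Z' _).2 ⟨γ, 0, by rw [hom_zero h.d_add, mul_one]⟩

theorem d_mem (h : HalfC2 S A B x y c d) (δ : F) : d δ ∈ A ⊓ B :=
  (h.mem_Z' _).2 ⟨0, δ, by rw [hom_zero h.c_add, one_mul]⟩

theorem x_mem (h : HalfC2 S A B x y c d) (a : F) : x a ∈ A :=
  (h.mem_A' _).2 ⟨a, 0, 0, by rw [hom_zero h.c_add, hom_zero h.d_add, mul_one, mul_one]⟩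

theorem y_mem (h : HalfC2 S A B x y c d) (a : F) : y a ∈ B :=
  (h.mem_B' _).2 ⟨a, 0, 0, by rw [hom_zero h.c_add, hom_zero h.d_add, mul_one, mul_one]⟩

theorem inj_Z2 (h : HalfC2 S A B x y c d) {γ δ γ' δ' : F} (e : c γ * d δ = c γ' * d δ') : γ = γ' ∧ δ = δ' := by
  have hcd := h.A_comm _ (mem_inf.1 (h.c_mem γ')).1 _ (mem_inf.1 (h.d_mem (-δ'))).1
  have h1 : c (γ - γ') * d (δ - δ') = 1 := by
    rw [sub_eq_add_neg, sub_eq_add_neg, h.c_add, h.d_add, hom_neg h.c_add, hom_neg h.d_add]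
    have h2 := h.A_comm _ (mem_inf.1 (h.d_mem δ)).1 _ (inv_mem (mem_inf.1 (h.c_mem γ')).1)
    calc c γ * (c γ')⁻¹ * (d δ * (d δ')⁻¹) = c γ * ((c γ')⁻¹ * d δ) * (d δ')⁻¹ := by group
      _ = (c γ * d δ) * (c γ')⁻¹ * (d δ')⁻¹ := by rw [← h2]; group
      _ = c γ' * d δ' * (c γ')⁻¹ * (d δ')⁻¹ := by rw [e]
      _ = 1 := by
        have h3 := h.A_comm _ (mem_inf.1 (h.c_mem γ')).1 _ (mem_inf.1 (h.d_mem δ')).1
        rw [h3]; group
  obtain ⟨h3, h4⟩ := h.inj_Z _ _ h1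
  exact ⟨sub_eq_zero.1 h3, sub_eq_zero.1 h4⟩

theorem x_mem_B (h : HalfC2 S A B x y c d) {a : F} (ha : x a ∈ B) : a = 0 := by
  have h1 := h.B_comm _ ha _ (h.y_mem 1)
  have h2 := h.comm a 1
  rw [h1] at h2
  have h3 : c (a * 1) * d (a * 1 ^ 2) = 1 := by rw [← h2]; group
  have h4 := (h.inj_Z _ _ h3).1
  rwa [mul_one] at h4

theorem y_mem_A (h : HalfC2 S A B x y c d) {a : F} (ha : y a ∈ A) : a = 0 := by
  have h1 := h.A_comm _ (h.x_mem 1) _ ha
  have h2 := h.comm 1 a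
  rw [h1] at h2
  have h3 : c (1 * a) * d (1 * a ^ 2) = 1 := by rw [← h2]; group
  have h4 := (h.inj_Z _ _ h3).1
  rwa [one_mul] at h4

theorem inj_A (h : HalfC2 S A B x y c d) {a γ δ a' γ' δ' : F}
    (e : x a * (c γ * d δ) = x a' * (c γ' * d δ')) : a = a' ∧ γ = γ' ∧ δ = δ' := by
  have h1 : x (a - a') ∈ A ⊓ B := by
    have h2 : x (a - a') = (c γ' * d δ') * (c γ * d δ)⁻¹ := by
      rw [sub_eq_neg_add, h.x_add, hom_neg h.x_add]
      calc (x a')⁻¹ * x a = (x a')⁻¹ * (x a * (c γ * d δ)) * (c γ * d δ)⁻¹ := by group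
        _ = (c γ' * d δ') * (c γ * d δ)⁻¹ := by rw [e]; group
    rw [h2]
    exact mul_mem (mul_mem (h.c_mem _) (h.d_mem _)) (inv_mem (mul_mem (h.c_mem _) (h.d_mem _)))
  have h3 : a = a' := sub_eq_zero.1 (h.x_mem_B (mem_inf.1 h1).2)
  subst h3
  exact ⟨rfl, h.inj_Z2 (mul_left_cancel e)⟩

theorem mem_Z_of_mem_A (h : HalfC2 S A B x y c d) {a γ δ : F} (ha : x a * (c γ * d δ) ∈ B) : a = 0 := by
  apply h.x_mem_B
  have h1 := mul_mem ha (inv_mem (mem_inf.1 (mul_mem (h.c_mem γ) (h.d_mem δ))).2)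
  rwa [mul_inv_cancel_right] at h1

/-- conjugation of `x a` by `y t` -/
theorem conj_x (h : HalfC2 S A B x y c d) (a t : F) :
    y t * x a * (y t)⁻¹ = x a * (c (a * t) * d (a * t ^ 2)) := by
  have h1 := h.comm a t
  have hx2 : (x a)⁻¹ = x a := inv_eq_of_mul_eq_one_left (h.A_sq _ (h.x_mem a))
  calc y t * x a * (y t)⁻¹ = y t * (x a)⁻¹ * (y t)⁻¹ := by rw [hx2]
    _ = (x a)⁻¹ * (x a * y t * (x a)⁻¹ * (y t)⁻¹) := by group
    _ = x a * (c (a * t) * d (a * t ^ 2)) := by rw [h1, hx2]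

/-- conjugation of an element of `A` by an element of `B` -/
theorem conj_A (h : HalfC2 S A B x y c d) (a t γ δ γ' δ' : F) :
    (y t * (c γ' * d δ')) * (x a * (c γ * d δ)) * (y t * (c γ' * d δ'))⁻¹ =
      x a * (c (γ + a * t) * d (δ + a * t ^ 2)) := by
  have hz' : c γ' * d δ' ∈ A ⊓ B := mul_mem (h.c_mem _) (h.d_mem _)
  have hz : c γ * d δ ∈ A ⊓ B := mul_mem (h.c_mem _) (h.d_mem _)
  have h1 := h.A_comm _ (mem_inf.1 hz').1 _ (mul_mem (h.x_mem a) (mem_inf.1 hz).1)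
  have h2 := h.comm_Z hz (h.B_le (h.y_mem t))
  calc (y t * (c γ' * d δ')) * (x a * (c γ * d δ)) * (y t * (c γ' * d δ'))⁻¹
      = y t * ((c γ' * d δ') * (x a * (c γ * d δ))) * (c γ' * d δ')⁻¹ * (y t)⁻¹ := by group
    _ = y t * x a * (c γ * d δ) * (y t)⁻¹ := by rw [h1]; group
    _ = y t * x a * (y t)⁻¹ * (c γ * d δ) := by
        rw [mul_assoc (y t * x a), h.comm_Z hz (inv_mem (h.B_le (h.y_mem t)))]; group
    _ = x a * (c (a * t) * d (a * t ^ 2)) * (c γ * d δ) := by rw [h.conj_x]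
    _ = _ := by
        rw [h.c_add, h.d_add]
        have h3 := h.A_comm _ (mem_inf.1 hz).1 _ (mem_inf.1 (h.c_mem (a * t))).1
        have h4 := h.A_comm _ (mem_inf.1 (h.d_mem (a * t ^ 2))).1 _ (mem_inf.1 hz).1
        have h5 := h.A_comm _ (mem_inf.1 (h.c_mem (a * t))).1 _ (mem_inf.1 (h.d_mem δ)).1
        calc x a * (c (a * t) * d (a * t ^ 2)) * (c γ * d δ)
            = x a * (c (a * t) * (d (a * t ^ 2) * (c γ * d δ))) := by group
          _ = x a * ((c (a * t) * (c γ * d δ)) * d (a * t ^ 2)) := by rw [h4]; group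
          _ = x a * (c γ * (d δ * c (a * t)) * d (a * t ^ 2)) := by rw [← h3]; group
          _ = x a * (c γ * c (a * t) * (d δ * d (a * t ^ 2))) := by rw [← h5]; group

theorem two_eq_zero (h : HalfC2 S A B x y c d) : (2 : F) = 0 := by
  have h1 : c (1 + 1) * d 0 = 1 := by
    rw [h.c_add, h.A_sq _ (mem_inf.1 (h.c_mem 1)).1, hom_zero h.d_add, one_mul]
  have h2 := (h.inj_Z _ _ h1).1
  rwa [one_add_one_eq_two] at h2

theorem t_conj (h : HalfC2 S A B x y c d) (a t γ δ : F) :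
    y t * (x a * (c γ * d δ)) * (y t)⁻¹ = x a * (c γ * d δ) * (c (a * t) * d (a * t ^ 2)) := by
  have h1 := h.conj_A a t γ δ 0 0
  rw [hom_zero h.c_add, hom_zero h.d_add, mul_one, mul_one] at h1
  rw [h1, h.c_add, h.d_add]
  have h5 := h.A_comm _ (mem_inf.1 (h.c_mem (a * t))).1 _ (mem_inf.1 (h.d_mem δ)).1
  calc x a * (c γ * c (a * t) * (d δ * d (a * t ^ 2))) = x a * (c γ * (c (a * t) * d δ) * d (a * t ^ 2)) := by group
    _ = x a * (c γ * d δ) * (c (a * t) * d (a * t ^ 2)) := by rw [h5]; group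

theorem card_Z (h : HalfC2 S A B x y c d) : Nat.card (A ⊓ B : Subgroup G) = Nat.card F ^ 2 := by
  rw [pow_two, ← Nat.card_prod]
  refine (Nat.card_congr (Equiv.ofBijective
    (fun p : F × F => (⟨c p.1 * d p.2, (h.mem_Z' _).2 ⟨_, _, rfl⟩⟩ : (A ⊓ B : Subgroup G))) ⟨?_, ?_⟩)).symm
  · rintro ⟨γ, δ⟩ ⟨γ', δ'⟩ e
    obtain ⟨h1, h2⟩ := h.inj_Z2 (congrArg Subtype.val e)
    exact Prod.ext h1 h2
  · rintro ⟨g, hg⟩
    obtain ⟨γ, δ, rfl⟩ := (h.mem_Z' _).1 hg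
    exact ⟨(γ, δ), rfl⟩

theorem card_A (h : HalfC2 S A B x y c d) : Nat.card A = Nat.card F ^ 3 := by
  have h1 : Nat.card F ^ 3 = Nat.card (F × F × F) := by
    rw [Nat.card_prod, Nat.card_prod]; ring
  rw [h1]
  refine (Nat.card_congr (Equiv.ofBijective
    (fun p : F × F × F => (⟨x p.1 * (c p.2.1 * d p.2.2), (h.mem_A' _).2 ⟨_, _, _, rfl⟩⟩ : A)) ⟨?_, ?_⟩)).symm
  · rintro ⟨a, γ, δ⟩ ⟨a', γ', δ'⟩ e
    obtain ⟨h1, h2, h3⟩ := h.inj_A (congrArg Subtype.val e)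
    exact Prod.ext h1 (Prod.ext h2 h3)
  · rintro ⟨g, hg⟩
    obtain ⟨a, γ, δ, rfl⟩ := (h.mem_A' _).1 hg
    exact ⟨(a, γ, δ), rfl⟩

open Classical in
/-- the projection of `A` onto `F` with kernel `Z` -/
noncomputable def prA (h : HalfC2 S A B x y c d) : A →* Multiplicative F :=
  MonoidHom.mk' (fun g => Multiplicative.ofAdd ((h.mem_A' _).1 g.2).choose) (by
    rintro ⟨g, hg⟩ ⟨g', hg'⟩
    obtain ⟨a, γ, δ, rfl⟩ := (h.mem_A' _).1 hg
    obtain ⟨a', γ', δ', rfl⟩ := (h.mem_A' _).1 hg'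
    have key : ∀ {g : G} (hg : ∃ a γ δ, g = x a * (c γ * d δ)) {a γ δ : F}, g = x a * (c γ * d δ) →
        hg.choose = a := by
      intro g hg a γ δ e
      obtain ⟨γ', δ', e'⟩ := hg.choose_spec
      exact (h.inj_A (e'.symm.trans e)).1
    rw [← ofAdd_add]
    congr 1
    refine (key _ (a := a + a') (γ := γ + γ') (δ := δ + δ') ?_).trans ?_
    · show x a * (c γ * d δ) * (x a' * (c γ' * d δ')) = _
      rw [h.x_add, h.c_add, h.d_add]
      have h1 := h.A_comm _ (mem_inf.1 (mul_mem (h.c_mem γ) (h.d_mem δ))).1 _ (h.x_mem a')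
      have h2 := h.A_comm _ (mem_inf.1 (h.d_mem δ)).1 _ (mem_inf.1 (h.c_mem γ')).1
      calc x a * (c γ * d δ) * (x a' * (c γ' * d δ')) = x a * ((c γ * d δ) * x a') * (c γ' * d δ') := by group
        _ = x a * x a' * (c γ * (d δ * c γ') * d δ') := by rw [h1]; group
        _ = x a * x a' * (c γ * c γ' * (d δ * d δ')) := by rw [h2]; group
    · rw [key _ rfl, key _ rfl])

theorem prA_apply (h : HalfC2 S A B x y c d) (g : A) {a γ δ : F} (e : (g : G) = x a * (c γ * d δ)) :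
    h.prA g = Multiplicative.ofAdd a := by
  obtain ⟨γ', δ', e'⟩ := ((h.mem_A' _).1 g.2).choose_spec
  show Multiplicative.ofAdd ((h.mem_A' _).1 g.2).choose = _
  rw [(h.inj_A (e'.symm.trans e)).1]

theorem prA_ker (h : HalfC2 S A B x y c d) : h.prA.ker = (A ⊓ B).subgroupOf A := by
  ext g
  rw [MonoidHom.mem_ker, mem_subgroupOf]
  obtain ⟨a, γ, δ, e⟩ := (h.mem_A' _).1 g.2
  rw [h.prA_apply g e, e, ofAdd_eq_one]
  constructor
  · rintro rfl
    rw [hom_zero h.x_add, one_mul]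
    exact mul_mem (h.c_mem _) (h.d_mem _)
  · intro h1
    exact h.mem_Z_of_mem_A (mem_inf.1 h1).2

theorem not_mem_of_ne (h : HalfC2 S A B x y c d) {a γ δ : F} (ha : a ≠ 0) : x a * (c γ * d δ) ∉ B :=
  fun h1 => ha (h.mem_Z_of_mem_A h1)

/-- the counting lemma -/
theorem count [Finite F] [Finite G] (h : HalfC2 S A B x y c d) {L : Subgroup G} (hLA : L ≤ A)
    (hcard : Nat.card L = Nat.card F ^ 2) (hLZ : ¬ L ≤ A ⊓ B)
    (hyp : ∀ a ∈ L, a ∉ B → ∀ t ∈ B, t ∉ A → t * a * t⁻¹ ∉ L) :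
    Nat.card ((A ⊓ B) ⊓ L : Subgroup G) = Nat.card F ∧
      ((A ⊓ B) ⊓ L = img c h.c_add ∨ (A ⊓ B) ⊓ L = img d h.d_add) ∧
      ∀ a, ∃ γ δ, x a * (c γ * d δ) ∈ L := by
  have h2 := h.two_eq_zero
  have hq : 0 < Nat.card F := Nat.card_pos
  obtain ⟨a0, ha0, ha0Z⟩ := SetLike.not_le_iff_exists.1 hLZ
  have ha0B : a0 ∉ B := fun h1 => ha0Z (mem_inf.2 ⟨hLA ha0, h1⟩)
  obtain ⟨α, γ0, δ0, rfl⟩ := (h.mem_A' _).1 (hLA ha0)
  have hα : α ≠ 0 := by
    rintro rfl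
    apply ha0B
    rw [hom_zero h.x_add, one_mul]
    exact (mem_inf.1 (mul_mem (h.c_mem _) (h.d_mem _))).2
  -- lower bound
  have hidx : (A ⊓ B).relIndex A = Nat.card F := by
    have h3 := Subgroup.relIndex_mul_relIndex ⊥ (A ⊓ B) A bot_le inf_le_left
    rw [relIndex_bot_left, relIndex_bot_left, h.card_Z, h.card_A] at h3
    exact Nat.eq_of_mul_eq_mul_left (pow_pos hq 2) (h3.trans (by ring))
  have hlow : (A ⊓ B).relIndex L ≤ Nat.card F := by
    rw [← hidx]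
    exact relIndex_le_of_le_right hLA (by rw [hidx]; exact hq.ne')
  have hmul : Nat.card ((A ⊓ B) ⊓ L : Subgroup G) * (A ⊓ B).relIndex L = Nat.card F ^ 2 := by
    have h3 := Subgroup.relIndex_mul_relIndex ⊥ ((A ⊓ B) ⊓ L) L bot_le inf_le_right
    rwa [relIndex_bot_left, relIndex_bot_left, inf_relIndex_right, hcard] at h3
  -- upper bound
  have key1 : ∀ {a γ δ : F}, x a * (c γ * d δ) ∈ L → a ≠ 0 → ∀ t, t ≠ 0 → c (a * t) * d (a * t ^ 2) ∉ L := by
    intro a γ δ haL ha t ht hk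
    refine hyp _ haL (h.not_mem_of_ne ha) (y t) (h.y_mem t) (fun h3 => ht (h.y_mem_A h3)) ?_
    rw [h.t_conj]
    exact mul_mem haL hk
  have hup : Nat.card ((A ⊓ B) ⊓ L : Subgroup G) ≤ Nat.card F := by
    classical
    have hch : ∀ u : ((A ⊓ B) ⊓ L : Subgroup G), ∃ p : F × F, (u : G) = c p.1 * d p.2 := by
      rintro ⟨u, hu⟩
      obtain ⟨γ, δ, e⟩ := (h.mem_Z' _).1 (mem_inf.1 hu).1
      exact ⟨(γ, δ), e⟩
    choose p hp using hch
    refine Nat.card_le_card_of_injective (fun u => (p u).2 + (p u).1 ^ 2 / α) ?_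
    intro u v huv
    simp only at huv
    by_contra hne
    set γ := (p u).1 + (p v).1 with hγ
    set δ := (p u).2 + (p v).2 with hδ
    have hsub : ∀ a b : F, a + b = 0 → a = b := by
      intro a b hab
      linear_combination hab - b * h2
    have e1 : δ = γ ^ 2 / α := by
      apply hsub
      have : δ + γ ^ 2 / α = ((p u).2 + (p u).1 ^ 2 / α) + ((p v).2 + (p v).1 ^ 2 / α) +
          2 * ((p u).1 * (p v).1 / α) := by rw [hγ, hδ]; field_simp; ring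
      rw [this, huv, h2, zero_mul, add_zero, ← two_mul, h2, zero_mul]
    have e2 : (u : G) * v = c γ * d δ := by
      rw [hp u, hp v, hγ, hδ, h.c_add, h.d_add]
      have h3 := h.A_comm _ (mem_inf.1 (h.d_mem (p u).2)).1 _ (mem_inf.1 (h.c_mem (p v).1)).1
      calc c (p u).1 * d (p u).2 * (c (p v).1 * d (p v).2) = c (p u).1 * (d (p u).2 * c (p v).1) * d (p v).2 := by
            group
        _ = _ := by rw [h3]; group
    have hγ0 : γ ≠ 0 := by
      intro h0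
      apply hne
      rw [h0, zero_pow two_ne_zero, zero_div] at e1
      have e3 : (p u).1 = (p v).1 := hsub _ _ (by rw [← hγ]; exact h0)
      have e4 : (p u).2 = (p v).2 := hsub _ _ (by rw [← hδ]; exact e1)
      apply Subtype.ext
      rw [hp u, hp v, e3, e4]
    refine key1 ha0 hα (γ / α) (div_ne_zero hγ0 hα) ?_
    have e3 : α * (γ / α) = γ := by field_simp
    have e4 : α * (γ / α) ^ 2 = δ := by rw [e1]; field_simp
    rw [e3, e4, ← e2]
    exact mul_mem (mem_inf.1 u.2).2 (mem_inf.1 v.2).2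
  have hle : Nat.card F ≤ Nat.card ((A ⊓ B) ⊓ L : Subgroup G) := by
    by_contra hcon
    push Not at hcon
    have : Nat.card ((A ⊓ B) ⊓ L : Subgroup G) * (A ⊓ B).relIndex L < Nat.card F * Nat.card F :=
      Nat.mul_lt_mul_of_lt_of_le hcon hlow hq
    rw [hmul, pow_two] at this
    exact lt_irrefl _ this
  have hW : Nat.card ((A ⊓ B) ⊓ L : Subgroup G) = Nat.card F := le_antisymm hup hle
  -- the projection of `L` is everything
  have hidxL : (A ⊓ B).relIndex L = Nat.card F := by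
    rw [hW, pow_two] at hmul
    exact Nat.eq_of_mul_eq_mul_left hq hmul
  have hsurj : ∀ a, ∃ γ δ, x a * (c γ * d δ) ∈ L := by
    intro a
    have h3 : Nat.card ((L.subgroupOf A).map h.prA) = Nat.card (Multiplicative F) := by
      rw [← relIndex_ker, h.prA_ker, relIndex_subgroupOf hLA, hidxL]
      exact (Nat.card_congr Multiplicative.toAdd).symm
    have h4 : (L.subgroupOf A).map h.prA = ⊤ := Subgroup.eq_top_of_card_eq _ h3
    have h5 : Multiplicative.ofAdd a ∈ (L.subgroupOf A).map h.prA := by rw [h4]; trivial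
    obtain ⟨g, hg, e⟩ := h5
    obtain ⟨a', γ, δ, e'⟩ := (h.mem_A' _).1 g.2
    rw [h.prA_apply g e'] at e
    have e2 : a' = a := Multiplicative.ofAdd.injective e
    subst e2
    exact ⟨γ, δ, by rw [← e']; exact hg⟩
  have key2 : ∀ γ δ : F, γ ≠ 0 → δ ≠ 0 → c γ * d δ ∉ L := by
    intro γ δ hγ hδ
    obtain ⟨γ', δ', h3⟩ := hsurj (γ ^ 2 / δ)
    have h4 := key1 h3 (div_ne_zero (pow_ne_zero 2 hγ) hδ) (δ / γ) (div_ne_zero hδ hγ)
    have e3 : γ ^ 2 / δ * (δ / γ) = γ := by field_simp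
    have e4 : γ ^ 2 / δ * (δ / γ) ^ 2 = δ := by field_simp
    rwa [e3, e4] at h4
  refine ⟨hW, ?_, hsurj⟩
  have hcc : Nat.card (img c h.c_add) = Nat.card F := card_img _ fun a ha => by
    refine (h.inj_Z a 0 ?_).1
    rw [ha, hom_zero h.d_add, one_mul]
  have hcd : Nat.card (img d h.d_add) = Nat.card F := card_img _ fun a ha => by
    refine (h.inj_Z 0 a ?_).2
    rw [ha, hom_zero h.c_add, one_mul]
  have hor : (A ⊓ B) ⊓ L ≤ img c h.c_add ∨ (A ⊓ B) ⊓ L ≤ img d h.d_add := by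
    by_contra hcon
    push Not at hcon
    obtain ⟨⟨u, hu, huc⟩, ⟨v, hv, hvd⟩⟩ := And.intro (SetLike.not_le_iff_exists.1 hcon.1)
      (SetLike.not_le_iff_exists.1 hcon.2)
    obtain ⟨γ, δ, rfl⟩ := (h.mem_Z' _).1 (mem_inf.1 hu).1
    obtain ⟨γ', δ', rfl⟩ := (h.mem_Z' _).1 (mem_inf.1 hv).1
    have hδ : δ ≠ 0 := by
      rintro rfl
      exact huc ⟨γ, by rw [hom_zero h.d_add, mul_one]⟩
    have hγ' : γ' ≠ 0 := by
      rintro rfl
      exact hvd ⟨δ', by rw [hom_zero h.c_add, one_mul]⟩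
    have hγ : γ = 0 := by
      by_contra h0
      exact key2 γ δ h0 hδ (mem_inf.1 hu).2
    have hδ' : δ' = 0 := by
      by_contra h0
      exact key2 γ' δ' hγ' h0 (mem_inf.1 hv).2
    subst hγ hδ'
    refine key2 γ' δ hγ' hδ ?_
    have h3 := mul_mem (mem_inf.1 hv).2 (mem_inf.1 hu).2
    rwa [hom_zero h.d_add, hom_zero h.c_add, mul_one, one_mul] at h3
  rcases hor with h3 | h3
  · exact Or.inl (Subgroup.eq_of_le_of_card_ge h3 (by rw [hcc, hW]))
  · exact Or.inr (Subgroup.eq_of_le_of_card_ge h3 (by rw [hcd, hW]))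

end basic

end HalfC2

end Cfsg.Agent.TypeSpFour.Half
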