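import Mathlib
import Cfsg.Agent.TypeSpFour.Half

/-!
# The conjugates of `Z` in `N(A)`
-/

set_option autoImplicit false

namespace Cfsg.Agent.TypeSpFour.Inter

open Subgroup Cfsg.Agent.Lib.GoldschmidtFusion Cfsg.Agent.TypeL3 Cfsg.Agent.TypeSpFour.Half
open scoped commutatorElement

universe u

variable {F : Type*} [Field F] {G : Type u} [Group G] [Finite G] {A B : Subgroup G}

/-- involutions of `N(Z)` centralise `Z` -/
theorem comm_of_sq {S : Sylow 2 G} (h : IsAB (S : Subgroup G) A B) {t : G} (ht : t * t = 1)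
    (htN : t ∈ normalizer ((A ⊓ B : Subgroup G) : Set G)) {z : G} (hz : z ∈ A ⊓ B) : t * z = z * t := by
  have hZN := h.S_le_normalizer_Z
  have hzp : IsPGroup 2 (zpowers t) := by
    rw [IsPGroup.iff_card]
    rcases eq_or_ne t 1 with rfl | ht1
    · exact ⟨0, by simp⟩
    · exact ⟨1, by rw [Nat.card_zpowers, orderOf_eq_two_of_sq ht ht1, pow_one]⟩
  obtain ⟨n, hn, hle⟩ := exists_conj_le_in (p := 2) S.isPGroup' (sylow_not_dvd_relIndex S hZN)
    (zpowers_le.2 htN) hzp
  have h1 : n * t * n⁻¹ ∈ (S : Subgroup G) := hle ⟨t, mem_zpowers t, by simp⟩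
  have h2 := h.comm_Z (conj_mem_of_mem_normalizer hn hz) h1
  calc t * z = n⁻¹ * (n * t * n⁻¹ * (n * z * n⁻¹)) * n := by group
    _ = z * t := by rw [← h2]; group

variable {x y c d : F → G} {S : Sylow 2 G}

/-- the conjugate of `Z` -/
abbrev conjZ (A B : Subgroup G) (n : G) : Subgroup G := (A ⊓ B).map (MulAut.conj n).toMonoidHom

omit [Finite G] in
theorem mem_conjZ {n g : G} : g ∈ conjZ A B n ↔ n⁻¹ * g * n ∈ A ⊓ B := mem_map_conj

omit [Finite G] in
theorem conjZ_eq_iff {n m : G} : conjZ A B n = conjZ A B m ↔ n⁻¹ * m ∈ normalizer ((A ⊓ B : Subgroup G) : Set G) := by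
  rw [mem_normalizer_iff_map_conj, ← map_conj_map_conj]
  constructor
  · intro h
    rw [conjZ, conjZ] at h
    rw [← h, map_conj_map_conj, inv_mul_cancel, map_conj_one]
  · intro h
    rw [conjZ, conjZ]
    conv_lhs => rw [← h]
    rw [map_conj_map_conj, map_conj_map_conj]
    congr 3
    group

omit [Finite G] in
theorem conj_conjZ (t n : G) : (conjZ A B n).map (MulAut.conj t).toMonoidHom = conjZ A B (t * n) :=
  map_conj_map_conj _ _ _

omit [Finite G] in
theorem inf_conjZ (n m : G) : conjZ A B n ⊓ conjZ A B m =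
    ((A ⊓ B) ⊓ conjZ A B (n⁻¹ * m)).map (MulAut.conj n).toMonoidHom := by
  rw [Subgroup.map_inf _ _ _ (MulAut.conj n).injective, conj_conjZ]
  congr 2
  group

omit [Finite G] in
theorem conjZ_le {n : G} (hn : n ∈ normalizer (A : Set G)) : conjZ A B n ≤ A := by
  rintro _ ⟨z, hz, rfl⟩
  exact conj_mem_of_mem_normalizer hn (mem_inf.1 hz).1

theorem not_conjZ_le {n : G} (hn : n ∉ normalizer ((A ⊓ B : Subgroup G) : Set G)) : ¬ conjZ A B n ≤ A ⊓ B := by
  intro h
  apply hn
  rw [mem_normalizer_iff_map_conj]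
  exact Subgroup.eq_of_le_of_card_ge h (by rw [card_map_conj])

/-- the hypothesis of the counting lemma for a maximal intersection -/
theorem hyp_of_max (h : IsAB (S : Subgroup G) A B) {m : G} (hm : m ∈ normalizer (A : Set G))
    (hmax : ∀ k ∈ normalizer (A : Set G), k ∉ normalizer ((A ⊓ B : Subgroup G) : Set G) →
      Nat.card ((A ⊓ B) ⊓ conjZ A B k : Subgroup G) ≤ Nat.card ((A ⊓ B) ⊓ conjZ A B m : Subgroup G)) :
    ∀ a ∈ conjZ A B m, a ∉ B → ∀ t ∈ B, t ∉ A → t * a * t⁻¹ ∉ conjZ A B m := by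
  intro a ha haB t ht htA hta
  have htS := h.B_le ht
  have htN := h.S_le_normalizer_A htS
  have htZ := h.S_le_normalizer_Z htS
  have haA := conjZ_le hm ha
  by_cases hk : m⁻¹ * t * m ∈ normalizer ((A ⊓ B : Subgroup G) : Set G)
  · -- `t` centralises `Z ^ m`
    have h1 : (m⁻¹ * t * m) * (m⁻¹ * t * m) = 1 := by
      have := h.B_sq t ht
      calc (m⁻¹ * t * m) * (m⁻¹ * t * m) = m⁻¹ * (t * t) * m := by group
        _ = 1 := by rw [this]; group
    have h2 := comm_of_sq h h1 hk (mem_conjZ.1 ha)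
    have h3 : a * t = t * a := by
      calc a * t = m * ((m⁻¹ * a * m) * (m⁻¹ * t * m)) * m⁻¹ := by group
        _ = t * a := by rw [← h2]; group
    exact htA (h.centA a haA haB t htS h3)
  · have hle := hmax (m⁻¹ * t * m) (mul_mem (mul_mem (inv_mem hm) htN) hm) hk
    have e1 : conjZ A B m ⊓ conjZ A B (t * m) =
        ((A ⊓ B) ⊓ conjZ A B (m⁻¹ * t * m)).map (MulAut.conj m).toMonoidHom := by
      rw [inf_conjZ]
      congr 3
      group
    have h1 : (A ⊓ B) ⊓ conjZ A B m ≤ conjZ A B m ⊓ conjZ A B (t * m) := by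
      intro z hz
      obtain ⟨hz1, hz2⟩ := mem_inf.1 hz
      refine mem_inf.2 ⟨hz2, ?_⟩
      rw [← conj_conjZ, mem_map_conj]
      have : t⁻¹ * z * t = z := by
        rw [mul_assoc, h.comm_Z hz1 htS, inv_mul_cancel_left]
      rw [this]; exact hz2
    have h2 : (A ⊓ B) ⊓ conjZ A B m = conjZ A B m ⊓ conjZ A B (t * m) := by
      apply Subgroup.eq_of_le_of_card_ge h1
      rw [e1, card_map_conj]
      exact hle
    have h3 : t * a * t⁻¹ ∈ conjZ A B m ⊓ conjZ A B (t * m) := by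
      refine mem_inf.2 ⟨hta, ?_⟩
      rw [← conj_conjZ]
      exact conj_mem_map_conj ha t
    rw [← h2] at h3
    have h4 := (mem_inf.1 h3).1
    exact haB (mem_inf.1 ((conj_mem_iff_of_mem_normalizer htZ).1 h4)).2

variable [Finite F]

/-- the intersections of `Z` with its conjugates in `N(A)` -/
theorem inter (h : HalfC2 (S : Subgroup G) A B x y c d) {n : G} (hn : n ∈ normalizer (A : Set G))
    (hnZ : n ∉ normalizer ((A ⊓ B : Subgroup G) : Set G)) :
    (Nat.card ((A ⊓ B) ⊓ conjZ A B n : Subgroup G) = Nat.card F ∧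
      ((A ⊓ B) ⊓ conjZ A B n = img c h.c_add ∨ (A ⊓ B) ⊓ conjZ A B n = img d h.d_add) ∧
      ∀ a, ∃ γ δ, x a * (c γ * d δ) ∈ conjZ A B n) ∧
    ∀ a ∈ conjZ A B n, a ∉ B → ∀ t ∈ B, t ∉ A → t * a * t⁻¹ ∉ conjZ A B n := by
  obtain ⟨m, ⟨hm, hmZ⟩, hmax⟩ := (Set.toFinite {m | m ∈ normalizer (A : Set G) ∧
    m ∉ normalizer ((A ⊓ B : Subgroup G) : Set G)}).exists_maximalFor
    (fun m => Nat.card ((A ⊓ B) ⊓ conjZ A B m : Subgroup G)) _ ⟨n, hn, hnZ⟩
  have hmax' : ∀ k ∈ normalizer (A : Set G), k ∉ normalizer ((A ⊓ B : Subgroup G) : Set G) →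
      Nat.card ((A ⊓ B) ⊓ conjZ A B k : Subgroup G) ≤ Nat.card ((A ⊓ B) ⊓ conjZ A B m : Subgroup G) := by
    intro k hk hkZ
    rcases le_total (Nat.card ((A ⊓ B) ⊓ conjZ A B k : Subgroup G))
      (Nat.card ((A ⊓ B) ⊓ conjZ A B m : Subgroup G)) with h1 | h1
    · exact h1
    · exact hmax ⟨hk, hkZ⟩ h1
  have hcardm : ∀ k : G, Nat.card (conjZ A B k) = Nat.card F ^ 2 := fun k => by
    rw [card_map_conj, h.card_Z]
  have hMm := h.count (conjZ_le hm) (hcardm m) (not_conjZ_le hmZ) (hyp_of_max h.toIsAB hm hmax')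
  -- lower bound for all
  have hq : 0 < Nat.card F := Nat.card_pos
  have hidx : (A ⊓ B).relIndex A = Nat.card F := by
    have h3 := Subgroup.relIndex_mul_relIndex ⊥ (A ⊓ B) A bot_le inf_le_left
    rw [relIndex_bot_left, relIndex_bot_left, h.card_Z, h.card_A] at h3
    exact Nat.eq_of_mul_eq_mul_left (pow_pos hq 2) (h3.trans (by ring))
  have hlow : Nat.card F ≤ Nat.card ((A ⊓ B) ⊓ conjZ A B n : Subgroup G) := by
    have h1 : (A ⊓ B).relIndex (conjZ A B n) ≤ Nat.card F := by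
      rw [← hidx]
      exact relIndex_le_of_le_right (conjZ_le hn) (by rw [hidx]; exact hq.ne')
    have h2 := Subgroup.relIndex_mul_relIndex ⊥ ((A ⊓ B) ⊓ conjZ A B n) (conjZ A B n) bot_le inf_le_right
    rw [relIndex_bot_left, relIndex_bot_left, inf_relIndex_right, hcardm] at h2
    by_contra hcon
    push Not at hcon
    have : Nat.card ((A ⊓ B) ⊓ conjZ A B n : Subgroup G) * (A ⊓ B).relIndex (conjZ A B n) <
        Nat.card F * Nat.card F := Nat.mul_lt_mul_of_lt_of_le hcon h1 hq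
    rw [h2, pow_two] at this
    exact lt_irrefl _ this
  have hmaxn : ∀ k ∈ normalizer (A : Set G), k ∉ normalizer ((A ⊓ B : Subgroup G) : Set G) →
      Nat.card ((A ⊓ B) ⊓ conjZ A B k : Subgroup G) ≤ Nat.card ((A ⊓ B) ⊓ conjZ A B n : Subgroup G) := by
    intro k hk hkZ
    refine (hmax' k hk hkZ).trans ?_
    rw [hMm.1]
    exact hlow
  have hh := hyp_of_max h.toIsAB hn hmaxn
  exact ⟨h.count (conjZ_le hn) (hcardm n) (not_conjZ_le hnZ) hh, hh⟩

omit [Finite G] [Finite F] in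
theorem card_img_c {S : Subgroup G} (h : HalfC2 S A B x y c d) : Nat.card (img c h.c_add) = Nat.card F :=
  card_img _ fun a ha => by
    refine (h.inj_Z a 0 ?_).1
    rw [ha, hom_zero h.d_add, one_mul]

omit [Finite G] [Finite F] in
theorem card_img_d {S : Subgroup G} (h : HalfC2 S A B x y c d) : Nat.card (img d h.d_add) = Nat.card F :=
  card_img _ fun a ha => by
    refine (h.inj_Z 0 a ?_).2
    rw [ha, hom_zero h.c_add, one_mul]

omit [Finite G] [Finite F] in
theorem img_inf {S : Subgroup G} (h : HalfC2 S A B x y c d) : img c h.c_add ⊓ img d h.d_add = ⊥ := by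
  rw [Subgroup.eq_bot_iff_forall]
  intro g hg
  obtain ⟨⟨γ, e1⟩, ⟨δ, e2⟩⟩ := mem_inf.1 hg
  have h1 : c γ * d (-δ) = 1 := by rw [hom_neg h.d_add, e1, e2, mul_inv_cancel]
  have h2 := (h.inj_Z _ _ h1).1
  rw [← e1, h2, hom_zero h.c_add]

omit [Finite G] [Finite F] in
theorem img_c_le {S : Subgroup G} (h : HalfC2 S A B x y c d) : img c h.c_add ≤ A ⊓ B := by
  rintro _ ⟨γ, rfl⟩
  exact h.c_mem γ

omit [Finite G] [Finite F] in
theorem img_d_le {S : Subgroup G} (h : HalfC2 S A B x y c d) : img d h.d_add ≤ A ⊓ B := by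
  rintro _ ⟨γ, rfl⟩
  exact h.d_mem γ

/-- the two possibilities do not occur together -/
theorem not_both (h : HalfC2 (S : Subgroup G) A B x y c d) {n m : G} (hn : n ∈ normalizer (A : Set G))
    (hnZ : n ∉ normalizer ((A ⊓ B : Subgroup G) : Set G)) (hm : m ∈ normalizer (A : Set G))
    (hmZ : m ∉ normalizer ((A ⊓ B : Subgroup G) : Set G)) :
    (A ⊓ B) ⊓ conjZ A B n = (A ⊓ B) ⊓ conjZ A B m := by
  by_contra hne
  set C := (A ⊓ B) ⊓ conjZ A B n with hC
  set D := (A ⊓ B) ⊓ conjZ A B m with hD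
  have hq : 1 < Nat.card F := Finite.one_lt_card
  obtain ⟨⟨hCcard, hCor, hCs⟩, hCh⟩ := inter h hn hnZ
  obtain ⟨⟨hDcard, hDor, hDs⟩, hDh⟩ := inter h hm hmZ
  rw [← hC] at hCcard
  rw [← hD] at hDcard
  have hcd := img_inf h
  have hCD : C ⊓ D = ⊥ := by
    rcases hCor with h1 | h1 <;> rcases hDor with h2 | h2
    · exact absurd (h1.trans h2.symm) hne
    · rw [hC, hD, h1, h2]; exact hcd
    · rw [hC, hD, h1, h2, inf_comm]; exact hcd
    · exact absurd (h1.trans h2.symm) hne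
  -- every intersection is `C` or `D`
  have hor : ∀ k ∈ normalizer (A : Set G), k ∉ normalizer ((A ⊓ B : Subgroup G) : Set G) →
      (A ⊓ B) ⊓ conjZ A B k = C ∨ (A ⊓ B) ⊓ conjZ A B k = D := by
    intro k hk hkZ
    obtain ⟨⟨-, h3, -⟩, -⟩ := inter h hk hkZ
    rcases hCor with h1 | h1 <;> rcases hDor with h2 | h2 <;> rcases h3 with h3 | h3
    · exact Or.inl (h3.trans h1.symm)
    · exact absurd (h1.trans h2.symm) hne
    · exact Or.inl (h3.trans h1.symm)
    · exact Or.inr (h3.trans h2.symm)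
    · exact Or.inr (h3.trans h2.symm)
    · exact Or.inl (h3.trans h1.symm)
    · exact absurd (h1.trans h2.symm) hne
    · exact Or.inl (h3.trans h1.symm)
  -- the subgroup `C` is `C ^ n` or `D ^ n`
  have hn'Z : n⁻¹ ∉ normalizer ((A ⊓ B : Subgroup G) : Set G) := fun h1 => hnZ (by simpa using inv_mem h1)
  have e1 : ((A ⊓ B) ⊓ conjZ A B n⁻¹).map (MulAut.conj n).toMonoidHom = C := by
    have h1 := inf_conjZ (A := A) (B := B) n 1
    rw [mul_one] at h1
    rw [← h1, hC, inf_comm]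
    congr 1
    rw [conjZ, map_conj_one]
  -- `E` the other one
  obtain ⟨E, hEcard, hE⟩ : ∃ E : Subgroup G, Nat.card E = Nat.card F ∧
      ∀ k ∈ normalizer (A : Set G), n⁻¹ * k ∉ normalizer ((A ⊓ B : Subgroup G) : Set G) →
        conjZ A B n ⊓ conjZ A B k = C ∨ conjZ A B n ⊓ conjZ A B k = E := by
    have hcase : ∀ X : Subgroup G, (∀ k ∈ normalizer (A : Set G), k ∉ normalizer ((A ⊓ B : Subgroup G) : Set G) →
        (A ⊓ B) ⊓ conjZ A B k = (A ⊓ B) ⊓ conjZ A B n⁻¹ ∨ (A ⊓ B) ⊓ conjZ A B k = X) →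
        ∀ k ∈ normalizer (A : Set G), n⁻¹ * k ∉ normalizer ((A ⊓ B : Subgroup G) : Set G) →
        conjZ A B n ⊓ conjZ A B k = C ∨ conjZ A B n ⊓ conjZ A B k = X.map (MulAut.conj n).toMonoidHom := by
      intro X hX k hk hkZ
      rw [inf_conjZ]
      rcases hX (n⁻¹ * k) (mul_mem (inv_mem hn) hk) hkZ with h1 | h1
      · left; rw [h1, e1]
      · right; rw [h1]
    rcases hor n⁻¹ (inv_mem hn) hn'Z with h1 | h1
    · refine ⟨D.map (MulAut.conj n).toMonoidHom, by rw [card_map_conj]; exact hDcard, hcase D ?_⟩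
      rw [h1]; exact hor
    · refine ⟨C.map (MulAut.conj n).toMonoidHom, by rw [card_map_conj]; exact hCcard, hcase C ?_⟩
      rw [h1]
      exact fun k hk hkZ => (hor k hk hkZ).symm
  -- for `t ∈ B`: `Z^n ∩ Z^(tm) = E`
  have key : ∀ t ∈ B, E ≤ conjZ A B (t * m) := by
    intro t ht
    have htS := h.B_le ht
    have htN := h.S_le_normalizer_A htS
    have htZ := h.S_le_normalizer_Z htS
    have e2 : (A ⊓ B) ⊓ conjZ A B (t * m) = D := by
      have h1 : D.map (MulAut.conj t).toMonoidHom = D := by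
        apply le_antisymm
        · rintro _ ⟨z, hz, rfl⟩
          show t * z * t⁻¹ ∈ D
          rw [← h.comm_Z (mem_inf.1 hz).1 htS, mul_inv_cancel_right]
          exact hz
        · intro z hz
          refine ⟨z, hz, ?_⟩
          show t * z * t⁻¹ = z
          rw [← h.comm_Z (mem_inf.1 hz).1 htS, mul_inv_cancel_right]
      rw [hD, Subgroup.map_inf _ _ _ (MulAut.conj t).injective, conj_conjZ,
        mem_normalizer_iff_map_conj.1 htZ] at h1
      exact h1
    have hntm : n⁻¹ * (t * m) ∉ normalizer ((A ⊓ B : Subgroup G) : Set G) := by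
      intro h1
      rw [← conjZ_eq_iff] at h1
      apply hne
      rw [hC, h1, e2]
    rcases hE (t * m) (mul_mem htN hm) hntm with h1 | h1
    · exfalso
      have h2 : C ≤ D := by
        rw [← e2, ← h1]
        refine le_inf ?_ inf_le_right
        rw [h1]
        exact inf_le_left
      rw [inf_eq_left.2 h2] at hCD
      rw [hCD, Subgroup.card_bot] at hCcard
      omega
    · rw [← h1]; exact inf_le_right
  -- `Z^m ∩ Z^(tm) = D` for `t ∈ B ∖ A`
  obtain ⟨t, ht, htA⟩ := h.neB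
  have htS := h.B_le ht
  have htN := h.S_le_normalizer_A htS
  have hmtm : m⁻¹ * (t * m) ∉ normalizer ((A ⊓ B : Subgroup G) : Set G) := by
    intro h1
    rw [← conjZ_eq_iff] at h1
    obtain ⟨γ, δ, h2⟩ := hDs 1
    refine hDh _ h2 (h.not_mem_of_ne one_ne_zero) t ht htA ?_
    rw [h1, ← conj_conjZ]
    exact conj_mem_map_conj h2 t
  have e3 : Nat.card (conjZ A B m ⊓ conjZ A B (t * m) : Subgroup G) = Nat.card F := by
    rw [inf_conjZ, card_map_conj]
    exact (inter h (mul_mem (inv_mem hm) (mul_mem htN hm)) hmtm).1.1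
  have h4 : D ≤ conjZ A B m ⊓ conjZ A B (t * m) := by
    intro z hz
    obtain ⟨hz1, hz2⟩ := mem_inf.1 hz
    refine mem_inf.2 ⟨hz2, ?_⟩
    rw [← conj_conjZ, mem_map_conj]
    have : t⁻¹ * z * t = z := by
      rw [mul_assoc, h.comm_Z hz1 htS, inv_mul_cancel_left]
    rw [this]; exact hz2
  have h5 : D = conjZ A B m ⊓ conjZ A B (t * m) :=
    Subgroup.eq_of_le_of_card_ge h4 (by rw [e3, hDcard])
  have h6 : E ≤ D := by
    rw [h5]
    have := key 1 (one_mem _)
    rw [one_mul] at this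
    exact le_inf this (key t ht)
  have h7 : E ≤ conjZ A B n := by
    have hnm : n⁻¹ * m ∉ normalizer ((A ⊓ B : Subgroup G) : Set G) := by
      intro h1
      rw [← conjZ_eq_iff] at h1
      apply hne
      rw [hC, h1]
    rcases hE m hm hnm with h1 | h1
    · exfalso
      have h2 : C ≤ D := by
        rw [hD, ← h1]
        refine le_inf ?_ inf_le_right
        rw [h1]
        exact inf_le_left
      rw [inf_eq_left.2 h2] at hCD
      rw [hCD, Subgroup.card_bot] at hCcard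
      omega
    · rw [← h1]; exact inf_le_left
  have h8 : E ≤ C ⊓ D := le_inf (le_inf (h6.trans inf_le_left) h7) h6
  rw [hCD, le_bot_iff] at h8
  rw [h8, Subgroup.card_bot] at hEcard
  omega

/-- **the subgroup `W`** -/
theorem exists_W (h : HalfC2 (S : Subgroup G) A B x y c d)
    (hN : ¬ normalizer (A : Set G) ≤ normalizer ((A ⊓ B : Subgroup G) : Set G)) :
    ∃ W : Subgroup G, (W = img c h.c_add ∨ W = img d h.d_add) ∧
      (∀ n ∈ normalizer (A : Set G), n ∉ normalizer ((A ⊓ B : Subgroup G) : Set G) →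
        (A ⊓ B) ⊓ conjZ A B n = W) ∧
      normalizer (A : Set G) ≤ normalizer (W : Set G) := by
  obtain ⟨m, hm, hmZ⟩ := SetLike.not_le_iff_exists.1 hN
  refine ⟨(A ⊓ B) ⊓ conjZ A B m, (inter h hm hmZ).1.2.1, fun n hn hnZ => not_both h hn hnZ hm hmZ, ?_⟩
  have key := fun n hn hnZ => not_both h (n := n) hn hnZ hm hmZ
  set W := (A ⊓ B) ⊓ conjZ A B m with hW
  intro n hn
  rw [mem_normalizer_iff_map_conj]
  by_cases hnZ : n ∈ normalizer ((A ⊓ B : Subgroup G) : Set G)
  · rw [hW, Subgroup.map_inf _ _ _ (MulAut.conj n).injective, conj_conjZ, mem_normalizer_iff_map_conj.1 hnZ]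
    refine key _ (mul_mem hn hm) fun h1 => hmZ ?_
    have := mul_mem (inv_mem hnZ) h1
    simpa using this
  · have hn'Z : n⁻¹ ∉ normalizer ((A ⊓ B : Subgroup G) : Set G) := fun h1 => hnZ (by simpa using inv_mem h1)
    rw [← key _ (inv_mem hn) hn'Z, Subgroup.map_inf _ _ _ (MulAut.conj n).injective, conj_conjZ,
      mul_inv_cancel, conjZ, map_conj_one, inf_comm, key _ (inv_mem hn) hn'Z]
    exact key n hn hnZ

end Cfsg.Agent.TypeSpFour.Inter
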