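import Mathlib
import Cfsg.Agent.TypeSpFour.Inter
import Cfsg.Agent.TypeSpFour.Desargues

/-!
# The action of `N(A)` on `A / W`

`S = AB` half of type `Sp₄(q)`, `N(A)` does not normalise `Z = A ∩ B`. The normal closure `X` of `S` in `N(A)` acts on
`A / W = F²` as `SL(2, F)`.
-/

set_option autoImplicit false

namespace Cfsg.Agent.TypeSpFour.Side

open Subgroup Cfsg.Agent.Lib.GoldschmidtFusion Cfsg.Agent.TypeL3 Cfsg.Agent.TypeSpFour.Half
open Cfsg.Agent.TypeSpFour.Inter Cfsg.Agent.TypeSpFour.Desargues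
open scoped commutatorElement

universe u

variable {F : Type*} [Field F] {G : Type u} [Group G]

/-- coordinates of `A / W` -/
structure Proj (A B W : Subgroup G) (π : G → F × F) : Prop where
  mul : ∀ a ∈ A, ∀ b ∈ A, π (a * b) = π a + π b
  ker : ∀ a ∈ A, (π a = 0 ↔ a ∈ W)
  surj : ∀ v, ∃ a ∈ A, π a = v
  axis : ∀ a ∈ A, (a ∈ B ↔ (π a).1 = 0)
  tau : ∀ t ∈ B, ∃ l : F, ∀ a ∈ A, π (t * a * t⁻¹) = ((π a).1, (π a).2 + l * (π a).1)
  tau_surj : ∀ l : F, ∃ t ∈ B, ∀ a ∈ A, π (t * a * t⁻¹) = ((π a).1, (π a).2 + l * (π a).1)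

variable {A B : Subgroup G} {x y c d : F → G}

theorem mul_A {S : Subgroup G} (h : HalfC2 S A B x y c d) (a γ δ a' γ' δ' : F) :
    x a * (c γ * d δ) * (x a' * (c γ' * d δ')) = x (a + a') * (c (γ + γ') * d (δ + δ')) := by
  rw [h.x_add, h.c_add, h.d_add]
  have h1 := h.A_comm _ (mem_inf.1 (mul_mem (h.c_mem γ) (h.d_mem δ))).1 _ (h.x_mem a')
  have h2 := h.A_comm _ (mem_inf.1 (h.d_mem δ)).1 _ (mem_inf.1 (h.c_mem γ')).1
  calc x a * (c γ * d δ) * (x a' * (c γ' * d δ')) = x a * ((c γ * d δ) * x a') * (c γ' * d δ') := by group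
    _ = x a * x a' * (c γ * (d δ * c γ') * d δ') := by rw [h1]; group
    _ = x a * x a' * (c γ * c γ' * (d δ * d δ')) := by rw [h2]; group

theorem x_mul_mem_B {S : Subgroup G} (h : HalfC2 S A B x y c d) {a γ δ : F} :
    x a * (c γ * d δ) ∈ B ↔ a = 0 := by
  refine ⟨h.mem_Z_of_mem_A, ?_⟩
  rintro rfl
  rw [hom_zero h.x_add, one_mul]
  exact (mem_inf.1 (mul_mem (h.c_mem _) (h.d_mem _))).2

theorem exists_sqrt [Finite F] (h2 : (2 : F) = 0) (l : F) : ∃ s : F, s ^ 2 = l := by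
  have hinj : Function.Injective (fun s : F => s ^ 2) := by
    intro s t hst
    have h3 : (s - t) ^ 2 = 0 := by
      have h4 : s ^ 2 = t ^ 2 := hst
      linear_combination h4 + (t ^ 2 - s * t) * h2
    exact sub_eq_zero.1 (pow_eq_zero_iff two_ne_zero |>.1 h3)
  exact (Finite.injective_iff_surjective.1 hinj) l

theorem exists_proj {S : Subgroup G} [Finite F] (h : HalfC2 S A B x y c d) {W : Subgroup G}
    (hW : W = img c h.c_add ∨ W = img d h.d_add) : ∃ π : G → F × F, Proj A B W π := by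
  classical
  have hex : ∀ g : G, ∃ p : F × F × F, g ∈ A → g = x p.1 * (c p.2.1 * d p.2.2) := by
    intro g
    by_cases hg : g ∈ A
    · obtain ⟨a, γ, δ, e⟩ := (h.mem_A' _).1 hg
      exact ⟨(a, γ, δ), fun _ => e⟩
    · exact ⟨0, fun h1 => absurd h1 hg⟩
  choose p hp using hex
  have hA : ∀ a γ δ, x a * (c γ * d δ) ∈ A := fun a γ δ => (h.mem_A' _).2 ⟨_, _, _, rfl⟩
  have hpe : ∀ a γ δ, p (x a * (c γ * d δ)) = (a, γ, δ) := by
    intro a γ δ
    obtain ⟨h1, h2, h3⟩ := h.inj_A (hp _ (hA a γ δ))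
    exact Prod.ext h1.symm (Prod.ext h2.symm h3.symm)
  rcases hW with rfl | rfl
  · -- `W = c (F)`
    refine ⟨fun g => ((p g).1, (p g).2.2), ?_, ?_, ?_, ?_, ?_, ?_⟩
    · intro a ha b hb
      obtain ⟨a, γ, δ, rfl⟩ := (h.mem_A' _).1 ha
      obtain ⟨b, γ', δ', rfl⟩ := (h.mem_A' _).1 hb
      rw [mul_A h, hpe, hpe, hpe]
      rfl
    · intro a ha
      obtain ⟨a, γ, δ, rfl⟩ := (h.mem_A' _).1 ha
      rw [hpe]
      constructor
      · intro h1
        have h2 : a = 0 := congrArg Prod.fst h1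
        have h3 : δ = 0 := congrArg Prod.snd h1
        subst h2 h3
        rw [hom_zero h.x_add, hom_zero h.d_add, one_mul, mul_one]
        exact ⟨γ, rfl⟩
      · rintro ⟨γ', e⟩
        have h1 : x a * (c γ * d δ) = x 0 * (c γ' * d 0) := by
          rw [hom_zero h.x_add, hom_zero h.d_add, one_mul, mul_one, e]
        obtain ⟨h2, h3, h4⟩ := h.inj_A h1
        rw [h2, h4]; rfl
    · intro v
      refine ⟨x v.1 * (c 0 * d v.2), hA _ _ _, ?_⟩
      rw [hpe]
    · intro a ha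
      obtain ⟨a, γ, δ, rfl⟩ := (h.mem_A' _).1 ha
      rw [hpe]
      exact x_mul_mem_B h
    · intro t ht
      obtain ⟨t, γ', δ', rfl⟩ := (h.mem_B' _).1 ht
      refine ⟨t ^ 2, fun a ha => ?_⟩
      obtain ⟨a, γ, δ, rfl⟩ := (h.mem_A' _).1 ha
      rw [h.conj_A, hpe, hpe, mul_comm (t ^ 2)]
    · intro l
      obtain ⟨t, rfl⟩ := exists_sqrt h.two_eq_zero l
      refine ⟨y t * (c 0 * d 0), (h.mem_B' _).2 ⟨_, _, _, rfl⟩, fun a ha => ?_⟩
      obtain ⟨a, γ, δ, rfl⟩ := (h.mem_A' _).1 ha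
      rw [h.conj_A, hpe, hpe, mul_comm (t ^ 2)]
  · -- `W = d (F)`
    refine ⟨fun g => ((p g).1, (p g).2.1), ?_, ?_, ?_, ?_, ?_, ?_⟩
    · intro a ha b hb
      obtain ⟨a, γ, δ, rfl⟩ := (h.mem_A' _).1 ha
      obtain ⟨b, γ', δ', rfl⟩ := (h.mem_A' _).1 hb
      rw [mul_A h, hpe, hpe, hpe]
      rfl
    · intro a ha
      obtain ⟨a, γ, δ, rfl⟩ := (h.mem_A' _).1 ha
      rw [hpe]
      constructor
      · intro h1
        have h2 : a = 0 := congrArg Prod.fst h1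
        have h3 : γ = 0 := congrArg Prod.snd h1
        subst h2 h3
        rw [hom_zero h.x_add, hom_zero h.c_add, one_mul, one_mul]
        exact ⟨δ, rfl⟩
      · rintro ⟨δ', e⟩
        have h1 : x a * (c γ * d δ) = x 0 * (c 0 * d δ') := by
          rw [hom_zero h.x_add, hom_zero h.c_add, one_mul, one_mul, e]
        obtain ⟨h2, h3, h4⟩ := h.inj_A h1
        rw [h2, h3]; rfl
    · intro v
      refine ⟨x v.1 * (c v.2 * d 0), hA _ _ _, ?_⟩
      rw [hpe]
    · intro a ha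
      obtain ⟨a, γ, δ, rfl⟩ := (h.mem_A' _).1 ha
      rw [hpe]
      exact x_mul_mem_B h
    · intro t ht
      obtain ⟨t, γ', δ', rfl⟩ := (h.mem_B' _).1 ht
      refine ⟨t, fun a ha => ?_⟩
      obtain ⟨a, γ, δ, rfl⟩ := (h.mem_A' _).1 ha
      rw [h.conj_A, hpe, hpe, mul_comm t]
    · intro l
      refine ⟨y l * (c 0 * d 0), (h.mem_B' _).2 ⟨_, _, _, rfl⟩, fun a ha => ?_⟩
      obtain ⟨a, γ, δ, rfl⟩ := (h.mem_A' _).1 ha
      rw [h.conj_A, hpe, hpe, mul_comm l]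

section proj

variable {W : Subgroup G} {π : G → F × F}

theorem Proj.one (P : Proj A B W π) : π 1 = 0 := by
  have h := P.mul 1 (one_mem _) 1 (one_mem _)
  rw [mul_one] at h
  exact left_eq_add.1 h

theorem Proj.inv (P : Proj A B W π) {a : G} (ha : a ∈ A) : π a⁻¹ = - π a := by
  rw [eq_neg_iff_add_eq_zero, ← P.mul _ (inv_mem ha) _ ha, inv_mul_cancel, P.one]

theorem Proj.eq_iff (P : Proj A B W π) {a b : G} (ha : a ∈ A) (hb : b ∈ A) : π a = π b ↔ a * b⁻¹ ∈ W := by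
  rw [← P.ker _ (mul_mem ha (inv_mem hb)), P.mul _ ha _ (inv_mem hb), P.inv hb, ← sub_eq_add_neg, sub_eq_zero]

/-- the action of `N(A)` on `A / W` -/
noncomputable def Proj.Phi (P : Proj A B W π) (n : G) (v : F × F) : F × F :=
  π (n * (P.surj v).choose * n⁻¹)

theorem Proj.Phi_apply (P : Proj A B W π) {n : G} (hn : n ∈ normalizer (A : Set G))
    (hnW : n ∈ normalizer (W : Set G)) {a : G} (ha : a ∈ A) : P.Phi n (π a) = π (n * a * n⁻¹) := by
  obtain ⟨h1, h2⟩ := (P.surj (π a)).choose_spec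
  rw [P.eq_iff h1 ha] at h2
  rw [Proj.Phi, P.eq_iff (conj_mem_of_mem_normalizer hn h1) (conj_mem_of_mem_normalizer hn ha)]
  have h3 := conj_mem_of_mem_normalizer hnW h2
  convert h3 using 1
  group

theorem Proj.addAct (P : Proj A B W π) (hNW : normalizer (A : Set G) ≤ normalizer (W : Set G)) :
    AddAct (normalizer (A : Set G)) (fun n v => P.Phi (n : G) v) where
  one := by
    intro v
    obtain ⟨a, ha, rfl⟩ := P.surj v
    show P.Phi 1 (π a) = π a
    rw [P.Phi_apply (one_mem _) (one_mem _) ha]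
    simp
  mul := by
    intro m n v
    obtain ⟨a, ha, rfl⟩ := P.surj v
    show P.Phi ((m : G) * n) (π a) = P.Phi (m : G) (P.Phi (n : G) (π a))
    rw [P.Phi_apply n.2 (hNW n.2) ha, P.Phi_apply m.2 (hNW m.2) (conj_mem_of_mem_normalizer n.2 ha),
      P.Phi_apply (mul_mem m.2 n.2) (hNW (mul_mem m.2 n.2)) ha]
    congr 1
    group
  add := by
    intro n v w
    obtain ⟨a, ha, rfl⟩ := P.surj v
    obtain ⟨b, hb, rfl⟩ := P.surj w
    show P.Phi (n : G) (π a + π b) = P.Phi (n : G) (π a) + P.Phi (n : G) (π b)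
    rw [← P.mul a ha b hb, P.Phi_apply n.2 (hNW n.2) (mul_mem ha hb), P.Phi_apply n.2 (hNW n.2) ha,
      P.Phi_apply n.2 (hNW n.2) hb,
      ← P.mul _ (conj_mem_of_mem_normalizer n.2 ha) _ (conj_mem_of_mem_normalizer n.2 hb)]
    congr 1
    group

end proj

/-- the normal closure of `S` in `N(A)` -/
def ncl (S A : Subgroup G) : Subgroup G :=
  closure {g | ∃ n ∈ normalizer (A : Set G), ∃ s ∈ S, g = n * s * n⁻¹}

theorem le_ncl {S A : Subgroup G} : S ≤ ncl S A := fun s hs =>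
  subset_closure ⟨1, one_mem _, s, hs, by simp⟩

theorem ncl_le {S A : Subgroup G} (hS : S ≤ normalizer (A : Set G)) : ncl S A ≤ normalizer (A : Set G) := by
  rw [ncl, closure_le]
  rintro _ ⟨n, hn, s, hs, rfl⟩
  exact mul_mem (mul_mem hn (hS hs)) (inv_mem hn)

theorem ncl_conj {S A : Subgroup G} {n g : G} (hn : n ∈ normalizer (A : Set G)) (hg : g ∈ ncl S A) :
    n * g * n⁻¹ ∈ ncl S A := by
  have h : ncl S A ≤ (ncl S A).comap (MulAut.conj n).toMonoidHom := by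
    rw [ncl, closure_le]
    rintro _ ⟨m, hm, s, hs, rfl⟩
    refine subset_closure ⟨n * m, mul_mem hn hm, s, hs, ?_⟩
    show n * (m * s * m⁻¹) * n⁻¹ = _
    group
  exact h hg

/-- the data of one side of a group with Sylow 2-subgroup of type `Sp₄(q)` -/
structure SideData (F : Type*) [Field F] {G : Type u} [Group G] (S A B W X : Subgroup G)
    (φ : X →* Matrix.SpecialLinearGroup (Fin 2) F) : Prop where
  X_le : X ≤ normalizer (A : Set G)
  S_le : S ≤ X
  norm : ∀ g ∈ normalizer (A : Set G), ∀ x ∈ X, g * x * g⁻¹ ∈ X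
  surj : Function.Surjective φ
  ker : φ.ker = (centralizer (A : Set G)).subgroupOf X
  W_eq : W = A ⊓ centralizer (X : Set G)
  W_le : W ≤ A ⊓ B
  card_W : Nat.card W = Nat.card F
  card_Z : Nat.card (A ⊓ B : Subgroup G) = Nat.card F ^ 2
  card_A : Nat.card A = Nat.card F ^ 3
  N_le : normalizer (A : Set G) ≤ normalizer (W : Set G)
  inter : ∀ n ∈ normalizer (A : Set G), n ∉ normalizer ((A ⊓ B : Subgroup G) : Set G) →
    (A ⊓ B) ⊓ conjZ A B n = W
  odd : Odd (X.relIndex (normalizer (A : Set G)))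
  cover : ∀ a ∈ A, ∃ n ∈ X, n * a * n⁻¹ ∈ A ⊓ B

end Cfsg.Agent.TypeSpFour.Side
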