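import Mathlib
import Cfsg.Agent.TypeSpFour.Side

/-!
# Existence of the side data
-/

set_option autoImplicit false

namespace Cfsg.Agent.TypeSpFour.SideMain

open Subgroup Cfsg.Agent.Lib.GoldschmidtFusion Cfsg.Agent.TypeL3 Cfsg.Agent.TypeSpFour.Half
open Cfsg.Agent.TypeSpFour.Inter Cfsg.Agent.TypeSpFour.Desargues Cfsg.Agent.TypeSpFour.Side
open scoped commutatorElement

universe u

variable {F : Type*} [Field F] {G : Type u} [Group G] [Finite G] {A B : Subgroup G}

/-- 2-elements of `N(Z)` centralise `Z` -/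
theorem comm_of_pow {S : Sylow 2 G} (h : IsAB (S : Subgroup G) A B) {t : G} {k : ℕ} (ht : t ^ 2 ^ k = 1)
    (htN : t ∈ normalizer ((A ⊓ B : Subgroup G) : Set G)) {z : G} (hz : z ∈ A ⊓ B) : t * z = z * t := by
  have hZN := h.S_le_normalizer_Z
  have hzp : IsPGroup 2 (zpowers t) := by
    rw [IsPGroup.iff_card, Nat.card_zpowers]
    obtain ⟨j, -, hj⟩ := (Nat.dvd_prime_pow Nat.prime_two).1 (orderOf_dvd_of_pow_eq_one ht)
    exact ⟨j, hj⟩
  obtain ⟨n, hn, hle⟩ := exists_conj_le_in (p := 2) S.isPGroup' (sylow_not_dvd_relIndex S hZN)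
    (zpowers_le.2 htN) hzp
  have h1 : n * t * n⁻¹ ∈ (S : Subgroup G) := hle ⟨t, mem_zpowers t, by simp⟩
  have h2 := h.comm_Z (conj_mem_of_mem_normalizer hn hz) h1
  calc t * z = n⁻¹ * (n * t * n⁻¹ * (n * z * n⁻¹)) * n := by group
    _ = z * t := by rw [← h2]; group

/-- an odd power of `g` is a 2-element -/
theorem exists_odd_pow (g : G) : ∃ j k : ℕ, (g ^ (2 * j + 1)) ^ 2 ^ k = 1 := by
  obtain ⟨k, m, hm, e⟩ := Nat.exists_eq_two_pow_mul_odd (orderOf_pos g).ne'
  obtain ⟨j, rfl⟩ := hm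
  refine ⟨j, k, ?_⟩
  rw [← pow_mul, mul_comm, ← e, pow_orderOf_eq_one]

variable [Finite F] {x y c d : F → G} {S : Sylow 2 G}

theorem exists_side (h : HalfC2 (S : Subgroup G) A B x y c d)
    (hN : ¬ normalizer (A : Set G) ≤ normalizer ((A ⊓ B : Subgroup G) : Set G)) :
    ∃ (W : Subgroup G) (φ : ncl (S : Subgroup G) A →* Matrix.SpecialLinearGroup (Fin 2) F),
      (W = img c h.c_add ∨ W = img d h.d_add) ∧ SideData F (S : Subgroup G) A B W (ncl (S : Subgroup G) A) φ := by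
  classical
  obtain ⟨m, hm, hmZ⟩ := SetLike.not_le_iff_exists.1 hN
  obtain ⟨W, hW, hWi, hNW⟩ := exists_W h hN
  obtain ⟨π, P⟩ := exists_proj h hW
  have hSA := h.S_le_normalizer_A
  have hWZ : W ≤ A ⊓ B := by
    rcases hW with rfl | rfl
    · exact img_c_le h
    · exact img_d_le h
  have hWA : W ≤ A := hWZ.trans inf_le_left
  set X := ncl (S : Subgroup G) A with hX
  have hXN : X ≤ normalizer (A : Set G) := ncl_le hSA
  -- the action
  have hΦ := P.addAct hNW
  have hPhi : ∀ {n : G} (_ : n ∈ normalizer (A : Set G)) {a : G} (_ : a ∈ A), P.Phi n (π a) = π (n * a * n⁻¹) :=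
    fun hn _ ha => P.Phi_apply hn (hNW hn) ha
  have ha : ∀ l : F, ∃ n : normalizer (A : Set G), ∀ v, P.Phi (n : G) v = (v.1, v.2 + l * v.1) := by
    intro l
    obtain ⟨t, ht, hl⟩ := P.tau_surj l
    refine ⟨⟨t, hSA (h.B_le ht)⟩, fun v => ?_⟩
    obtain ⟨a, ha, rfl⟩ := P.surj v
    show P.Phi t (π a) = _
    rw [hPhi (hSA (h.B_le ht)) ha]
    exact hl a ha
  have hb0 : ∀ n : normalizer (A : Set G), (n : G) ∉ normalizer ((A ⊓ B : Subgroup G) : Set G) →
      ∀ v : F × F, v.1 = 0 → (P.Phi (n : G) v).1 = 0 → v = 0 := by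
    intro n hnZ v hv h1
    obtain ⟨a, ha, rfl⟩ := P.surj v
    rw [hPhi n.2 ha] at h1
    have haZ : a ∈ A ⊓ B := mem_inf.2 ⟨ha, (P.axis a ha).2 hv⟩
    have h2 := conj_mem_of_mem_normalizer n.2 ha
    have h3 : (n : G) * a * (n : G)⁻¹ ∈ W := by
      rw [← hWi n n.2 hnZ]
      exact mem_inf.2 ⟨mem_inf.2 ⟨h2, (P.axis _ h2).2 h1⟩, conj_mem_map_conj haZ _⟩
    exact (P.ker a ha).2 ((conj_mem_iff_of_mem_normalizer (hNW n.2)).1 h3)
  have hb : ∀ n : normalizer (A : Set G), (∀ v : F × F, v.1 = 0 → (P.Phi (n : G) v).1 = 0) ∨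
      (∀ v : F × F, v.1 = 0 → (P.Phi (n : G) v).1 = 0 → v = 0) := by
    intro n
    by_cases hnZ : (n : G) ∈ normalizer ((A ⊓ B : Subgroup G) : Set G)
    · left
      intro v hv
      obtain ⟨a, ha, rfl⟩ := P.surj v
      rw [hPhi n.2 ha]
      have haZ : a ∈ A ⊓ B := mem_inf.2 ⟨ha, (P.axis a ha).2 hv⟩
      exact (P.axis _ (conj_mem_of_mem_normalizer n.2 ha)).1 (mem_inf.1 (conj_mem_of_mem_normalizer hnZ haZ)).2
    · exact Or.inr (hb0 n hnZ)
  obtain ⟨f, hfadd, hM, hgen⟩ := Desargues.main hΦ ha hb ⟨⟨m, hm⟩, hb0 ⟨m, hm⟩ hmZ⟩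
  have hf0 : f 0 = 0 := by
    have := hfadd 0 0
    rw [add_zero] at this
    exact left_eq_add.1 this
  -- new coordinates
  set pf : G → F × F := fun g => shear f (π g) with hpf
  have pf_surj : ∀ v, ∃ a ∈ A, pf a = v := by
    intro v
    obtain ⟨a, ha, e⟩ := P.surj (shear' f v)
    exact ⟨a, ha, by simp only [hpf]; rw [e, shear_shear']⟩
  have pf_eq : ∀ {a b : G}, pf a = pf b → π a = π b := by
    intro a b hab
    have := congrArg (shear' f) hab
    rwa [shear'_shear, shear'_shear] at this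
  -- elements of `S` act as transvections
  have htau : ∀ s ∈ (S : Subgroup G), ∃ l : F, ∀ v, P.Phi s v = (v.1, v.2 + l * v.1) := by
    intro s hs
    obtain ⟨a0, ha0, b0, hb0', rfl⟩ := h.prod s hs
    obtain ⟨l, hl⟩ := P.tau b0 hb0'
    refine ⟨l, fun v => ?_⟩
    obtain ⟨a, ha, rfl⟩ := P.surj v
    rw [hPhi (hSA hs) ha, ← hl a ha]
    congr 1
    have h1 := conj_mem_of_mem_normalizer (hSA (h.B_le hb0')) ha
    have h2 := h.A_comm _ ha0 _ h1
    calc a0 * b0 * a * (a0 * b0)⁻¹ = (a0 * (b0 * a * b0⁻¹)) * a0⁻¹ := by group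
      _ = b0 * a * b0⁻¹ := by rw [h2]; group
  -- elements of `X` act as elements of `SL(2, F)`
  have hact : ∀ g ∈ X, ∃ M : Matrix.SpecialLinearGroup (Fin 2) F, ∀ a ∈ A, pf (g * a * g⁻¹) = act M (pf a) := by
    intro g hg
    have hg' : g ∈ closure {g | ∃ n ∈ normalizer (A : Set G), ∃ s ∈ (S : Subgroup G), g = n * s * n⁻¹} := hg
    induction hg' using closure_induction with
    | mem g hg1 =>
      obtain ⟨n, hn, s, hs, rfl⟩ := hg1
      obtain ⟨M, hM'⟩ := hM ⟨n, hn⟩ ⟨s, hSA hs⟩ (htau s hs)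
      refine ⟨M, fun a ha => ?_⟩
      rw [← hM' (π a)]
      show shear f _ = shear f (P.Phi (n * s * n⁻¹) (π a))
      rw [hPhi (mul_mem (mul_mem hn (hSA hs)) (inv_mem hn)) ha]
    | one => exact ⟨1, fun a _ => by rw [act_one]; simp⟩
    | mul g g' hg1 hg2 ih1 ih2 =>
      obtain ⟨M, hM1⟩ := ih1 hg1
      obtain ⟨M', hM2⟩ := ih2 hg2
      refine ⟨M * M', fun a ha => ?_⟩
      rw [act_mul, ← hM2 a ha, ← hM1 _ (conj_mem_of_mem_normalizer (hXN hg2) ha)]
      congr 1
      group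
    | inv g hg1 ih1 =>
      obtain ⟨M, hM1⟩ := ih1 hg1
      refine ⟨M⁻¹, fun a ha => ?_⟩
      symm
      apply act_inv
      rw [← hM1 _ (conj_mem_of_mem_normalizer (inv_mem (hXN hg1)) ha)]
      congr 1
      group
  have huniq : ∀ {g : G} {M M' : Matrix.SpecialLinearGroup (Fin 2) F}, (∀ a ∈ A, pf (g * a * g⁻¹) = act M (pf a)) →
      (∀ a ∈ A, pf (g * a * g⁻¹) = act M' (pf a)) → M = M' := by
    intro g M M' h1 h2
    apply act_inj
    intro v
    obtain ⟨a, ha, rfl⟩ := pf_surj v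
    rw [← h1 a ha, ← h2 a ha]
  let φ : X →* Matrix.SpecialLinearGroup (Fin 2) F := MonoidHom.mk' (fun g => (hact g g.2).choose) (by
    intro g g'
    refine huniq (g := (g : G) * g') (hact _ (g * g').2).choose_spec ?_
    intro a ha
    rw [act_mul, ← (hact _ g'.2).choose_spec a ha,
      ← (hact _ g.2).choose_spec _ (conj_mem_of_mem_normalizer (hXN g'.2) ha)]
    congr 1
    group)
  have hφ : ∀ (g : X), ∀ a ∈ A, pf ((g : G) * a * (g : G)⁻¹) = act (φ g) (pf a) :=
    fun g => (hact g g.2).choose_spec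
  have hsurj : Function.Surjective φ := by
    rw [← MonoidHom.range_eq_top]
    apply hgen
    intro n t M ht hM'
    obtain ⟨l, hl⟩ := ht
    obtain ⟨s, hs, hl'⟩ := P.tau_surj l
    have hsS := h.B_le hs
    have hgX : (n : G) * s * (n : G)⁻¹ ∈ X := subset_closure ⟨n, n.2, s, hsS, rfl⟩
    refine ⟨⟨_, hgX⟩, huniq (g := (n : G) * s * (n : G)⁻¹) (hφ ⟨_, hgX⟩) ?_⟩
    intro a ha
    rw [← hM' (π a)]
    show shear f _ = shear f (P.Phi ((n : G) * t * (n : G)⁻¹) (π a))
    have hb1 : (n : G)⁻¹ * a * n ∈ A := by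
      have := conj_mem_of_mem_normalizer (inv_mem n.2) ha
      simpa using this
    have e1 : P.Phi ((n : G) * t * (n : G)⁻¹) (π a) = P.Phi (n : G) (P.Phi (t : G) (π ((n : G)⁻¹ * a * n))) := by
      rw [hPhi t.2 hb1, hPhi n.2 (conj_mem_of_mem_normalizer t.2 hb1),
        hPhi (mul_mem (mul_mem n.2 t.2) (inv_mem n.2)) ha]
      congr 1
      group
    have e2 : P.Phi (t : G) (π ((n : G)⁻¹ * a * n)) = P.Phi s (π ((n : G)⁻¹ * a * n)) := by
      rw [hPhi (hSA hsS) hb1, hl' _ hb1]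
      exact hl _
    rw [e1, e2, hPhi (hSA hsS) hb1, hPhi n.2 (conj_mem_of_mem_normalizer (hSA hsS) hb1)]
    congr 2
    group
  -- `X` centralises `W`
  have hXW : ∀ g ∈ X, ∀ w ∈ W, g * w = w * g := by
    intro g hg
    have hg' : g ∈ closure {g | ∃ n ∈ normalizer (A : Set G), ∃ s ∈ (S : Subgroup G), g = n * s * n⁻¹} := hg
    have : closure {g | ∃ n ∈ normalizer (A : Set G), ∃ s ∈ (S : Subgroup G), g = n * s * n⁻¹} ≤
        centralizer (W : Set G) := by
      rw [closure_le]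
      rintro _ ⟨n, hn, s, hs, rfl⟩
      rw [SetLike.mem_coe, mem_centralizer_iff]
      intro w hw
      have h1 := conj_mem_of_mem_normalizer (inv_mem (hNW hn)) hw
      rw [inv_inv] at h1
      have h2 := h.comm_Z (hWZ h1) hs
      calc w * (n * s * n⁻¹) = n * ((n⁻¹ * w * n) * s) * n⁻¹ := by group
        _ = n * s * n⁻¹ * w := by rw [h2]; group
    intro w hw
    exact ((mem_centralizer_iff.1 (this hg')) w hw).symm
  -- `A = Z Z^m`
  have hAZ : ∀ a ∈ A, ∃ z ∈ A ⊓ B, ∃ z' ∈ conjZ A B m, a = z' * z := by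
    intro a ha
    obtain ⟨a, γ, δ, rfl⟩ := (h.mem_A' _).1 ha
    obtain ⟨γ', δ', h1⟩ := (Inter.inter h hm hmZ).1.2.2 a
    refine ⟨(c γ' * d δ')⁻¹ * (c γ * d δ), mul_mem (inv_mem (mul_mem (h.c_mem _) (h.d_mem _)))
      (mul_mem (h.c_mem _) (h.d_mem _)), _, h1, by group⟩
  -- the kernel
  have hker0 : ∀ g ∈ X, (∀ a ∈ A, g * a * g⁻¹ * a⁻¹ ∈ W) → ∀ a ∈ A, g * a = a * g := by
    intro g hg hgW
    have hsq : ∀ a ∈ A, (g * g) * a = a * (g * g) := by
      intro a ha
      set w := g * a * g⁻¹ * a⁻¹ with hw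
      have hwW : w ∈ W := hgW a ha
      have e1 : g * a * g⁻¹ = w * a := by rw [hw]; group
      have e2 := hXW g hg w hwW
      have e3 : w * w = 1 := h.A_sq _ (hWA hwW)
      have e4 : g * g * a * (g * g)⁻¹ = a := by
        calc g * g * a * (g * g)⁻¹ = g * (g * a * g⁻¹) * g⁻¹ := by group
          _ = (g * w) * a * g⁻¹ := by rw [e1]; group
          _ = w * (g * a * g⁻¹) := by rw [e2]; group
          _ = (w * w) * a := by rw [e1]; group
          _ = a := by rw [e3, one_mul]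
      calc g * g * a = g * g * a * (g * g)⁻¹ * (g * g) := by group
        _ = a * (g * g) := by rw [e4]
    obtain ⟨j, k, hjk⟩ := exists_odd_pow g
    -- the 2-element
    set g1 := g ^ (2 * j + 1) with hg1
    have e5 : g1 = (g * g) ^ j * g := by rw [hg1, pow_succ, pow_mul, pow_two]
    have hcj : ∀ a ∈ A, (g * g) ^ j * a = a * (g * g) ^ j := fun a ha =>
      ((show Commute (g * g) a from hsq a ha).pow_left j).eq
    have hg1X : g1 ∈ X := pow_mem hg _
    have hg1W : ∀ a ∈ A, g1 * a * g1⁻¹ * a⁻¹ ∈ W := by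
      intro a ha
      have h1 := conj_mem_of_mem_normalizer (hXN hg) ha
      have h2 := hcj _ h1
      have : g1 * a * g1⁻¹ = g * a * g⁻¹ := by
        rw [e5]
        calc (g * g) ^ j * g * a * ((g * g) ^ j * g)⁻¹ = ((g * g) ^ j * (g * a * g⁻¹)) * ((g * g) ^ j)⁻¹ := by group
          _ = g * a * g⁻¹ := by rw [h2]; group
      rw [this]; exact hgW a ha
    -- `g1` centralises each conjugate of `Z`
    have hcentZ : ∀ n ∈ normalizer (A : Set G), ∀ z ∈ conjZ A B n, g1 * z = z * g1 := by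
      intro n hn z hz
      have hz' := mem_conjZ.1 hz
      have h1 : (n⁻¹ * g1 * n) ^ 2 ^ k = 1 := by
        have : (n⁻¹ * g1 * n) ^ 2 ^ k = n⁻¹ * g1 ^ 2 ^ k * n := by
          have := conj_pow (i := 2 ^ k) (a := n⁻¹) (b := g1)
          rw [inv_inv] at this
          exact this
        rw [this, hjk]; group
      have hW1 : ∀ a ∈ A, (n⁻¹ * g1 * n) * a * (n⁻¹ * g1 * n)⁻¹ * a⁻¹ ∈ W := by
        intro a ha
        have h3 := hg1W (n * a * n⁻¹) (conj_mem_of_mem_normalizer hn ha)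
        have h4 := conj_mem_of_mem_normalizer (inv_mem (hNW hn)) h3
        convert h4 using 1
        group
      have h2 : n⁻¹ * g1 * n ∈ normalizer ((A ⊓ B : Subgroup G) : Set G) := by
        rw [mem_normalizer_iff_map_conj]
        refine Subgroup.eq_of_le_of_card_ge ?_ (by rw [card_map_conj])
        rintro _ ⟨z, hz, rfl⟩
        show (n⁻¹ * g1 * n) * z * (n⁻¹ * g1 * n)⁻¹ ∈ A ⊓ B
        have h3 := mul_mem (hWZ (hW1 z (mem_inf.1 hz).1)) hz
        rwa [inv_mul_cancel_right] at h3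
      have h3 := comm_of_pow h.toIsAB h1 h2 hz'
      calc g1 * z = n * ((n⁻¹ * g1 * n) * (n⁻¹ * z * n)) * n⁻¹ := by group
        _ = z * g1 := by rw [h3]; group
    have hg1A : ∀ a ∈ A, g1 * a = a * g1 := by
      intro a ha
      obtain ⟨z, hz, z', hz', rfl⟩ := hAZ a ha
      have h1 := hcentZ 1 (one_mem _) z (by rw [conjZ, map_conj_one]; exact hz)
      have h2 := hcentZ m hm z' hz'
      calc g1 * (z' * z) = (g1 * z') * z := by group
        _ = z' * (g1 * z) := by rw [h2]; group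
        _ = z' * z * g1 := by rw [h1]; group
    intro a ha
    have h1 := hg1A a ha
    have h2 := hcj a ha
    have e6 : g = ((g * g) ^ j)⁻¹ * g1 := by rw [e5]; group
    have h3 : ((g * g) ^ j)⁻¹ * a = a * ((g * g) ^ j)⁻¹ :=
      ((show Commute ((g * g) ^ j) a from h2).inv_left).eq
    calc g * a = ((g * g) ^ j)⁻¹ * (g1 * a) := by
          conv_lhs => rw [e6]
          group
      _ = (((g * g) ^ j)⁻¹ * a) * g1 := by rw [h1]; group
      _ = a * (((g * g) ^ j)⁻¹ * g1) := by rw [h3]; group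
      _ = a * g := by rw [← e6]
  refine ⟨W, φ, hW, ⟨hXN, le_ncl, fun g hg x hx => ncl_conj hg hx, hsurj, ?_, ?_, hWZ, ?_, h.card_Z, h.card_A, hNW,
    hWi, ?_, ?_⟩⟩
  · -- kernel
    ext g
    rw [MonoidHom.mem_ker, mem_subgroupOf, mem_centralizer_iff]
    constructor
    · intro h1 a ha
      refine (hker0 g g.2 ?_ a ha).symm
      intro a ha
      have h2 := hφ g a ha
      rw [h1, act_one] at h2
      exact (P.eq_iff (conj_mem_of_mem_normalizer (hXN g.2) ha) ha).1 (pf_eq h2)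
    · intro h1
      refine huniq (g := (g : G)) (hφ g) ?_
      intro a ha
      rw [act_one, ← h1 a ha, mul_inv_cancel_right]
  · -- `W = C_A(X)`
    apply le_antisymm
    · intro w hw
      refine mem_inf.2 ⟨hWA hw, mem_centralizer_iff.2 fun g hg => hXW g hg w hw⟩
    · intro a ha
      obtain ⟨ha1, ha2⟩ := mem_inf.1 ha
      rw [mem_centralizer_iff] at ha2
      have h1 : a ∈ A ⊓ B := h.mem_Z_of_comm (h.A_le ha1) fun t ht => ha2 t (le_ncl ht)
      have h2 : m⁻¹ * a * m ∈ A ⊓ B := by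
        have h3 : m⁻¹ * a * m ∈ A := by
          have := conj_mem_of_mem_normalizer (inv_mem hm) ha1
          simpa using this
        refine h.mem_Z_of_comm (h.A_le h3) fun t ht => ?_
        have h4 := ha2 (m * t * m⁻¹) (subset_closure ⟨m, hm, t, ht, rfl⟩)
        calc t * (m⁻¹ * a * m) = m⁻¹ * ((m * t * m⁻¹) * a) * m := by group
          _ = m⁻¹ * a * m * t := by rw [h4]; group
      rw [← hWi m hm hmZ]
      exact mem_inf.2 ⟨h1, mem_conjZ.2 h2⟩
  · rcases hW with rfl | rfl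
    · exact card_img_c h
    · exact card_img_d h
  · -- odd index
    rw [← Nat.not_even_iff_odd, even_iff_two_dvd]
    intro h1
    apply sylow_not_dvd_relIndex S (R := normalizer (A : Set G)) hSA
    rw [← Subgroup.relIndex_mul_relIndex (S : Subgroup G) X (normalizer (A : Set G)) le_ncl hXN]
    exact Dvd.dvd.mul_left h1 _
  · -- covering
    intro a ha
    by_cases haB : a ∈ B
    · exact ⟨1, one_mem _, by simpa using ⟨ha, haB⟩⟩
    have hα : (π a).1 ≠ 0 := fun h1 => haB ((P.axis a ha).2 h1)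
    set v := pf a with hv
    have hv1 : v.1 ≠ 0 := hα
    let M : Matrix.SpecialLinearGroup (Fin 2) F := ⟨!![v.2, -v.1; v.1⁻¹, 0], by
      rw [Matrix.det_fin_two_of]; field_simp; ring⟩
    obtain ⟨g, hg⟩ := hsurj M
    refine ⟨g, g.2, ?_⟩
    have h1 := hφ g a ha
    rw [hg] at h1
    have h2 : (pf ((g : G) * a * (g : G)⁻¹)).1 = 0 := by
      rw [h1]
      show v.2 * v.1 + -v.1 * v.2 = 0
      ring
    have h3 := conj_mem_of_mem_normalizer (hXN g.2) ha
    exact mem_inf.2 ⟨h3, (P.axis _ h3).2 h2⟩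

end Cfsg.Agent.TypeSpFour.SideMain
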