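import Mathlib
import Cfsg.Agent.TypeSpFour.SideMain

/-!
# Both sides

`TwoSided`: the data of both sides for a Sylow 2-subgroup `S = AB` of type `Sp₄(q)` in a finite simple group, and the
resulting fusion: `N(S)` controls fusion of elements of `Z = A ∩ B = W_A × W_B`.
-/

set_option autoImplicit false

namespace Cfsg.Agent.TypeSpFour.Both

open Subgroup Cfsg.Agent.Lib.GoldschmidtFusion Cfsg.Agent.TypeL3 Cfsg.Agent.TypeSpFour.Half
open Cfsg.Agent.TypeSpFour.Inter Cfsg.Agent.TypeSpFour.Desargues Cfsg.Agent.TypeSpFour.Side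
open Cfsg.Agent.TypeSpFour.SideMain
open scoped commutatorElement

universe u

variable {F : Type*} [Field F] {G : Type u} [Group G] {A B : Subgroup G}

/-- the other side -/
theorem swap [Finite F] {S : Subgroup G} {x y c d : F → G} (h : HalfC2 S A B x y c d) :
    HalfC2 S B A y (fun s => x (s ^ 2)) (fun s => d (s ^ 2)) c := by
  have h2 := h.two_eq_zero
  have hsq : ∀ a b : F, (a + b) ^ 2 = a ^ 2 + b ^ 2 := fun a b => by linear_combination (a * b) * h2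
  have hcomm : ∀ γ δ, c γ * d δ = d δ * c γ := fun γ δ =>
    h.A_comm _ (mem_inf.1 (h.c_mem γ)).1 _ (mem_inf.1 (h.d_mem δ)).1
  exact
  { h.toIsAB.symm with
    x_add := h.y_add
    y_add := fun a b => by rw [hsq, h.x_add]
    c_add := fun a b => by rw [hsq, h.d_add]
    d_add := h.c_add
    mem_A' := by
      intro g
      rw [h.mem_B']
      constructor
      · rintro ⟨t, γ, δ, rfl⟩
        obtain ⟨s, rfl⟩ := exists_sqrt h2 δ
        exact ⟨t, s, γ, by rw [hcomm]⟩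
      · rintro ⟨t, γ, δ, rfl⟩
        exact ⟨t, δ, γ ^ 2, by rw [hcomm]⟩
    mem_B' := by
      intro g
      rw [h.mem_A']
      constructor
      · rintro ⟨t, γ, δ, rfl⟩
        obtain ⟨s, rfl⟩ := exists_sqrt h2 δ
        obtain ⟨r, rfl⟩ := exists_sqrt h2 t
        exact ⟨r, s, γ, by rw [hcomm]⟩
      · rintro ⟨t, γ, δ, rfl⟩
        exact ⟨t ^ 2, δ, γ ^ 2, by rw [hcomm]⟩
    mem_Z' := by
      intro g
      rw [inf_comm, h.mem_Z']
      constructor
      · rintro ⟨γ, δ, rfl⟩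
        obtain ⟨s, rfl⟩ := exists_sqrt h2 δ
        exact ⟨s, γ, by rw [hcomm]⟩
      · rintro ⟨γ, δ, rfl⟩
        exact ⟨δ, γ ^ 2, by rw [hcomm]⟩
    inj_Z := by
      intro γ δ e
      rw [← hcomm] at e
      obtain ⟨h3, h4⟩ := h.inj_Z _ _ e
      exact ⟨pow_eq_zero_iff two_ne_zero |>.1 h4, h3⟩
    comm := by
      intro a t
      have h3 := h.comm (t ^ 2) a
      have h4 : y a * x (t ^ 2) * (y a)⁻¹ * (x (t ^ 2))⁻¹ = (x (t ^ 2) * y a * (x (t ^ 2))⁻¹ * (y a)⁻¹)⁻¹ := by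
        group
      have h5 : c (t ^ 2 * a) * d (t ^ 2 * a ^ 2) ∈ A ⊓ B := mul_mem (h.c_mem _) (h.d_mem _)
      rw [h4, h3, inv_eq_of_mul_eq_one_left (h.A_sq _ (mem_inf.1 h5).1), hcomm, mul_pow, mul_comm (t ^ 2) a,
        mul_comm (t ^ 2) (a ^ 2)] }

/-- the data of both sides -/
structure TwoSided (F : Type*) [Field F] {G : Type u} [Group G] (S A B WA WB : Subgroup G)
    (φA : ncl S A →* Matrix.SpecialLinearGroup (Fin 2) F) (φB : ncl S B →* Matrix.SpecialLinearGroup (Fin 2) F) :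
    Prop extends IsAB S A B where
  sideA : SideData F S A B WA (ncl S A) φA
  sideB : SideData F S B A WB (ncl S B) φB
  disj : WA ⊓ WB = ⊥
  exists_mul : ∀ z ∈ A ⊓ B, ∃ a ∈ WA, ∃ b ∈ WB, z = a * b

theorem TwoSided.symm {S WA WB : Subgroup G}
    {φA : ncl S A →* Matrix.SpecialLinearGroup (Fin 2) F} {φB : ncl S B →* Matrix.SpecialLinearGroup (Fin 2) F}
    (T : TwoSided F S A B WA WB φA φB) : TwoSided F S B A WB WA φB φA :=
  { T.toIsAB.symm with
    sideA := T.sideB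
    sideB := T.sideA
    disj := by rw [inf_comm]; exact T.disj
    exists_mul := by
      intro z hz
      rw [inf_comm] at hz
      obtain ⟨a, ha, b, hb, rfl⟩ := T.exists_mul z hz
      exact ⟨b, hb, a, ha, T.A_comm _ (mem_inf.1 (T.sideA.W_le ha)).1 _ (mem_inf.1 (T.sideB.W_le hb)).2⟩ }

section finite

variable [Finite G]

theorem stronglyClosed_of_normalizer {S : Sylow 2 G} (h : IsAB (S : Subgroup G) A B) {W : Subgroup G}
    (hW : W ≤ A ⊓ B) (hA : normalizer (A : Set G) ≤ normalizer (W : Set G))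
    (hB : normalizer (B : Set G) ≤ normalizer (W : Set G)) : Cfsg.IsStronglyClosed W (S : Subgroup G) := by
  refine ⟨hW.trans h.Z_le, fun x hx g hg => ?_⟩
  have h1 : zpowers x ≤ (S : Subgroup G) := zpowers_le.2 (h.Z_le (hW hx))
  have h2 := h.gen_AB h1 (zpowers_map_conj_le hg)
  have h3 := h2.invariant (fun y => y ∈ W) ?_ x (mem_zpowers x)
  · exact (iff_of_eq h3).2 hx
  · intro X hXS hX n hn y hy
    apply propext
    rcases hX with rfl | rfl | rfl
    · exact conj_mem_iff_of_mem_normalizer (hA (h.normalizer_le_A hn))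
    · exact conj_mem_iff_of_mem_normalizer (hA hn)
    · exact conj_mem_iff_of_mem_normalizer (hB hn)

theorem not_both_normal (h1169 : H1169.{u}) [IsSimpleGroup G] {S : Sylow 2 G} (h : IsAB (S : Subgroup G) A B)
    {W : Subgroup G} (hW : W ≤ A ⊓ B) (hW1 : W ≠ ⊥) (hA : normalizer (A : Set G) ≤ normalizer (W : Set G))
    (hB : normalizer (B : Set G) ≤ normalizer (W : Set G)) : False := by
  have hsc := stronglyClosed_of_normalizer h hW hA hB
  have hcomm : IsMulCommutative W :=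
    ⟨⟨fun x y => Subtype.ext (h.A_comm x (mem_inf.1 (hW x.2)).1 y (mem_inf.1 (hW y.2)).1)⟩⟩
  rcases h1169 G S W hW1 hcomm hsc with h1 | ⟨H, hH⟩
  · apply h.not_comm
    intro x hx y hy
    exact congrArg Subtype.val (h1.1.1 (⟨x, hx⟩ : (S : Subgroup G)) ⟨y, hy⟩)
  · obtain ⟨w, hw, hw1⟩ : ∃ w ∈ W, w ≠ 1 := by
      by_contra h0
      push Not at h0
      exact hW1 ((Subgroup.eq_bot_iff_forall _).2 h0)
    obtain ⟨a, ha, haB⟩ := h.neA
    exact haB (mem_inf.1 (hW (mem_of_stronglyEmbedded hH hsc hw (h.A_sq w (mem_inf.1 (hW hw)).1) hw1 (h.A_le ha)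
      (h.A_sq a ha)))).2

theorem exists_twoSided (h1169 : H1169.{u}) [IsSimpleGroup G] [Finite F] {S : Sylow 2 G} {x y c d : F → G}
    (h : HalfC2 (S : Subgroup G) A B x y c d) :
    ∃ (WA WB : Subgroup G) (φA : ncl (S : Subgroup G) A →* Matrix.SpecialLinearGroup (Fin 2) F)
      (φB : ncl (S : Subgroup G) B →* Matrix.SpecialLinearGroup (Fin 2) F),
      TwoSided F (S : Subgroup G) A B WA WB φA φB := by
  have h' := swap h
  have hNA := h.toIsAB.not_normalizer_le h1169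
  have hNB := h'.toIsAB.not_normalizer_le h1169
  obtain ⟨WA, φA, hWA, sA⟩ := exists_side h hNA
  obtain ⟨WB, φB, hWB, sB⟩ := exists_side h' hNB
  have e1 : img (fun s => d (s ^ 2)) h'.c_add = img d h.d_add := by
    ext g
    constructor
    · rintro ⟨s, rfl⟩
      exact ⟨s ^ 2, rfl⟩
    · rintro ⟨s, rfl⟩
      obtain ⟨r, rfl⟩ := exists_sqrt h.two_eq_zero s
      exact ⟨r, rfl⟩
  rw [e1] at hWB
  have hne : WA ≠ WB := by
    rintro rfl
    have hWle := sA.W_le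
    refine not_both_normal h1169 h.toIsAB hWle ?_ sA.N_le sB.N_le
    rintro h0
    have h1 := sA.card_W
    rw [h0, Subgroup.card_bot] at h1
    have : 1 < Nat.card F := Finite.one_lt_card
    omega
  have hcd := img_inf h
  have hmul : ∀ z ∈ A ⊓ B, ∃ a ∈ img c h.c_add, ∃ b ∈ img d h.d_add, z = a * b := by
    intro z hz
    obtain ⟨γ, δ, rfl⟩ := (h.mem_Z' _).1 hz
    exact ⟨_, ⟨γ, rfl⟩, _, ⟨δ, rfl⟩, rfl⟩
  have hmul' : ∀ z ∈ A ⊓ B, ∃ a ∈ img d h.d_add, ∃ b ∈ img c h.c_add, z = a * b := by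
    intro z hz
    obtain ⟨a, ha, b, hb, rfl⟩ := hmul z hz
    exact ⟨b, hb, a, ha, h.A_comm _ (mem_inf.1 (img_c_le h ha)).1 _ (mem_inf.1 (img_d_le h hb)).1⟩
  refine ⟨WA, WB, φA, φB, { h.toIsAB with sideA := sA, sideB := sB, disj := ?_, exists_mul := ?_ }⟩
  · rcases hWA with rfl | rfl <;> rcases hWB with rfl | rfl
    · exact hcd
    · exact absurd rfl hne
    · exact absurd rfl hne
    · rw [inf_comm]; exact hcd
  · rcases hWA with rfl | rfl <;> rcases hWB with rfl | rfl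
    · exact hmul
    · exact absurd rfl hne
    · exact absurd rfl hne
    · exact hmul'

/-- a general fusion lemma -/
theorem fusion_Z {S : Sylow 2 G} (h : IsAB (S : Subgroup G) A B)
    (cA : ∀ n ∈ normalizer (A : Set G), ∀ z ∈ A ⊓ B, n * z * n⁻¹ ∈ A ⊓ B →
      ∃ k ∈ normalizer ((S : Subgroup G) : Set G), k * z * k⁻¹ = n * z * n⁻¹)
    (cB : ∀ n ∈ normalizer (B : Set G), ∀ z ∈ A ⊓ B, n * z * n⁻¹ ∈ A ⊓ B →
      ∃ k ∈ normalizer ((S : Subgroup G) : Set G), k * z * k⁻¹ = n * z * n⁻¹)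
    {z g : G} (hz : z ∈ A ⊓ B) (hg : g * z * g⁻¹ ∈ A ⊓ B) :
    ∃ k ∈ normalizer ((S : Subgroup G) : Set G), k * z * k⁻¹ = g * z * g⁻¹ := by
  have hZS := h.Z_le
  have h1 : zpowers z ≤ (S : Subgroup G) := zpowers_le.2 (hZS hz)
  have h2 := h.gen_AB h1 (zpowers_map_conj_le (hZS hg))
  -- elements of `Z` whose `N(A)`-conjugate is `N(S)`-conjugate to `z`
  have redA : ∀ s ∈ A ⊓ B, (∃ n ∈ normalizer (A : Set G), ∃ k ∈ normalizer ((S : Subgroup G) : Set G),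
      n * s * n⁻¹ = k * z * k⁻¹) → ∃ k ∈ normalizer ((S : Subgroup G) : Set G), s = k * z * k⁻¹ := by
    rintro s hs ⟨n, hn, k, hk, e⟩
    have h3 : n * s * n⁻¹ ∈ A ⊓ B := by
      rw [e]; exact conj_mem_of_mem_normalizer (h.normalizer_le_Z hk) hz
    obtain ⟨k', hk', e'⟩ := cA n hn s hs h3
    refine ⟨k'⁻¹ * k, mul_mem (inv_mem hk') hk, ?_⟩
    calc s = k'⁻¹ * (k' * s * k'⁻¹) * k' := by group
      _ = k'⁻¹ * k * z * (k'⁻¹ * k)⁻¹ := by rw [e', e]; group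
  have redB : ∀ s ∈ A ⊓ B, (∃ n ∈ normalizer (B : Set G), ∃ k ∈ normalizer ((S : Subgroup G) : Set G),
      n * s * n⁻¹ = k * z * k⁻¹) → ∃ k ∈ normalizer ((S : Subgroup G) : Set G), s = k * z * k⁻¹ := by
    rintro s hs ⟨n, hn, k, hk, e⟩
    have h3 : n * s * n⁻¹ ∈ A ⊓ B := by
      rw [e]; exact conj_mem_of_mem_normalizer (h.normalizer_le_Z hk) hz
    obtain ⟨k', hk', e'⟩ := cB n hn s hs h3
    refine ⟨k'⁻¹ * k, mul_mem (inv_mem hk') hk, ?_⟩
    calc s = k'⁻¹ * (k' * s * k'⁻¹) * k' := by group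
      _ = k'⁻¹ * k * z * (k'⁻¹ * k)⁻¹ := by rw [e', e]; group
  let P : G → Prop := fun s => (s ∈ A ∧ ∃ n ∈ normalizer (A : Set G),
      ∃ k ∈ normalizer ((S : Subgroup G) : Set G), n * s * n⁻¹ = k * z * k⁻¹) ∨
    (s ∈ B ∧ ∃ n ∈ normalizer (B : Set G), ∃ k ∈ normalizer ((S : Subgroup G) : Set G), n * s * n⁻¹ = k * z * k⁻¹)
  have hS0 : ∀ n ∈ normalizer ((S : Subgroup G) : Set G), ∀ s, P s → P (n * s * n⁻¹) := by
    rintro n hn s (⟨hs, m, hm, k, hk, e⟩ | ⟨hs, m, hm, k, hk, e⟩)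
    · have hnA := h.normalizer_le_A hn
      exact Or.inl ⟨conj_mem_of_mem_normalizer hnA hs, m * n⁻¹, mul_mem hm (inv_mem hnA), k, hk, by
        rw [← e]; group⟩
    · have hnB := h.normalizer_le_B hn
      exact Or.inr ⟨conj_mem_of_mem_normalizer hnB hs, m * n⁻¹, mul_mem hm (inv_mem hnB), k, hk, by
        rw [← e]; group⟩
  have hA0 : ∀ n ∈ normalizer (A : Set G), ∀ s ∈ A, P s → P (n * s * n⁻¹) := by
    rintro n hn s hsA hPs
    have h3 : ∃ m ∈ normalizer (A : Set G), ∃ k ∈ normalizer ((S : Subgroup G) : Set G),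
        m * s * m⁻¹ = k * z * k⁻¹ := by
      rcases hPs with ⟨-, h4⟩ | ⟨hsB, h4⟩
      · exact h4
      · obtain ⟨k, hk, e⟩ := redB s (mem_inf.2 ⟨hsA, hsB⟩) h4
        exact ⟨1, one_mem _, k, hk, by rw [← e]; group⟩
    obtain ⟨m, hm, k, hk, e⟩ := h3
    exact Or.inl ⟨conj_mem_of_mem_normalizer hn hsA, m * n⁻¹, mul_mem hm (inv_mem hn), k, hk, by
      rw [← e]; group⟩
  have hB0 : ∀ n ∈ normalizer (B : Set G), ∀ s ∈ B, P s → P (n * s * n⁻¹) := by
    rintro n hn s hsB hPs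
    have h3 : ∃ m ∈ normalizer (B : Set G), ∃ k ∈ normalizer ((S : Subgroup G) : Set G),
        m * s * m⁻¹ = k * z * k⁻¹ := by
      rcases hPs with ⟨hsA, h4⟩ | ⟨-, h4⟩
      · obtain ⟨k, hk, e⟩ := redA s (mem_inf.2 ⟨hsA, hsB⟩) h4
        exact ⟨1, one_mem _, k, hk, by rw [← e]; group⟩
      · exact h4
    obtain ⟨m, hm, k, hk, e⟩ := h3
    exact Or.inr ⟨conj_mem_of_mem_normalizer hn hsB, m * n⁻¹, mul_mem hm (inv_mem hn), k, hk, by
      rw [← e]; group⟩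
  have hback : ∀ n s : G, n⁻¹ * (n * s * n⁻¹) * n⁻¹⁻¹ = s := fun n s => by group
  have h3 := h2.invariant P ?_ z (mem_zpowers z)
  · have hPz : P z := Or.inl ⟨(mem_inf.1 hz).1, 1, one_mem _, 1, one_mem _, rfl⟩
    have hPg : P (g * z * g⁻¹) := (iff_of_eq h3).2 hPz
    rcases hPg with ⟨-, h4⟩ | ⟨-, h4⟩
    · obtain ⟨k, hk, e⟩ := redA _ hg h4
      exact ⟨k, hk, e.symm⟩
    · obtain ⟨k, hk, e⟩ := redB _ hg h4
      exact ⟨k, hk, e.symm⟩
  · intro X hXS hX n hn y hy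
    apply propext
    rcases hX with rfl | rfl | rfl
    · exact ⟨fun h4 => hback n y ▸ hS0 _ (inv_mem hn) _ h4, hS0 n hn y⟩
    · exact ⟨fun h4 => hback n y ▸ hA0 _ (inv_mem hn) _ (conj_mem_of_mem_normalizer hn hy) h4, hA0 n hn y hy⟩
    · exact ⟨fun h4 => hback n y ▸ hB0 _ (inv_mem hn) _ (conj_mem_of_mem_normalizer hn hy) h4, hB0 n hn y hy⟩

namespace TwoSided

variable {S : Sylow 2 G} {WA WB : Subgroup G} {φA : ncl (S : Subgroup G) A →* Matrix.SpecialLinearGroup (Fin 2) F}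
  {φB : ncl (S : Subgroup G) B →* Matrix.SpecialLinearGroup (Fin 2) F}

omit [Finite G] in
theorem X_comm {S X : Subgroup G} {φ : X →* Matrix.SpecialLinearGroup (Fin 2) F} {W : Subgroup G}
    (s : SideData F S A B W X φ) {g w : G} (hg : g ∈ X) (hw : w ∈ W) : g * w = w * g := by
  have h1 : w ∈ A ⊓ centralizer (X : Set G) := by rw [← s.W_eq]; exact hw
  exact (mem_centralizer_iff.1 (mem_inf.1 h1).2) g hg

/-- `N(A)`-fusion in `Z` is controlled by `N(S)` -/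
theorem controlA (T : TwoSided F (S : Subgroup G) A B WA WB φA φB) {n : G} (hn : n ∈ normalizer (A : Set G))
    {z : G} (hz : z ∈ A ⊓ B) (hnz : n * z * n⁻¹ ∈ A ⊓ B) :
    ∃ k ∈ normalizer ((S : Subgroup G) : Set G), k * z * k⁻¹ = n * z * n⁻¹ := by
  by_cases hnZ : n ∈ normalizer ((A ⊓ B : Subgroup G) : Set G)
  · obtain ⟨k, hk, c, hc, rfl⟩ := T.toIsAB.exists_normalizer_mul T.Z_le le_rfl le_rfl hnZ
    refine ⟨k, hk, ?_⟩
    have h1 : c * z = z * c := ((mem_centralizer_iff.1 hc) z hz).symm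
    calc k * z * k⁻¹ = k * (z * c) * c⁻¹ * k⁻¹ := by group
      _ = k * c * z * (k * c)⁻¹ := by rw [← h1]; group
  · have h1 : n * z * n⁻¹ ∈ WA := by
      rw [← T.sideA.inter n hn hnZ]
      exact mem_inf.2 ⟨hnz, conj_mem_map_conj hz n⟩
    obtain ⟨r, hr, hrn⟩ := exists_conj_normalizer S (le_ncl (S := (S : Subgroup G)) (A := A)) (g := n)
      (fun r hr => T.sideA.norm n hn r hr)
    refine ⟨r * n, hrn, ?_⟩
    have h2 := X_comm T.sideA hr h1
    calc r * n * z * (r * n)⁻¹ = (r * (n * z * n⁻¹)) * r⁻¹ := by group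
      _ = n * z * n⁻¹ := by rw [h2]; group

theorem controlB (T : TwoSided F (S : Subgroup G) A B WA WB φA φB) {n : G} (hn : n ∈ normalizer (B : Set G))
    {z : G} (hz : z ∈ A ⊓ B) (hnz : n * z * n⁻¹ ∈ A ⊓ B) :
    ∃ k ∈ normalizer ((S : Subgroup G) : Set G), k * z * k⁻¹ = n * z * n⁻¹ :=
  T.symm.controlA hn (by rwa [inf_comm]) (by rwa [inf_comm])

/-- **`N(S)` controls the fusion of elements of `Z`** -/
theorem fusion (T : TwoSided F (S : Subgroup G) A B WA WB φA φB) {z g : G} (hz : z ∈ A ⊓ B)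
    (hg : g * z * g⁻¹ ∈ A ⊓ B) :
    ∃ k ∈ normalizer ((S : Subgroup G) : Set G), k * z * k⁻¹ = g * z * g⁻¹ :=
  fusion_Z T.toIsAB (fun _ hn _ hz hnz => T.controlA hn hz hnz) (fun _ hn _ hz hnz => T.controlB hn hz hnz) hz hg

/-- conjugates of elements of `WA` in `Z` lie in `WA` -/
theorem mem_WA_of_conj (T : TwoSided F (S : Subgroup G) A B WA WB φA φB) {w g : G} (hw : w ∈ WA)
    (hg : g * w * g⁻¹ ∈ A ⊓ B) : g * w * g⁻¹ ∈ WA := by
  obtain ⟨k, hk, e⟩ := T.fusion (T.sideA.W_le hw) hg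
  rw [← e]
  exact conj_mem_of_mem_normalizer (T.sideA.N_le (T.toIsAB.normalizer_le_A hk)) hw

theorem mem_WB_of_conj (T : TwoSided F (S : Subgroup G) A B WA WB φA φB) {w g : G} (hw : w ∈ WB)
    (hg : g * w * g⁻¹ ∈ A ⊓ B) : g * w * g⁻¹ ∈ WB :=
  T.symm.mem_WA_of_conj hw (by rwa [inf_comm])

/-- conjugates of elements of `WA` in `A` lie in `WA` -/
theorem mem_WA_of_conj_A (T : TwoSided F (S : Subgroup G) A B WA WB φA φB) {w g : G} (hw : w ∈ WA)
    (hg : g * w * g⁻¹ ∈ A) : g * w * g⁻¹ ∈ WA := by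
  obtain ⟨n, hn, hnZ⟩ := T.sideA.cover _ hg
  have hn' := T.sideA.X_le hn
  have e : n * (g * w * g⁻¹) * n⁻¹ = (n * g) * w * (n * g)⁻¹ := by group
  rw [e] at hnZ
  have h1 := T.mem_WA_of_conj hw hnZ
  rw [← e] at h1
  exact (conj_mem_iff_of_mem_normalizer (T.sideA.N_le hn')).1 h1

theorem mem_WB_of_conj_B (T : TwoSided F (S : Subgroup G) A B WA WB φA φB) {w g : G} (hw : w ∈ WB)
    (hg : g * w * g⁻¹ ∈ B) : g * w * g⁻¹ ∈ WB :=
  T.symm.mem_WA_of_conj_A hw hg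

/-- conjugates of elements of `WA` in `S` lie in `B` -/
theorem mem_B_of_conj (T : TwoSided F (S : Subgroup G) A B WA WB φA φB) {w g : G} (hw : w ∈ WA)
    (hg : g * w * g⁻¹ ∈ (S : Subgroup G)) : g * w * g⁻¹ ∈ B := by
  have hw2 : w * w = 1 := T.A_sq w (mem_inf.1 (T.sideA.W_le hw)).1
  rcases T.inv _ hg (by
    calc g * w * g⁻¹ * (g * w * g⁻¹) = g * (w * w) * g⁻¹ := by group
      _ = 1 := by rw [hw2]; group) with h1 | h1
  · exact (mem_inf.1 (T.sideA.W_le (T.mem_WA_of_conj_A hw h1))).2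
  · exact h1

theorem mem_A_of_conj (T : TwoSided F (S : Subgroup G) A B WA WB φA φB) {w g : G} (hw : w ∈ WB)
    (hg : g * w * g⁻¹ ∈ (S : Subgroup G)) : g * w * g⁻¹ ∈ A :=
  T.symm.mem_B_of_conj hw hg

/-- an element of `WA ∖ {1}` is not conjugate to an element of `WB` -/
theorem not_conj (T : TwoSided F (S : Subgroup G) A B WA WB φA φB) {w g : G} (hw : w ∈ WA) (hw1 : w ≠ 1)
    (hg : g * w * g⁻¹ ∈ WB) : False := by
  have h1 := T.mem_WA_of_conj hw (by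
    have := T.sideB.W_le hg
    rwa [inf_comm] at this)
  have h2 : g * w * g⁻¹ ∈ WA ⊓ WB := mem_inf.2 ⟨h1, hg⟩
  rw [T.disj, mem_bot] at h2
  apply hw1
  have := congrArg (fun t => g⁻¹ * t * g) h2
  simpa [mul_assoc] using this

/-- every involution is conjugate to an element of `Z` -/
theorem exists_conj_mem_Z (T : TwoSided F (S : Subgroup G) A B WA WB φA φB) {t : G} (ht : t * t = 1) :
    ∃ g : G, g * t * g⁻¹ ∈ A ⊓ B := by
  have hzp : IsPGroup 2 (zpowers t) := by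
    rw [IsPGroup.iff_card]
    rcases eq_or_ne t 1 with rfl | ht1
    · exact ⟨0, by simp⟩
    · exact ⟨1, by rw [Nat.card_zpowers, orderOf_eq_two_of_sq ht ht1, pow_one]⟩
  obtain ⟨n, -, hle⟩ := exists_conj_le_in (p := 2) (N := ⊤) S.isPGroup'
    (sylow_not_dvd_relIndex S le_top) le_top hzp
  have h1 : n * t * n⁻¹ ∈ (S : Subgroup G) := hle ⟨t, mem_zpowers t, by simp⟩
  have h2 : n * t * n⁻¹ * (n * t * n⁻¹) = 1 := by
    calc n * t * n⁻¹ * (n * t * n⁻¹) = n * (t * t) * n⁻¹ := by group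
      _ = 1 := by rw [ht]; group
  rcases T.inv _ h1 h2 with h3 | h3
  · obtain ⟨m, -, hm⟩ := T.sideA.cover _ h3
    exact ⟨m * n, by convert hm using 1; group⟩
  · obtain ⟨m, -, hm⟩ := T.sideB.cover _ h3
    exact ⟨m * n, by rw [inf_comm]; convert hm using 1; group⟩

omit [Finite G] in
/-- `N(A) ∩ C(z) ≤ N(Z)` for `z ∈ Z ∖ WA` -/
theorem normalizer_A_inf_le {S : Subgroup G} {φA : ncl S A →* Matrix.SpecialLinearGroup (Fin 2) F}
    {φB : ncl S B →* Matrix.SpecialLinearGroup (Fin 2) F}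
    (T : TwoSided F S A B WA WB φA φB) {z : G} (hz : z ∈ A ⊓ B) (hzW : z ∉ WA) {n : G}
    (hn : n ∈ normalizer (A : Set G)) (hc : n * z = z * n) : n ∈ normalizer ((A ⊓ B : Subgroup G) : Set G) := by
  by_contra hnZ
  apply hzW
  rw [← T.sideA.inter n hn hnZ]
  refine mem_inf.2 ⟨hz, mem_conjZ.2 ?_⟩
  have : n⁻¹ * z * n = z := by
    calc n⁻¹ * z * n = n⁻¹ * (z * n) := by group
      _ = z := by rw [← hc]; group
  rw [this]; exact hz

omit [Finite G] in
theorem normalizer_B_inf_le {S : Subgroup G} {φA : ncl S A →* Matrix.SpecialLinearGroup (Fin 2) F}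
    {φB : ncl S B →* Matrix.SpecialLinearGroup (Fin 2) F}
    (T : TwoSided F S A B WA WB φA φB) {z : G} (hz : z ∈ A ⊓ B) (hzW : z ∉ WB) {n : G}
    (hn : n ∈ normalizer (B : Set G)) (hc : n * z = z * n) : n ∈ normalizer ((A ⊓ B : Subgroup G) : Set G) := by
  have h1 := T.symm.normalizer_A_inf_le (by rwa [inf_comm] : z ∈ B ⊓ A) hzW hn hc
  rwa [inf_comm] at h1

end TwoSided

end finite

end Cfsg.Agent.TypeSpFour.Both
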