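import Mathlib
import Cfsg.Agent.TypeL3.Control
import Cfsg.Agent.TypeL3.NoComp
import Cfsg.Agent.S0542
import Cfsg.Agent.SignalizersComponents.CompBasic
import Cfsg.Agent.SignalizersComponents.Components
import Cfsg.Agent.Lib.SylowNormalInf

/-!
# No components: the case of one essential subgroup

`X` finite, `O(X) = 1`, Sylow 2-subgroup `S = AB` (type `Sp₄(q)`), `N(B)` normalises `Z = A ∩ B`, and `N(A)` has
a normal subgroup `L ≥ S` inducing a quasisimple group on `A`, such that an `L`-invariant subgroup of `A` is `A` or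
is contained in `Z₁ ≤ C_A(L)`, `|Z₁|² < |A|`; and `A` contains an element `≠ 1` of the centre of `X`.
Then `X` has no component.
-/

set_option autoImplicit false

namespace Cfsg.Agent.TypeSpFour

open Subgroup Cfsg.Agent.Lib.GoldschmidtFusion Cfsg.Agent.TypeL3
open scoped commutatorElement

universe u

variable {X : Type u} [Group X]

/-- the image of `L ≤ N(A)` in `Aut(A)`, as a subgroup of the image of `N(A)` -/
def autImage (A L : Subgroup X) : Subgroup (A.normalizerMonoidHom.range) :=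
  (L.subgroupOf (normalizer (A : Set X))).map A.normalizerMonoidHom.rangeRestrict

/-- the situation of the lemma: `K` a component -/
structure OneCtx (S : Sylow 2 X) (A B L Z₁ K : Subgroup X) : Prop where
  ab : IsAB (S : Subgroup X) A B
  core : Cfsg.oddCore X = ⊥
  NB : normalizer (B : Set X) ≤ normalizer ((A ⊓ B : Subgroup X) : Set X)
  SL : (S : Subgroup X) ≤ L
  LN : L ≤ normalizer (A : Set X)
  nL : ∀ n ∈ normalizer (A : Set X), ∀ g ∈ L, n * g * n⁻¹ ∈ L
  qs : Cfsg.IsQuasisimple (autImage A L)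
  cent : ∀ z ∈ Z₁, ∀ g ∈ L, g * z = z * g
  irr : ∀ W : Subgroup X, W ≤ A → (∀ g ∈ L, ∀ w ∈ W, g * w * g⁻¹ ∈ W) → W ≤ Z₁ ∨ W = A
  card : Nat.card Z₁ * Nat.card Z₁ < Nat.card A
  zc : ∃ z ∈ A, z ≠ 1 ∧ ∀ x : X, x * z = z * x
  comp : Cfsg.IsComponent K

/-- focal subgroup theorem for a perfect group -/
theorem focal_le {K : Type*} [Group K] [Finite K] (hperf : Group.IsPerfect K) (P : Sylow 2 K)
    (M : Subgroup K) (h : ∀ y ∈ (P : Subgroup K), ∀ w : K, w * y * w⁻¹ ∈ (P : Subgroup K) →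
      w * y * w⁻¹ * y⁻¹ ∈ M) : (P : Subgroup K) ≤ M := by
  have hperf' : _root_.commutator K = ⊤ := hperf.commutator_eq_top
  have hf := Subgroup.commutator_inf_eq_focalSubgroup P
  rw [hperf', top_inf_eq, focalSubgroup_def] at hf
  rw [hf, closure_le]
  rintro g ⟨hg, y, hy, w, rfl⟩
  have hy' : w * y⁻¹ * w⁻¹ ∈ (P : Subgroup K) := by
    have := mul_mem (inv_mem hy) hg
    rw [commutatorElement_def] at this
    convert this using 1
    group
  have h1 := h _ (inv_mem hy) w hy'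
  -- `w y⁻¹ w⁻¹ y ∈ M`; the conjugate `y w y⁻¹ w⁻¹`
  have h2 := h y hy w (by
    have := inv_mem hy'
    convert this using 1
    group)
  show ⁅y, w⁆ ∈ M
  have h3 := inv_mem h2
  rw [commutatorElement_def]
  convert h3 using 1
  group

variable [Finite X]

namespace OneCtx

variable {S : Sylow 2 X} {A B L Z₁ K : Subgroup X}

theorem closedA (h : OneCtx S A B L Z₁ K) : Cfsg.IsStronglyClosed A (S : Subgroup X) :=
  h.ab.stronglyClosed_A h.NB

theorem exists_sylow (h : OneCtx S A B L Z₁ K) :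
    ∃ P : Sylow 2 K, (P : Subgroup K) = (S : Subgroup X).subgroupOf K :=
  Cfsg.Agent.S0542.result 2 K h.comp.1 S

theorem two_dvd (h : OneCtx S A B L Z₁ K) : 2 ∣ Nat.card K := by
  by_contra h1
  have h2 : (Nat.card K).Coprime 2 := (Nat.coprime_comm.1 ((Nat.Prime.coprime_iff_not_dvd Nat.prime_two).2 h1))
  have h3 := Cfsg.Agent.SignalizersComponents.CompBasic.subnormal_coprime_le_pPrimeCore h.comp.1 h2
  have h4 : K = ⊥ := le_bot_iff.1 (h3.trans h.core.le)
  have h5 := Cfsg.Agent.SignalizersComponents.Components.quasisimple_nontrivial h.comp.2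
  rw [Subgroup.nontrivial_iff_ne_bot] at h5
  exact h5 h4

theorem not_central (h : OneCtx S A B L Z₁ K) (P : Sylow 2 K) : ¬ (P : Subgroup K) ≤ center K :=
  Cfsg.Agent.SignalizersComponents.CompBasic.sylow_not_le_center_of_perfect h.comp.2.1 2 h.two_dvd P

theorem oddCore_K (h : OneCtx S A B L Z₁ K) : Cfsg.pPrimeCore 2 K = ⊥ := by
  have h1 := Cfsg.Agent.SignalizersComponents.CompBasic.map_subtype_pPrimeCore_of_subnormal 2 h.comp.1
  have h2 : Cfsg.pPrimeCore 2 X = ⊥ := h.core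
  rw [h2, inf_bot_eq] at h1
  exact (Subgroup.map_eq_bot_iff_of_injective _ K.subtype_injective).1 h1

theorem center_pow (h : OneCtx S A B L Z₁ K) {c : K} (hc : c ∈ center K) : ∃ k : ℕ, c ^ 2 ^ k = 1 := by
  obtain ⟨k, m, hm, hkm⟩ := Nat.exists_eq_pow_mul_and_not_dvd (orderOf_pos c).ne' 2 (by norm_num)
  refine ⟨k, ?_⟩
  have hd : orderOf (c ^ 2 ^ k) = m := by
    rw [orderOf_pow_of_dvd (pow_ne_zero _ two_ne_zero) (by rw [hkm]; exact Dvd.intro _ rfl), hkm,
      Nat.mul_div_cancel_left _ (pow_pos two_pos _)]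
  have hdc : c ^ 2 ^ k ∈ center K := pow_mem hc _
  have hn : (zpowers (c ^ 2 ^ k)).Normal := by
    refine ⟨fun y hy g => ?_⟩
    have h1 : y ∈ center K := (zpowers_le.2 hdc) hy
    rw [mem_center_iff.1 h1 g, mul_inv_cancel_right]
    exact hy
  have h1 : zpowers (c ^ 2 ^ k) ≤ Cfsg.pPrimeCore 2 K := by
    apply Cfsg.Agent.Lib.Cores.le_pPrimeCore hn
    rw [Nat.card_zpowers, hd]
    exact Nat.coprime_comm.1 ((Nat.Prime.coprime_iff_not_dvd Nat.prime_two).2 hm)
  rw [h.oddCore_K] at h1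
  exact mem_bot.1 (h1 (mem_zpowers _))

theorem center_le (h : OneCtx S A B L Z₁ K) (P : Sylow 2 K) : center K ≤ (P : Subgroup K) := by
  have : IsPGroup 2 (center K) := by
    rintro ⟨c, hc⟩
    obtain ⟨k, hk⟩ := h.center_pow hc
    exact ⟨k, Subtype.ext hk⟩
  exact this.le_sylow_of_normal P

/-- `A` normalises `K` -/
theorem A_normalises (h : OneCtx S A B L Z₁ K) {a : X} (ha : a ∈ A) : a ∈ normalizer (K : Set X) := by
  rw [mem_normalizer_iff_map_conj]
  by_contra hne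
  have hL := Cfsg.Agent.SignalizersComponents.Components.isComponent_conj a h.comp
  have hcomm := Cfsg.Agent.SignalizersComponents.Components.component_le_centralizer_of_ne h.comp hL
    (fun e => hne e.symm)
  set M := K.map (MulAut.conj a).toMonoidHom with hMdef
  have hKM : ∀ k ∈ K, ∀ l ∈ M, k * l = l * k := fun k hk l hl => ((mem_centralizer_iff.1 (hcomm hk)) l hl).symm
  obtain ⟨P, hP⟩ := h.exists_sylow
  have hPS : ∀ {x : K}, x ∈ (P : Subgroup K) ↔ (x : X) ∈ (S : Subgroup X) := by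
    intro x; rw [hP, mem_subgroupOf]
  have haS := h.ab.A_le ha
  apply h.not_central P
  apply focal_le h.comp.2.1
  intro y hy w hw
  rw [hPS] at hy hw
  set y' : X := a * y * a⁻¹ with hy'
  have hy'M : y' ∈ M := conj_mem_map_conj y.2 a
  have hy'S : y' ∈ (S : Subgroup X) := mul_mem (mul_mem haS hy) (inv_mem haS)
  -- `ζ = y' y⁻¹ ∈ A`
  have hζ : y' * (y : X)⁻¹ ∈ A := by
    have h1 : (y : X) * a⁻¹ * (y : X)⁻¹ ∈ A :=
      conj_mem_of_mem_normalizer (h.ab.S_le_normalizer_A hy) (inv_mem ha)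
    have h2 := mul_mem ha h1
    convert h2 using 1
    rw [hy']; group
  have hwM := hKM w w.2 y' hy'M
  have h1 : (w : X) * (y' * (y : X)⁻¹) * (w : X)⁻¹ = y' * ((w : X) * y * (w : X)⁻¹)⁻¹ := by
    calc (w : X) * (y' * (y : X)⁻¹) * (w : X)⁻¹ = (w * y') * (y : X)⁻¹ * (w : X)⁻¹ := by group
      _ = _ := by rw [hwM]; group
  have h2 : (w : X) * (y' * (y : X)⁻¹) * (w : X)⁻¹ ∈ A := by
    apply h.closedA.2 _ hζ
    rw [h1]
    exact mul_mem hy'S (inv_mem hw)
  rw [h1] at h2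
  have h3 : (w : X) * y * (w : X)⁻¹ * (y : X)⁻¹ ∈ A := by
    have h4 := mul_mem (inv_mem h2) hζ
    convert h4 using 1
    group
  rw [mem_center_iff]
  intro k
  apply Subtype.ext
  show (k : X) * ((w : X) * y * (w : X)⁻¹ * (y : X)⁻¹) = (w : X) * y * (w : X)⁻¹ * (y : X)⁻¹ * k
  apply hKM k k.2
  rw [hMdef, mem_map_conj]
  have h5 := h.ab.A_comm a ha _ h3
  have h6 : a⁻¹ * ((w : X) * y * (w : X)⁻¹ * (y : X)⁻¹) * a = (w : X) * y * (w : X)⁻¹ * (y : X)⁻¹ := by
    have : (w : X) * y * (w : X)⁻¹ * (y : X)⁻¹ * a = a * ((w : X) * y * (w : X)⁻¹ * (y : X)⁻¹) := h5.symm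
    rw [mul_assoc, this]; group
  rw [h6]
  exact (w * y * w⁻¹ * y⁻¹ : K).2

theorem conj_K (h : OneCtx S A B L Z₁ K) {a k : X} (ha : a ∈ A) (hk : k ∈ K) : a * k * a⁻¹ ∈ K :=
  conj_mem_of_mem_normalizer (h.A_normalises ha) hk

omit [Finite X] in
/-- the dichotomy -/
theorem dich (h : OneCtx S A B L Z₁ K) :
    (∀ g ∈ L, ∃ k ∈ K, k ∈ normalizer (A : Set X) ∧ ∀ a ∈ A, g * a * g⁻¹ = k * a * k⁻¹) ∨
    (∀ g ∈ L, ∀ k ∈ K, k ∈ normalizer (A : Set X) → ∀ a ∈ A,
      (g * k) * a * (g * k)⁻¹ = (k * g) * a * (k * g)⁻¹) := by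
  set N := normalizer (A : Set X) with hN
  set π := A.normalizerMonoidHom.rangeRestrict with hπ
  have hπs : Function.Surjective π := MonoidHom.rangeRestrict_surjective _
  have hLn : (L.subgroupOf N).Normal := ⟨fun g hg n => by
    rw [mem_subgroupOf] at hg ⊢
    exact h.nL n.1 n.2 g.1 hg⟩
  have hcomp : Cfsg.IsComponent (autImage A L) := ⟨(hLn.map π hπs).isSubnormal, h.qs⟩
  have hsub : ((K.subgroupOf N).map π).IsSubnormal := (h.comp.1.subgroupOf).map hπs
  have hval : ∀ (n : N) (a : A), (((π n : A.normalizerMonoidHom.range) : MulAut A) a : X) = n * a * (n : X)⁻¹ :=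
    fun n a => rfl
  rcases Cfsg.Agent.SignalizersComponents.Components.component_le_or_commutator_eq_bot hcomp hsub with h1 | h1
  · left
    intro g hg
    have h2 : π ⟨g, h.LN hg⟩ ∈ autImage A L := ⟨⟨g, h.LN hg⟩, by rw [SetLike.mem_coe, mem_subgroupOf]; exact hg, rfl⟩
    obtain ⟨k, hk, hkg⟩ := h1 h2
    rw [SetLike.mem_coe, mem_subgroupOf] at hk
    refine ⟨k.1, hk, k.2, fun a ha => ?_⟩
    have h3 := congrArg (fun f : A.normalizerMonoidHom.range => (((f : MulAut A) ⟨a, ha⟩ : A) : X)) hkg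
    simp only [hval] at h3
    exact h3.symm
  · right
    intro g hg k hk hkN a ha
    have h2 : π ⟨g, h.LN hg⟩ ∈ autImage A L := ⟨⟨g, h.LN hg⟩, by rw [SetLike.mem_coe, mem_subgroupOf]; exact hg, rfl⟩
    have h3 : π ⟨k, hkN⟩ ∈ (K.subgroupOf N).map π := ⟨⟨k, hkN⟩, by rw [SetLike.mem_coe, mem_subgroupOf]; exact hk, rfl⟩
    have h4 := Subgroup.commutator_mem_commutator h2 h3
    rw [h1, mem_bot, commutatorElement_eq_one_iff_mul_comm, ← map_mul, ← map_mul] at h4
    have h5 := congrArg (fun f : A.normalizerMonoidHom.range => (((f : MulAut A) ⟨a, ha⟩ : A) : X)) h4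
    simp only [hval] at h5
    exact h5

end OneCtx

/-- the commutator map `a ↦ [a, r]` on an abelian group `A` normalised by `r` -/
def commHom (A : Subgroup X) (hA : ∀ x ∈ A, ∀ y ∈ A, x * y = y * x) (r : X)
    (hr : r ∈ normalizer (A : Set X)) : A →* A where
  toFun a := ⟨a * (r * (a : X)⁻¹ * r⁻¹), mul_mem a.2 (conj_mem_of_mem_normalizer hr (inv_mem a.2))⟩
  map_one' := by
    apply Subtype.ext
    show (1 : X) * (r * (1 : X)⁻¹ * r⁻¹) = 1
    group
  map_mul' a b := by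
    apply Subtype.ext
    show ((a : X) * b) * (r * ((a : X) * b)⁻¹ * r⁻¹) =
      (a * (r * (a : X)⁻¹ * r⁻¹)) * (b * (r * (b : X)⁻¹ * r⁻¹))
    have h1 := hA b b.2 _ (mul_mem (conj_mem_of_mem_normalizer hr (inv_mem b.2))
      (conj_mem_of_mem_normalizer hr (inv_mem a.2)))
    have h2 := hA _ (conj_mem_of_mem_normalizer hr (inv_mem b.2)) _
      (conj_mem_of_mem_normalizer hr (inv_mem a.2))
    calc ((a : X) * b) * (r * ((a : X) * b)⁻¹ * r⁻¹)
        = a * (b * ((r * (b : X)⁻¹ * r⁻¹) * (r * (a : X)⁻¹ * r⁻¹))) := by group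
      _ = a * (((r * (b : X)⁻¹ * r⁻¹) * (r * (a : X)⁻¹ * r⁻¹)) * b) := by rw [h1]
      _ = a * (((r * (a : X)⁻¹ * r⁻¹) * (r * (b : X)⁻¹ * r⁻¹)) * b) := by rw [h2]
      _ = a * (r * (a : X)⁻¹ * r⁻¹) * ((r * (b : X)⁻¹ * r⁻¹) * b) := by group
      _ = _ := by rw [hA _ (conj_mem_of_mem_normalizer hr (inv_mem b.2)) b b.2]

omit [Finite X] in
theorem commHom_val {A : Subgroup X} {hA : ∀ x ∈ A, ∀ y ∈ A, x * y = y * x} {r : X}
    {hr : r ∈ normalizer (A : Set X)} (a : A) :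
    ((commHom A hA r hr a : A) : X) = a * (r * (a : X)⁻¹ * r⁻¹) := rfl

omit [Finite X] in
theorem mem_ker_commHom {A : Subgroup X} {hA : ∀ x ∈ A, ∀ y ∈ A, x * y = y * x} {r : X}
    {hr : r ∈ normalizer (A : Set X)} {a : A} :
    a ∈ (commHom A hA r hr).ker ↔ (a : X) * r = r * a := by
  rw [MonoidHom.mem_ker]
  constructor
  · intro h
    have h1 : (a : X) * (r * (a : X)⁻¹ * r⁻¹) = 1 := congrArg Subtype.val h
    calc (a : X) * r = (a * (r * (a : X)⁻¹ * r⁻¹)) * (r * a) := by group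
      _ = r * a := by rw [h1, one_mul]
  · intro h
    apply Subtype.ext
    rw [commHom_val]
    calc (a : X) * (r * (a : X)⁻¹ * r⁻¹) = (a * r) * (a : X)⁻¹ * r⁻¹ := by group
      _ = 1 := by rw [h]; group

omit [Finite X] in
theorem card_commHom {A : Subgroup X} {hA : ∀ x ∈ A, ∀ y ∈ A, x * y = y * x} {r : X}
    {hr : r ∈ normalizer (A : Set X)} :
    Nat.card A = Nat.card (commHom A hA r hr).ker * Nat.card (commHom A hA r hr).range := by
  rw [← Subgroup.index_ker, Subgroup.card_mul_index]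

namespace OneCtx

variable {S : Sylow 2 X} {A B L Z₁ K : Subgroup X}

/-- `|A| ≤ |C_A(x)|²` for `x ∈ S` -/
theorem card_le (h : OneCtx S A B L Z₁ K) {x : X} (hx : x ∈ (S : Subgroup X)) {W : Subgroup X}
    (hW : ∀ a ∈ A, a * x = x * a → a ∈ W) : Nat.card A ≤ Nat.card W * Nat.card W := by
  have hxN := h.ab.S_le_normalizer_A hx
  have hxx : x * x ∈ A ⊓ B := by
    obtain ⟨a, ha, b, hb, rfl⟩ := h.ab.prod x hx
    have h1 := h.ab.br a ha b hb
    have h2 : a⁻¹ = a := inv_eq_of_mul_eq_one_left (h.ab.A_sq a ha)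
    have h3 : b⁻¹ = b := inv_eq_of_mul_eq_one_left (h.ab.B_sq b hb)
    rw [h2, h3] at h1
    convert h1 using 1
    group
  rw [card_commHom (A := A) (hA := h.ab.A_comm) (r := x) (hr := hxN)]
  have key : ∀ a : A, ((commHom A h.ab.A_comm x hxN a : A) : X) ∈ W := by
    intro a
    apply hW _ (commHom A h.ab.A_comm x hxN a).2
    rw [commHom_val]
    have ha2 : (a : X)⁻¹ = a := inv_eq_of_mul_eq_one_left (h.ab.A_sq a a.2)
    have hxa : (x * x) * (a : X) = a * (x * x) := h.ab.comm_Z hxx (h.ab.A_le a.2)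
    have hxaN := conj_mem_of_mem_normalizer hxN a.2
    have h1 := h.ab.A_comm a a.2 _ hxaN
    rw [ha2]
    -- `a (x a x⁻¹) x = x (a (x a x⁻¹))`
    have h2 : x * (a * (x * a * x⁻¹)) = x * (x * a * x⁻¹ * a) := by rw [h1]
    have h3 : x * (x * a * x⁻¹ * a) = a * (x * a * x⁻¹) * x := by
      calc x * (x * a * x⁻¹ * a) = ((x * x) * a) * x⁻¹ * a := by group
        _ = a * (x * x) * x⁻¹ * a := by rw [hxa]
        _ = a * (x * a * x⁻¹) * x := by group
    rw [h2, h3]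
  refine Nat.mul_le_mul ?_ ?_
  · exact Nat.card_le_card_of_injective
      (fun a : (commHom A h.ab.A_comm x hxN).ker => (⟨a.1.1, hW _ a.1.2 (mem_ker_commHom.1 a.2)⟩ : W))
      (fun a b hab => by
        have h1 := congrArg (fun w : W => (w : X)) hab
        exact Subtype.ext (Subtype.ext h1))
  · exact Nat.card_le_card_of_injective
      (fun a : (commHom A h.ab.A_comm x hxN).range => (⟨a.1.1, by
        obtain ⟨b, hb⟩ := a.2
        rw [← hb]; exact key b⟩ : W))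
      (fun a b hab => by
        have h1 := congrArg (fun w : W => (w : X)) hab
        exact Subtype.ext (Subtype.ext h1))

/-- `L` does not act trivially on `A / Z₁` -/
theorem not_comm_le (h : OneCtx S A B L Z₁ K)
    (hc : ∀ a ∈ A, ∀ b ∈ B, a * b * a⁻¹ * b⁻¹ ∈ Z₁) : False := by
  have hcen : ∀ z ∈ Z₁, ∀ s ∈ (S : Subgroup X), s * z = z * s := fun z hz s hs => h.cent z hz s (h.SL hs)
  -- commutators of `S` lie in `Z₁`
  have hcom : ⁅(S : Subgroup X), (S : Subgroup X)⁆ ≤ Z₁ := by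
    rw [Subgroup.commutator_le]
    intro x hx y hy
    rw [commutatorElement_def]
    obtain ⟨a, ha, b, hb, rfl⟩ := h.ab.prod x hx
    obtain ⟨c, hc', d, hd, rfl⟩ := h.ab.prod y hy
    have haS := h.ab.A_le ha
    have hbS := h.ab.B_le hb
    have hcS := h.ab.A_le hc'
    have hdS := h.ab.B_le hd
    -- `b c = c b ζ₁`, `a d = d a ζ₂`
    have hζ₁ := hc c hc' b hb
    have hζ₂ := hc a ha d hd
    set ζ₁ := c * b * c⁻¹ * b⁻¹ with e1
    set ζ₂ := a * d * a⁻¹ * d⁻¹ with e2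
    have k1 := h.ab.A_comm a ha c hc'
    have k2 := h.ab.B_comm b hb d hd
    have i1 := inv_mem hζ₁
    have f1 : b * c = ζ₁⁻¹ * (c * b) := by rw [e1]; group
    have f2 : a * d = ζ₂ * (d * a) := by rw [e2]; group
    have g1 : a * b * (c * d) = ζ₁⁻¹ * ζ₂ * (c * d * (a * b)) := by
      calc a * b * (c * d) = a * (b * c) * d := by group
        _ = (a * ζ₁⁻¹) * (c * b) * d := by rw [f1]; group
        _ = ζ₁⁻¹ * (a * c) * (b * d) := by rw [hcen _ i1 a haS]; group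
        _ = ζ₁⁻¹ * c * (a * d) * b := by rw [k1, k2]; group
        _ = ζ₁⁻¹ * (c * ζ₂) * (d * a) * b := by rw [f2]; group
        _ = _ := by rw [hcen _ hζ₂ c hcS]; group
    have g2 : a * b * (c * d) * (a * b)⁻¹ * (c * d)⁻¹ = ζ₁⁻¹ * ζ₂ := by
      rw [g1]; group
    rw [g2]
    exact mul_mem i1 hζ₂
  have hZ : A ⊓ B ≤ Z₁ := h.ab.der.trans hcom
  obtain ⟨b, hb, hbA⟩ := h.ab.neB
  have h1 := h.card_le (h.ab.B_le hb) (W := Z₁) (fun a ha hab => by
    apply hZ
    refine mem_inf.2 ⟨ha, ?_⟩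
    exact h.ab.centB b hb hbA a (h.ab.A_le ha) hab.symm)
  exact absurd h.card (not_lt.2 h1)

omit [Finite X] in
/-- a subset of `A ∩ K` which is everything -/
theorem A_le_K_of (h : OneCtx S A B L Z₁ K) {W : Subgroup X} (hWA : W ≤ A) (hWK : W ≤ K)
    (hinv : ∀ g ∈ L, ∀ w ∈ W, g * w * g⁻¹ ∈ W) (hne : ¬ W ≤ Z₁) : A ≤ K := by
  rcases h.irr W hWA hinv with h1 | h1
  · exact absurd h1 hne
  · rw [← h1]; exact hWK

/-- first case -/
theorem A_le_K_one (h : OneCtx S A B L Z₁ K)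
    (hd : ∀ g ∈ L, ∃ k ∈ K, k ∈ normalizer (A : Set X) ∧ ∀ a ∈ A, g * a * g⁻¹ = k * a * k⁻¹) : A ≤ K := by
  apply h.A_le_K_of (W := A ⊓ K) inf_le_left inf_le_right
  · intro g hg w hw
    obtain ⟨hwA, hwK⟩ := mem_inf.1 hw
    obtain ⟨k, hk, hkN, hgk⟩ := hd g hg
    refine mem_inf.2 ⟨conj_mem_of_mem_normalizer (h.LN hg) hwA, ?_⟩
    rw [hgk w hwA]
    exact mul_mem (mul_mem hk hwK) (inv_mem hk)
  · intro hle
    apply h.not_comm_le
    intro a ha b hb
    apply hle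
    have hbS := h.ab.B_le hb
    obtain ⟨k, hk, hkN, hgk⟩ := hd b (h.SL hbS)
    refine mem_inf.2 ⟨?_, ?_⟩
    · have h1 := conj_mem_of_mem_normalizer (h.ab.S_le_normalizer_A hbS) (inv_mem ha)
      have h2 := mul_mem ha h1
      convert h2 using 1
      group
    · have h1 := hgk a⁻¹ (inv_mem ha)
      have h2 : a * b * a⁻¹ * b⁻¹ = (a * k * a⁻¹) * k⁻¹ := by
        calc a * b * a⁻¹ * b⁻¹ = a * (b * a⁻¹ * b⁻¹) := by group
          _ = _ := by rw [h1]; group
      rw [h2]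
      exact mul_mem (h.conj_K ha hk) (inv_mem hk)

/-- in the first case `S ≤ K` -/
theorem S_le_K (h : OneCtx S A B L Z₁ K)
    (hd : ∀ g ∈ L, ∃ k ∈ K, k ∈ normalizer (A : Set X) ∧ ∀ a ∈ A, g * a * g⁻¹ = k * a * k⁻¹)
    (hAK : A ≤ K) : (S : Subgroup X) ≤ K := by
  obtain ⟨P, hP⟩ := h.exists_sylow
  have hPS : ∀ {x : K}, x ∈ (P : Subgroup K) ↔ (x : X) ∈ (S : Subgroup X) := by
    intro x; rw [hP, mem_subgroupOf]
  -- `K₀ = N_K(A)`
  let K₀ : Subgroup K := (normalizer (A : Set X)).subgroupOf K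
  have hPK₀ : (P : Subgroup K) ≤ K₀ := by
    intro x hx
    rw [mem_subgroupOf]
    exact h.ab.S_le_normalizer_A (hPS.1 hx)
  let P₀ : Sylow 2 K₀ := P.subtype hPK₀
  -- the action on `A`
  let f : K₀ →* MulAut A :=
    A.normalizerMonoidHom.comp
      { toFun := fun k => (⟨((k : K) : X), mem_subgroupOf.1 k.2⟩ : normalizer (A : Set X))
        map_one' := rfl
        map_mul' := fun _ _ => rfl }
  have hf : ∀ (k : K₀) (a : A), ((f k a : A) : X) = ((k : K) : X) * a * ((k : K) : X)⁻¹ := fun k a => rfl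
  let f' := f.rangeRestrict
  have hf's : Function.Surjective f' := MonoidHom.rangeRestrict_surjective _
  let P₁ : Sylow 2 f.range := P₀.mapSurjective hf's
  -- the image of `S`
  let σ : (S : Subgroup X) →* MulAut A :=
    A.normalizerMonoidHom.comp (Subgroup.inclusion h.ab.S_le_normalizer_A)
  have hσ : ∀ (s : (S : Subgroup X)) (a : A), ((σ s a : A) : X) = (s : X) * a * (s : X)⁻¹ := fun s a => rfl
  have hσr : ∀ s, σ s ∈ f.range := by
    intro s
    obtain ⟨k, hk, hkN, hsk⟩ := hd s (h.SL s.2)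
    refine ⟨⟨⟨k, hk⟩, mem_subgroupOf.2 hkN⟩, ?_⟩
    apply MulEquiv.ext
    intro a
    apply Subtype.ext
    rw [hf, hσ]
    exact (hsk a a.2).symm
  let σ' : (S : Subgroup X) →* f.range := σ.codRestrict f.range hσr
  have hσ'2 : IsPGroup 2 σ'.range := by
    have : σ'.range = (⊤ : Subgroup (S : Subgroup X)).map σ' := MonoidHom.range_eq_map _
    rw [this]
    exact (S.isPGroup'.to_subgroup _).map _
  have hle : (P₁ : Subgroup f.range) ≤ σ'.range := by
    rw [Sylow.coe_mapSurjective]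
    rintro _ ⟨k, hk, rfl⟩
    have hkS : ((k : K) : X) ∈ (S : Subgroup X) := hPS.1 hk
    exact ⟨⟨_, hkS⟩, rfl⟩
  have heq : σ'.range = (P₁ : Subgroup f.range) := P₁.is_maximal' hσ'2 hle
  intro s hs
  have h1 : σ' ⟨s, hs⟩ ∈ (P₁ : Subgroup f.range) := by rw [← heq]; exact ⟨_, rfl⟩
  rw [Sylow.coe_mapSurjective] at h1
  obtain ⟨k, hk, hks⟩ := h1
  have hkS : ((k : K) : X) ∈ (S : Subgroup X) := hPS.1 hk
  have h2 : ∀ a ∈ A, ((k : K) : X) * a * ((k : K) : X)⁻¹ = s * a * s⁻¹ := by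
    intro a ha
    have h3 := congrArg (fun φ : f.range => (((φ : MulAut A) ⟨a, ha⟩ : A) : X)) hks
    exact h3
  -- `k⁻¹ s ∈ C_S(A) = A`
  obtain ⟨a₀, ha₀, ha₀B⟩ := h.ab.neA
  have h3 : ((k : K) : X)⁻¹ * s ∈ A := by
    apply h.ab.centA a₀ ha₀ ha₀B _ (mul_mem (inv_mem hkS) hs)
    have h4 := h2 a₀ ha₀
    have h5 : s * a₀ = ((k : K) : X) * a₀ * ((k : K) : X)⁻¹ * s := by rw [h4]; group
    rw [mul_assoc _ s a₀, h5]
    group
  have h4 : s = ((k : K) : X) * (((k : K) : X)⁻¹ * s) := by group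
  rw [h4]
  exact mul_mem (k : K).2 (hAK h3)

theorem closed_bar (h : OneCtx S A B L Z₁ K) {P : Sylow 2 K}
    (hP : (P : Subgroup K) = (S : Subgroup X).subgroupOf K) {Q : Subgroup X}
    (hQ : Cfsg.IsStronglyClosed Q (S : Subgroup X)) :
    Cfsg.IsStronglyClosed (NCtx.bar K Q)
      (P.mapSurjective (QuotientGroup.mk'_surjective (center K)) : Subgroup (K ⧸ center K)) := by
  rw [Sylow.coe_mapSurjective, hP]
  refine ⟨Subgroup.map_mono (Subgroup.comap_mono hQ.1), ?_⟩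
  rintro _ ⟨x, hx, rfl⟩ g hg
  obtain ⟨g, rfl⟩ := QuotientGroup.mk'_surjective (center K) g
  rw [← map_inv, ← map_mul, ← map_mul] at hg ⊢
  obtain ⟨y, hy, c, hc, e⟩ := NCtx.mem_bar.1 hg
  have hcS : (c : X) ∈ (S : Subgroup X) := by
    have := h.center_le P hc
    rw [hP, mem_subgroupOf] at this
    exact this
  have h1 : ((g * x * g⁻¹ : K) : X) ∈ (S : Subgroup X) := by
    rw [e]
    exact mul_mem hy hcS
  exact ⟨g * x * g⁻¹, hQ.2 x hx g h1, rfl⟩

/-- the first case is impossible -/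
theorem false_one (h1169 : H1169.{u}) (h : OneCtx S A B L Z₁ K)
    (hd : ∀ g ∈ L, ∃ k ∈ K, k ∈ normalizer (A : Set X) ∧ ∀ a ∈ A, g * a * g⁻¹ = k * a * k⁻¹) : False := by
  have hAK := h.A_le_K_one hd
  have hSK := h.S_le_K hd hAK
  obtain ⟨P, hP⟩ := h.exists_sylow
  have hs : IsSimpleGroup (K ⧸ center K) := h.comp.2.2
  set P' := P.mapSurjective (QuotientGroup.mk'_surjective (center K)) with hP'
  have hcA := h.closed_bar hP h.closedA
  rw [← hP'] at hcA
  have hcenS : ∀ c : K, c ∈ center K → (c : X) ∈ (S : Subgroup X) := by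
    intro c hc
    have := h.center_le P hc
    rw [hP, mem_subgroupOf] at this
    exact this
  have hcomK : ∀ c : K, c ∈ center K → ∀ x ∈ K, x * (c : X) = c * x := fun c hc x hx =>
    congrArg Subtype.val (mem_center_iff.1 hc ⟨x, hx⟩)
  -- elements of `A ∖ B` are not central in `K`
  obtain ⟨a₀, ha₀, ha₀B⟩ := h.ab.neA
  have hne : NCtx.bar K A ≠ ⊥ := by
    intro h0
    have h1 : QuotientGroup.mk' (center K) ⟨a₀, hAK ha₀⟩ ∈ NCtx.bar K A :=
      NCtx.mem_bar.2 ⟨⟨a₀, hAK ha₀⟩, ha₀, 1, one_mem _, (mul_one _).symm⟩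
    rw [h0, mem_bot] at h1
    have h2 : (⟨a₀, hAK ha₀⟩ : K) ∈ center K := (QuotientGroup.eq_one_iff _).1 h1
    apply ha₀B
    exact (mem_inf.1 (h.ab.mem_Z_of_comm (h.ab.A_le ha₀) (fun t ht => hcomK _ h2 t (hSK ht)))).2
  have hcomm : IsMulCommutative (NCtx.bar K A) := by
    refine ⟨⟨fun x y => ?_⟩⟩
    apply Subtype.ext
    obtain ⟨_, ⟨x, hx, rfl⟩⟩ := x
    obtain ⟨_, ⟨y, hy, rfl⟩⟩ := y
    show QuotientGroup.mk' (center K) x * QuotientGroup.mk' (center K) y =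
      QuotientGroup.mk' (center K) y * QuotientGroup.mk' (center K) x
    rw [← map_mul, ← map_mul]
    congr 1
    exact Subtype.ext (h.ab.A_comm x hx y hy)
  rcases h1169 _ P' _ hne hcomm hcA with h1 | ⟨H, hH⟩
  · -- `S' ≤ Z(K)`
    have h2 : ∀ x ∈ (S : Subgroup X), ∀ y ∈ (S : Subgroup X), ∀ k ∈ K,
        k * (x * y * x⁻¹ * y⁻¹) = x * y * x⁻¹ * y⁻¹ * k := by
      intro x hx y hy k hk
      have hx' : QuotientGroup.mk' (center K) ⟨x, hSK hx⟩ ∈ (P' : Subgroup (K ⧸ center K)) := by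
        rw [hP', Sylow.coe_mapSurjective]
        exact ⟨⟨x, hSK hx⟩, by rw [hP]; exact mem_subgroupOf.2 hx, rfl⟩
      have hy' : QuotientGroup.mk' (center K) ⟨y, hSK hy⟩ ∈ (P' : Subgroup (K ⧸ center K)) := by
        rw [hP', Sylow.coe_mapSurjective]
        exact ⟨⟨y, hSK hy⟩, by rw [hP]; exact mem_subgroupOf.2 hy, rfl⟩
      have h3 := congrArg Subtype.val (h1.1.1 (⟨_, hx'⟩ : (P' : Subgroup (K ⧸ center K))) ⟨_, hy'⟩)
      have h4 : QuotientGroup.mk' (center K) ⟨x, hSK hx⟩ * QuotientGroup.mk' (center K) ⟨y, hSK hy⟩ =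
        QuotientGroup.mk' (center K) ⟨y, hSK hy⟩ * QuotientGroup.mk' (center K) ⟨x, hSK hx⟩ := h3
      have h5 : (⟨x, hSK hx⟩ * ⟨y, hSK hy⟩ * ⟨x, hSK hx⟩⁻¹ * ⟨y, hSK hy⟩⁻¹ : K) ∈ center K := by
        rw [← QuotientGroup.eq_one_iff]
        show QuotientGroup.mk' (center K) _ = 1
        rw [map_mul, map_mul, map_mul, h4, map_inv, map_inv]
        group
      exact hcomK _ h5 k hk
    have h3 : ⁅(S : Subgroup X), (S : Subgroup X)⁆ ≤ centralizer (K : Set X) := by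
      rw [Subgroup.commutator_le]
      intro x hx y hy
      rw [mem_centralizer_iff, commutatorElement_def]
      intro k hk
      exact h2 x hx y hy k hk
    have h4 : A ⊓ B ≤ centralizer (K : Set X) := h.ab.der.trans h3
    -- so `A ⊓ B` is `L`-invariant
    rcases h.irr (A ⊓ B) inf_le_left (by
      intro g hg w hw
      obtain ⟨k, hk, hkN, hgk⟩ := hd g hg
      rw [hgk w (mem_inf.1 hw).1, mem_centralizer_iff.1 (h4 hw) k hk, mul_inv_cancel_right]
      exact hw) with h5 | h5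
    · apply h.not_comm_le
      intro a ha b hb
      exact h5 (h.ab.br a ha b hb)
    · apply ha₀B
      rw [← h5] at ha₀
      exact (mem_inf.1 ha₀).2
  · obtain ⟨b, hb, hbA⟩ := h.ab.neB
    obtain ⟨q, hq, hq1⟩ : ∃ q ∈ NCtx.bar K A, q ≠ 1 := by
      by_contra h0
      push Not at h0
      exact hne ((Subgroup.eq_bot_iff_forall _).2 h0)
    have hq2 : q * q = 1 := by
      obtain ⟨x, hx, rfl⟩ := hq
      rw [← map_mul]
      have : x * x = 1 := Subtype.ext (h.ab.A_sq x hx)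
      rw [this, map_one]
    have hbS := h.ab.B_le hb
    have h1 := mem_of_stronglyEmbedded hH hcA hq hq2 hq1
      (s := QuotientGroup.mk' (center K) ⟨b, hSK hbS⟩) (by
        rw [hP', Sylow.coe_mapSurjective]
        exact ⟨⟨b, hSK hbS⟩, by rw [hP]; exact mem_subgroupOf.2 hbS, rfl⟩) (by
        rw [← map_mul]
        have : (⟨b, hSK hbS⟩ * ⟨b, hSK hbS⟩ : K) = 1 := Subtype.ext (h.ab.B_sq b hb)
        rw [this, map_one])
    obtain ⟨y, hy, c, hc, e⟩ := NCtx.mem_bar.1 h1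
    have e' : b = (y : X) * c := congrArg Subtype.val e
    apply hbA
    apply h.ab.centA a₀ ha₀ ha₀B b hbS
    have h2 := h.ab.A_comm a₀ ha₀ _ hy
    have h3 := hcomK c hc a₀ (hAK ha₀)
    calc a₀ * b = (a₀ * y) * c := by rw [e']; group
      _ = y * (a₀ * c) := by rw [h2]; group
      _ = b * a₀ := by rw [h3, e']; group

/-- in the second case `S ∩ K ≤ A` -/
theorem mem_A_of_mem (h : OneCtx S A B L Z₁ K)
    (hd : ∀ g ∈ L, ∀ k ∈ K, k ∈ normalizer (A : Set X) → ∀ a ∈ A,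
      (g * k) * a * (g * k)⁻¹ = (k * g) * a * (k * g)⁻¹) {x : X} (hxS : x ∈ (S : Subgroup X)) (hxK : x ∈ K) :
    x ∈ A := by
  by_contra hxA
  have hxN := h.ab.S_le_normalizer_A hxS
  let W : Subgroup X := A ⊓ centralizer {x}
  have hW : ∀ {w}, w ∈ W ↔ w ∈ A ∧ w * x = x * w := by
    intro w
    rw [mem_inf, mem_centralizer_singleton_iff]
  rcases h.irr W inf_le_left (by
    intro g hg w hw
    rw [hW] at hw ⊢
    obtain ⟨hwA, hwx⟩ := hw
    refine ⟨conj_mem_of_mem_normalizer (h.LN hg) hwA, ?_⟩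
    have h1 := hd g hg x hxK hxN w hwA
    have h2 : x * (g * w * g⁻¹) * x⁻¹ = g * w * g⁻¹ := by
      calc x * (g * w * g⁻¹) * x⁻¹ = (x * g) * w * (x * g)⁻¹ := by group
        _ = (g * x) * w * (g * x)⁻¹ := h1.symm
        _ = g * (x * w) * x⁻¹ * g⁻¹ := by group
        _ = g * w * g⁻¹ := by rw [← hwx]; group
    calc g * w * g⁻¹ * x = x * (g * w * g⁻¹) * x⁻¹ * x := by rw [h2]
      _ = x * (g * w * g⁻¹) := by group) with h1 | h1
  · have h2 := h.card_le hxS (W := Z₁) (fun a ha hax => h1 (hW.2 ⟨ha, hax⟩))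
    exact absurd h.card (not_lt.2 h2)
  · obtain ⟨a₀, ha₀, ha₀B⟩ := h.ab.neA
    apply hxA
    have h2 : a₀ ∈ W := by rw [h1]; exact ha₀
    exact h.ab.centA a₀ ha₀ ha₀B x hxS (hW.1 h2).2

/-- the index of `A` in `KA` is odd -/
theorem not_dvd (h : OneCtx S A B L Z₁ K) (hSA : ∀ x ∈ (S : Subgroup X), x ∈ K → x ∈ A) :
    ¬ 2 ∣ A.relIndex (A ⊔ K) := by
  obtain ⟨P, hP⟩ := h.exists_sylow
  have h1 : ¬ 2 ∣ A.relIndex K := by
    have h2 : A.relIndex K = (P : Subgroup K).index := by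
      rw [relIndex]
      congr 1
      ext x
      rw [mem_subgroupOf, hP, mem_subgroupOf]
      exact ⟨fun hx => h.ab.A_le hx, fun hx => hSA _ hx x.2⟩
    rw [h2]
    exact P.not_dvd_index
  set N := normalizer (K : Set X) with hN
  have hAN : A ≤ N := fun a ha => h.A_normalises ha
  have hKN : K ≤ N := le_normalizer
  have : (K.subgroupOf N).Normal := inferInstance
  have h3 := Cfsg.Agent.Lib.SylowNormalInf.relIndex_sup_of_normal (A.subgroupOf N) (K.subgroupOf N)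
  rw [relIndex_subgroupOf hKN] at h3
  rw [← Subgroup.subgroupOf_sup hAN hKN, relIndex_subgroupOf (sup_le hAN hKN)] at h3
  rw [h3]
  exact h1

/-- in the second case some element of `N_K(A)` acts nontrivially on `A` -/
theorem exists_act (h : OneCtx S A B L Z₁ K) (hSA : ∀ x ∈ (S : Subgroup X), x ∈ K → x ∈ A) :
    ∃ k ∈ K, k ∈ normalizer (A : Set X) ∧ ∃ a ∈ A, a * k ≠ k * a := by
  by_contra hcon
  push Not at hcon
  obtain ⟨P, hP⟩ := h.exists_sylow
  have hPS : ∀ {x : K}, x ∈ (P : Subgroup K) ↔ (x : X) ∈ (S : Subgroup X) := by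
    intro x; rw [hP, mem_subgroupOf]
  have hPA : ∀ {x : K}, x ∈ (P : Subgroup K) → (x : X) ∈ A := fun hx => hSA _ (hPS.1 hx) (Subtype.prop _)
  have hA2 : IsPGroup 2 A := S.isPGroup'.to_le h.ab.A_le
  have hAN : ∀ a ∈ A, a ∈ normalizer (K : Set X) := fun a ha => h.A_normalises ha
  apply h.not_central P
  apply focal_le h.comp.2.1
  intro y hy w hw
  have hyA := hPA hy
  have hwA : (w : X) * y * (w : X)⁻¹ ∈ A := hPA hw
  set y' : X := (w : X) * y * (w : X)⁻¹ with hy'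
  -- Burnside's argument in `KA ∩ C(y')`
  set D := (A ⊔ K) ⊓ centralizer {y'} with hD
  have hAD : A ≤ D := le_inf le_sup_left (fun a ha => by
    rw [mem_centralizer_singleton_iff]
    exact h.ab.A_comm a ha y' hwA)
  have hi : ¬ 2 ∣ A.relIndex D := by
    intro hd
    apply h.not_dvd hSA
    rw [← relIndex_mul_relIndex A D (A ⊔ K) hAD inf_le_left]
    exact hd.mul_right _
  have hAwD : A.map (MulAut.conj (w : X)).toMonoidHom ≤ D := by
    rintro _ ⟨a, ha, rfl⟩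
    refine mem_inf.2 ⟨?_, ?_⟩
    · show (w : X) * a * (w : X)⁻¹ ∈ A ⊔ K
      exact mul_mem (mul_mem (mem_sup_right w.2) (mem_sup_left ha)) (inv_mem (mem_sup_right w.2))
    · rw [mem_centralizer_singleton_iff]
      show (w : X) * a * (w : X)⁻¹ * y' = y' * ((w : X) * a * (w : X)⁻¹)
      have h1 := h.ab.A_comm a ha y hyA
      calc (w : X) * a * (w : X)⁻¹ * y' = w * (a * y) * (w : X)⁻¹ := by rw [hy']; group
        _ = _ := by rw [h1, hy']; group
  obtain ⟨n, hn, hle⟩ := exists_conj_le_in (p := 2) hA2 hi hAwD (hA2.map _)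
  rw [map_conj_map_conj] at hle
  have hnN : n * w ∈ normalizer (A : Set X) := mem_normalizer_iff_map_conj.2 (map_conj_le_of_le_normalizer hle)
  obtain ⟨hnAK, hnc⟩ := mem_inf.1 hn
  rw [mem_centralizer_singleton_iff] at hnc
  -- `n w = a k`
  have hsup : ∀ x, x ∈ A ⊔ K → ∃ a ∈ A, ∃ k ∈ K, x = a * k := by
    intro x hx
    exact (mem_sup_of_le_normalizer hAN).1 hx
  obtain ⟨a, ha, k, hk, hak⟩ := hsup (n * w) (mul_mem hnAK (mem_sup_right w.2))
  have hkN : k ∈ normalizer (A : Set X) := by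
    have : k = a⁻¹ * (n * w) := by rw [hak]; group
    rw [this]
    exact mul_mem (inv_mem (le_normalizer ha)) hnN
  have hky := hcon k hk hkN y hyA
  have hay := h.ab.A_comm a ha y hyA
  -- `y' = y`
  have h1 : y' = y := by
    have h2 : (n * w) * y * (n * w)⁻¹ = y := by
      rw [hak]
      calc a * k * (y : X) * (a * k)⁻¹ = a * (k * y) * k⁻¹ * a⁻¹ := by group
        _ = (a * y) * a⁻¹ := by rw [← hky]; group
        _ = y := by rw [hay]; group
    have h3 : (n * w) * y * (n * w)⁻¹ = y' := by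
      calc (n * w) * (y : X) * (n * w)⁻¹ = (n * y') * n⁻¹ := by rw [hy']; group
        _ = y' := by rw [hnc]; group
    rw [← h3, h2]
  have h4 : w * y * w⁻¹ * y⁻¹ = 1 := by
    apply Subtype.ext
    show (w : X) * y * (w : X)⁻¹ * (y : X)⁻¹ = 1
    rw [← hy', h1, mul_inv_cancel]
  rw [h4]
  exact one_mem _

/-- the second case is impossible -/
theorem false_two (h : OneCtx S A B L Z₁ K)
    (hd : ∀ g ∈ L, ∀ k ∈ K, k ∈ normalizer (A : Set X) → ∀ a ∈ A,
      (g * k) * a * (g * k)⁻¹ = (k * g) * a * (k * g)⁻¹) : False := by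
  have hSA : ∀ x ∈ (S : Subgroup X), x ∈ K → x ∈ A := fun x hx hxK => h.mem_A_of_mem hd hx hxK
  obtain ⟨r, hr, hrN, a₁, ha₁, hne⟩ := h.exists_act hSA
  -- `C_A(r) ≤ Z₁`
  have hcent : ∀ a ∈ A, a * r = r * a → a ∈ Z₁ := by
    let W : Subgroup X := A ⊓ centralizer {r}
    have hW : ∀ {w}, w ∈ W ↔ w ∈ A ∧ w * r = r * w := by
      intro w
      rw [mem_inf, mem_centralizer_singleton_iff]
    rcases h.irr W inf_le_left (by
      intro g hg w hw
      rw [hW] at hw ⊢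
      obtain ⟨hwA, hwx⟩ := hw
      refine ⟨conj_mem_of_mem_normalizer (h.LN hg) hwA, ?_⟩
      have h1 := hd g hg r hr hrN w hwA
      have h2 : r * (g * w * g⁻¹) * r⁻¹ = g * w * g⁻¹ := by
        calc r * (g * w * g⁻¹) * r⁻¹ = (r * g) * w * (r * g)⁻¹ := by group
          _ = (g * r) * w * (g * r)⁻¹ := h1.symm
          _ = g * (r * w) * r⁻¹ * g⁻¹ := by group
          _ = g * w * g⁻¹ := by rw [← hwx]; group
      calc g * w * g⁻¹ * r = r * (g * w * g⁻¹) * r⁻¹ * r := by rw [h2]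
        _ = r * (g * w * g⁻¹) := by group) with h1 | h1
    · intro a ha har
      exact h1 (hW.2 ⟨ha, har⟩)
    · exfalso
      apply hne
      rw [← h1] at ha₁
      exact (hW.1 ha₁).2
  -- `A = [A, r] ≤ K`
  let f := commHom A h.ab.A_comm r hrN
  have hAK : A ≤ K := by
    let W : Subgroup X := f.range.map A.subtype
    have hWmem : ∀ {w}, w ∈ W ↔ ∃ a ∈ A, w = a * (r * a⁻¹ * r⁻¹) := by
      intro w
      constructor
      · rintro ⟨_, ⟨a, rfl⟩, rfl⟩
        exact ⟨a, a.2, rfl⟩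
      · rintro ⟨a, ha, rfl⟩
        exact ⟨f ⟨a, ha⟩, ⟨⟨a, ha⟩, rfl⟩, rfl⟩
    apply h.A_le_K_of (W := W)
    · rintro _ ⟨x, -, rfl⟩; exact x.2
    · intro w hw
      obtain ⟨a, ha, rfl⟩ := hWmem.1 hw
      have h1 := mul_mem (h.conj_K ha hr) (inv_mem hr)
      convert h1 using 1
      group
    · intro g hg w hw
      obtain ⟨a, ha, rfl⟩ := hWmem.1 hw
      rw [hWmem]
      refine ⟨g * a * g⁻¹, conj_mem_of_mem_normalizer (h.LN hg) ha, ?_⟩
      have h1 := hd g hg r hr hrN a⁻¹ (inv_mem ha)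
      calc g * (a * (r * a⁻¹ * r⁻¹)) * g⁻¹ = (g * a * g⁻¹) * ((g * r) * a⁻¹ * (g * r)⁻¹) := by group
        _ = (g * a * g⁻¹) * ((r * g) * a⁻¹ * (r * g)⁻¹) := by rw [h1]
        _ = _ := by group
    · intro hle
      have h1 : Nat.card f.range ≤ Nat.card Z₁ :=
        Nat.card_le_card_of_injective
          (fun x : f.range => (⟨(x : A), hle ⟨x.1, x.2, rfl⟩⟩ : Z₁)) (fun x y hxy => by
            have h2 := congrArg (fun w : Z₁ => (w : X)) hxy
            exact Subtype.ext (Subtype.ext h2))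
      have h2 : Nat.card f.ker ≤ Nat.card Z₁ :=
        Nat.card_le_card_of_injective
          (fun x : f.ker => (⟨(x : A), hcent _ x.1.2 (mem_ker_commHom.1 x.2)⟩ : Z₁)) (fun x y hxy => by
            have h2 := congrArg (fun w : Z₁ => (w : X)) hxy
            exact Subtype.ext (Subtype.ext h2))
      have h3 := h.card
      rw [card_commHom (A := A) (hA := h.ab.A_comm) (r := r) (hr := hrN)] at h3
      exact absurd h3 (not_lt.2 (Nat.mul_le_mul h2 h1))
  -- the central element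
  obtain ⟨z, hz, hz1, hzc⟩ := h.zc
  obtain ⟨P, hP⟩ := h.exists_sylow
  have hPc : ∀ x ∈ (P : Subgroup K), ∀ y ∈ (P : Subgroup K), x * y = y * x := by
    intro x hx y hy
    rw [hP, mem_subgroupOf] at hx hy
    exact Subtype.ext (h.ab.A_comm x (hSA x hx x.2) y (hSA y hy y.2))
  have hzK : (⟨z, hAK hz⟩ : K) ∈ center K := mem_center_iff.2 fun g => Subtype.ext (hzc g)
  apply hz1
  have h0 : (⟨z, hAK hz⟩ : K) = 1 := by
    set c : K := ⟨z, hAK hz⟩ with hc
    let _ : CommGroup (P : Subgroup K) :=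
      { (inferInstance : Group (P : Subgroup K)) with
        mul_comm := fun x y => Subtype.ext (hPc x x.2 y y.2) }
    have h1 := MonoidHom.transfer_eq_pow (MonoidHom.id (P : Subgroup K)) c (by
      intro k g _
      rw [mul_assoc, ← mem_center_iff.1 (pow_mem hzK k) g, inv_mul_cancel_left])
    rw [Cfsg.Agent.SignalizersComponents.CompBasic.hom_eq_one_of_perfect h.comp.2.1] at h1
    have h2 : c ^ (P : Subgroup K).index = 1 := (congrArg Subtype.val h1).symm
    have h3 : c ^ 2 = 1 := by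
      rw [pow_two]
      exact Subtype.ext (h.ab.A_sq z hz)
    have h4 := P.not_dvd_index
    have h5 : Nat.Coprime 2 (P : Subgroup K).index := (Nat.Prime.coprime_iff_not_dvd Nat.prime_two).2 h4
    have h6 := Nat.dvd_gcd (orderOf_dvd_of_pow_eq_one h3) (orderOf_dvd_of_pow_eq_one h2)
    rw [h5.gcd_eq_one, Nat.dvd_one, orderOf_eq_one_iff] at h6
    exact h6
  exact congrArg Subtype.val h0

theorem false (h1169 : H1169.{u}) (h : OneCtx S A B L Z₁ K) : False := by
  rcases h.dich with hd | hd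
  · exact h.false_one h1169 hd
  · exact h.false_two hd

end OneCtx

/-- **No components** (one essential subgroup). -/
theorem not_hasComponent_one (h1169 : H1169.{u}) {S : Sylow 2 X} {A B L Z₁ : Subgroup X}
    (ab : IsAB (S : Subgroup X) A B) (core : Cfsg.oddCore X = ⊥)
    (NB : normalizer (B : Set X) ≤ normalizer ((A ⊓ B : Subgroup X) : Set X))
    (SL : (S : Subgroup X) ≤ L) (LN : L ≤ normalizer (A : Set X))
    (nL : ∀ n ∈ normalizer (A : Set X), ∀ g ∈ L, n * g * n⁻¹ ∈ L)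
    (qs : Cfsg.IsQuasisimple (autImage A L)) (cent : ∀ z ∈ Z₁, ∀ g ∈ L, g * z = z * g)
    (irr : ∀ W : Subgroup X, W ≤ A → (∀ g ∈ L, ∀ w ∈ W, g * w * g⁻¹ ∈ W) → W ≤ Z₁ ∨ W = A)
    (card : Nat.card Z₁ * Nat.card Z₁ < Nat.card A)
    (zc : ∃ z ∈ A, z ≠ 1 ∧ ∀ x : X, x * z = z * x) : ¬ Cfsg.HasComponent X := by
  rintro ⟨K, hK⟩
  exact OneCtx.false h1169 ⟨ab, core, NB, SL, LN, nL, qs, cent, irr, card, zc, hK⟩

end Cfsg.Agent.TypeSpFour
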