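import Mathlib
import Cfsg.Agent.TypeSpFour.Both
import Cfsg.Agent.TypeSpFour.NoCompOne
import Cfsg.Agent.TypeL3.CharTwo
import Cfsg.Agent.SignalizersComponents.SLQuasisimple

/-!
# `G` is of characteristic 2 type

`G` simple with Sylow 2-subgroup `S = AB` of type `Sp₄(q)`, `q ≥ 4`. The centralisers of involutions modulo their
cores have no component, hence `G` is of characteristic 2 type.
-/

set_option autoImplicit false

namespace Cfsg.Agent.TypeSpFour.CharTwo

open Subgroup Cfsg.Agent.Lib.GoldschmidtFusion Cfsg.Agent.TypeL3 Cfsg.Agent.TypeSpFour.Half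
open Cfsg.Agent.TypeSpFour.Inter Cfsg.Agent.TypeSpFour.Side Cfsg.Agent.TypeSpFour.Both
open scoped commutatorElement

universe u

variable {F : Type*} [Field F] {G : Type u} [Group G] {A B : Subgroup G}

section irr

variable [Finite G] {S : Sylow 2 G} {WA WB : Subgroup G}
  {φA : ncl (S : Subgroup G) A →* Matrix.SpecialLinearGroup (Fin 2) F}
  {φB : ncl (S : Subgroup G) B →* Matrix.SpecialLinearGroup (Fin 2) F}

omit [Finite G] in
/-- there is an element of `X_A` outside `N(Z)` -/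
theorem exists_not_mem (T : TwoSided F (S : Subgroup G) A B WA WB φA φB) :
    ∃ n ∈ ncl (S : Subgroup G) A, n ∉ normalizer ((A ⊓ B : Subgroup G) : Set G) := by
  obtain ⟨a, ha, haB⟩ := T.neA
  obtain ⟨n, hn, hna⟩ := T.sideA.cover a ha
  refine ⟨n, hn, fun h => haB ?_⟩
  exact (mem_inf.1 ((conj_mem_iff_of_mem_normalizer h).1 hna)).2

/-- the map `b ↦ [w, b]` -/
def brHom (T : TwoSided F (S : Subgroup G) A B WA WB φA φB) {w : G} (hw : w ∈ A) :
    B × WA →* (A ⊓ B : Subgroup G) where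
  toFun p := ⟨w * p.1 * w⁻¹ * (p.1 : G)⁻¹ * p.2,
    mul_mem (T.br w hw p.1 p.1.2) (T.sideA.W_le p.2.2)⟩
  map_one' := by
    apply Subtype.ext
    show w * (1 : G) * w⁻¹ * (1 : G)⁻¹ * (1 : G) = 1
    group
  map_mul' p p' := by
    apply Subtype.ext
    obtain ⟨b, r⟩ := p
    obtain ⟨b', r'⟩ := p'
    show w * ((b : G) * b') * w⁻¹ * ((b : G) * b')⁻¹ * ((r : G) * r') =
      (w * b * w⁻¹ * (b : G)⁻¹ * r) * (w * b' * w⁻¹ * (b' : G)⁻¹ * r')
    have hbS := T.B_le b.2
    have h1 := T.br w hw b' b'.2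
    have hr := T.comm_Z (T.sideA.W_le r.2) (T.Z_le h1)
    calc w * ((b : G) * b') * w⁻¹ * ((b : G) * b')⁻¹ * ((r : G) * r')
        = w * b * w⁻¹ * ((w * b' * w⁻¹ * (b' : G)⁻¹) * (b' : G)) * ((b : G) * b')⁻¹ * ((r : G) * r') := by group
      _ = w * b * w⁻¹ * ((w * b' * w⁻¹ * (b' : G)⁻¹) * (b : G)⁻¹) * ((r : G) * r') := by group
      _ = w * b * w⁻¹ * ((b : G)⁻¹ * (w * b' * w⁻¹ * (b' : G)⁻¹)) * ((r : G) * r') := by
          rw [T.comm_Z h1 (inv_mem hbS)]
      _ = w * b * w⁻¹ * (b : G)⁻¹ * ((w * b' * w⁻¹ * (b' : G)⁻¹) * r) * r' := by group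
      _ = _ := by rw [← hr]; group

omit [Finite G] in
theorem brHom_val (T : TwoSided F (S : Subgroup G) A B WA WB φA φB) {w : G} (hw : w ∈ A) (p : B × WA) :
    ((brHom T hw p : (A ⊓ B : Subgroup G)) : G) = w * p.1 * w⁻¹ * (p.1 : G)⁻¹ * p.2 := rfl

/-- **irreducibility**: an `X_A`-invariant subgroup of `A` is `A` or contained in `W_A` -/
theorem irr (T : TwoSided F (S : Subgroup G) A B WA WB φA φB) {W : Subgroup G} (hW : W ≤ A)
    (hinv : ∀ g ∈ ncl (S : Subgroup G) A, ∀ w ∈ W, g * w * g⁻¹ ∈ W) : W ≤ WA ∨ W = A := by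
  classical
  rw [or_iff_not_imp_left]
  intro hnot
  obtain ⟨w₀, hw₀, hw₀W⟩ := SetLike.not_le_iff_exists.1 hnot
  -- an element of `W ∩ Z` outside `WA`
  obtain ⟨w, hw, hwZ, hwW⟩ : ∃ w ∈ W, w ∈ A ⊓ B ∧ w ∉ WA := by
    obtain ⟨n, hn, hnw⟩ := T.sideA.cover w₀ (hW hw₀)
    refine ⟨n * w₀ * n⁻¹, hinv n hn _ hw₀, hnw, fun h => hw₀W ?_⟩
    exact (conj_mem_iff_of_mem_normalizer (T.sideA.N_le (T.sideA.X_le hn))).1 h
  obtain ⟨m, hm, hmZ⟩ := exists_not_mem T
  have hmN := T.sideA.X_le hm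
  set w' := m * w * m⁻¹ with hw'
  have hw'W : w' ∈ W := hinv m hm w hw
  have hw'A : w' ∈ A := hW hw'W
  -- commutators with `w'`
  have key : ∀ b ∈ B, w' * b * w'⁻¹ * b⁻¹ ∈ WA → b ∈ A := by
    intro b hb hbW
    have hw'B : w' ∉ B := by
      intro h1
      have h2 : w' ∈ WA := by
        rw [← T.sideA.inter m hmN hmZ]
        exact mem_inf.2 ⟨mem_inf.2 ⟨hw'A, h1⟩, conj_mem_map_conj hwZ m⟩
      exact hwW ((conj_mem_iff_of_mem_normalizer (T.sideA.N_le hmN)).1 h2)
    apply T.centA w' hw'A hw'B b (T.B_le hb)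
    -- `t = m⁻¹ b m`
    set t := m⁻¹ * b * m with ht
    have hbX : b ∈ ncl (S : Subgroup G) A := T.sideA.S_le (T.B_le hb)
    have htX : t ∈ ncl (S : Subgroup G) A := mul_mem (mul_mem (inv_mem hm) hbX) hm
    have htN := T.sideA.X_le htX
    have hb2 := T.B_sq b hb
    have ht2 : t * t = 1 := by
      calc t * t = m⁻¹ * (b * b) * m := by rw [ht]; group
        _ = 1 := by rw [hb2]; group
    -- `t w t⁻¹ ∈ w WA`
    have h1 : t * w⁻¹ * t⁻¹ * w ∈ WA := by
      have h2 : m⁻¹ * (w' * b * w'⁻¹ * b⁻¹) * m⁻¹⁻¹ ∈ WA :=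
        conj_mem_of_mem_normalizer (inv_mem (T.sideA.N_le hmN)) hbW
      have h3 : w⁻¹ * (m⁻¹ * (w' * b * w'⁻¹ * b⁻¹) * m⁻¹⁻¹) * w = t * w⁻¹ * t⁻¹ * w := by
        rw [hw', ht]; group
      rw [← h3]
      have h4 := T.A_comm _ (mem_inf.1 (T.sideA.W_le h2)).1 w (hW hw)
      rw [mul_assoc, h4]
      simpa using h2
    have h5 : t * w * t⁻¹ ∈ A ⊓ B := by
      have h6 := T.sideA.W_le h1
      have h7 := mul_mem hwZ (inv_mem h6)
      convert h7 using 1
      group
    by_cases htZ : t ∈ normalizer ((A ⊓ B : Subgroup G) : Set G)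
    · have h6 := comm_of_sq T.toIsAB ht2 htZ hwZ
      calc w' * b = m * (w * t) * m⁻¹ := by rw [hw', ht]; group
        _ = b * w' := by rw [← h6, hw', ht]; group
    · exfalso
      have h6 : t * w * t⁻¹ ∈ WA := by
        rw [← T.sideA.inter t htN htZ]
        exact mem_inf.2 ⟨h5, conj_mem_map_conj hwZ t⟩
      exact hwW ((conj_mem_iff_of_mem_normalizer (T.sideA.N_le htN)).1 h6)
  -- counting
  have hsurj : Function.Surjective (brHom T hw'A) := by
    have hcard : Nat.card (brHom T hw'A).ker ≤ Nat.card (A ⊓ B : Subgroup G) := by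
      refine Nat.card_le_card_of_injective
        (fun p : (brHom T hw'A).ker => (⟨p.1.1.1, ?_⟩ : (A ⊓ B : Subgroup G))) ?_
      · have h1 : w' * p.1.1 * w'⁻¹ * (p.1.1 : G)⁻¹ * p.1.2 = 1 := congrArg Subtype.val (MonoidHom.mem_ker.1 p.2)
        refine mem_inf.2 ⟨key _ p.1.1.2 ?_, p.1.1.2⟩
        rw [mul_eq_one_iff_eq_inv.1 h1]
        exact inv_mem p.1.2.2
      · rintro ⟨⟨b, r⟩, hp⟩ ⟨⟨b', r'⟩, hp'⟩ e
        have e1 : (b : G) = b' := congrArg (fun z : (A ⊓ B : Subgroup G) => (z : G)) e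
        have h1 : w' * b * w'⁻¹ * (b : G)⁻¹ * r = 1 := congrArg Subtype.val (MonoidHom.mem_ker.1 hp)
        have h2 : w' * b' * w'⁻¹ * (b' : G)⁻¹ * r' = 1 := congrArg Subtype.val (MonoidHom.mem_ker.1 hp')
        rw [← e1] at h2
        have e2 : (r : G) = r' := mul_left_cancel (h1.trans h2.symm)
        have e3 : b = b' := Subtype.ext e1
        have e4 : r = r' := Subtype.ext e2
        subst e3 e4
        rfl
    have h1 : Nat.card (B × WA) = Nat.card (brHom T hw'A).ker * Nat.card (brHom T hw'A).range := by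
      rw [← Subgroup.index_ker, Subgroup.card_mul_index]
    rw [Nat.card_prod, T.sideB.card_A, T.sideA.card_W] at h1
    rw [T.sideA.card_Z] at hcard
    have h2 : Nat.card (brHom T hw'A).range ≤ Nat.card (A ⊓ B : Subgroup G) :=
      Nat.card_le_card_of_injective _ (Subgroup.subtype_injective _)
    have hpos : 0 < Nat.card (A ⊓ B : Subgroup G) := Nat.card_pos
    rw [T.sideA.card_Z] at hpos
    have h3 : Nat.card (A ⊓ B : Subgroup G) ≤ Nat.card (brHom T hw'A).range := by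
      rw [T.sideA.card_Z]
      by_contra hlt
      push Not at hlt
      have h4 : Nat.card F ^ 3 * Nat.card F < Nat.card F ^ 2 * Nat.card F ^ 2 := by
        rw [h1]
        exact lt_of_le_of_lt (Nat.mul_le_mul_right _ hcard) (Nat.mul_lt_mul_of_pos_left hlt hpos)
      apply absurd h4
      rw [not_lt]
      apply le_of_eq
      ring
    rw [← MonoidHom.range_eq_top]
    exact Subgroup.eq_top_of_le_card _ h3
  -- `Z ≤ W WA`
  have hZ : ∀ z ∈ A ⊓ B, ∃ a ∈ W, ∃ r ∈ WA, z = a * r := by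
    intro z hz
    obtain ⟨⟨b, r⟩, e⟩ := hsurj ⟨z, hz⟩
    have e1 : w' * b * w'⁻¹ * (b : G)⁻¹ * r = z := congrArg Subtype.val e
    refine ⟨w' * b * w'⁻¹ * (b : G)⁻¹, ?_, r, r.2, e1.symm⟩
    have h1 := hinv b (T.sideA.S_le (T.B_le b.2)) _ (inv_mem hw'W)
    have h2 := mul_mem hw'W h1
    convert h2 using 1
    group
  have hA : ∀ a ∈ A, ∃ a' ∈ W, ∃ r ∈ WA, a = a' * r := by
    intro a ha
    obtain ⟨n, hn, hna⟩ := T.sideA.cover a ha
    obtain ⟨a', ha', r, hr, e⟩ := hZ _ hna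
    refine ⟨n⁻¹ * a' * n⁻¹⁻¹, hinv _ (inv_mem hn) _ ha', r, hr, ?_⟩
    have h1 := TwoSided.X_comm T.sideA (inv_mem hn) hr
    calc a = n⁻¹ * (n * a * n⁻¹) * n := by group
      _ = n⁻¹ * a' * n⁻¹⁻¹ * (n⁻¹ * r) * n := by rw [e]; group
      _ = n⁻¹ * a' * n⁻¹⁻¹ * r := by rw [h1]; group
  -- commutators of `S` lie in `W`
  have hcom : ⁅(S : Subgroup G), (S : Subgroup G)⁆ ≤ W := by
    rw [Subgroup.commutator_le]
    intro x hx y hy
    rw [commutatorElement_def]
    obtain ⟨a, ha, b, hb, rfl⟩ := T.prod x hx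
    obtain ⟨c, hc, d, hd, rfl⟩ := T.prod y hy
    obtain ⟨a', ha', r, hr, rfl⟩ := hA a ha
    obtain ⟨c', hc', r', hr', rfl⟩ := hA c hc
    have hbS := T.B_le hb
    have hdS := T.B_le hd
    have ha'S := T.A_le (hW ha')
    have hc'S := T.A_le (hW hc')
    have hr1 : ∀ s ∈ (S : Subgroup G), r * s = s * r := fun s hs => T.comm_Z (T.sideA.W_le hr) hs
    have hr2 : ∀ s ∈ (S : Subgroup G), r' * s = s * r' := fun s hs => T.comm_Z (T.sideA.W_le hr') hs
    have hrS := T.Z_le (T.sideA.W_le hr)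
    have hrS' := T.Z_le (T.sideA.W_le hr')
    have e1 : a' * r * b = (a' * b) * r := by rw [mul_assoc, hr1 b hbS]; group
    have e2 : c' * r' * d = (c' * d) * r' := by rw [mul_assoc, hr2 d hdS]; group
    have hinvr : ∀ s ∈ (S : Subgroup G), r * s * r⁻¹ = s := fun s hs => by rw [hr1 s hs]; group
    have e3 : (a' * b) * r * ((c' * d) * r') * ((a' * b) * r)⁻¹ * ((c' * d) * r')⁻¹ =
        a' * b * (c' * d) * (a' * b)⁻¹ * (c' * d)⁻¹ := by
      have hy : (c' * d) * r' ∈ (S : Subgroup G) := mul_mem (mul_mem hc'S hdS) hrS'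
      have hab : (a' * b)⁻¹ ∈ (S : Subgroup G) := inv_mem (mul_mem ha'S hbS)
      calc (a' * b) * r * ((c' * d) * r') * ((a' * b) * r)⁻¹ * ((c' * d) * r')⁻¹
          = (a' * b) * (r * ((c' * d) * r') * r⁻¹) * (a' * b)⁻¹ * ((c' * d) * r')⁻¹ := by group
        _ = (a' * b) * ((c' * d) * r') * (a' * b)⁻¹ * ((c' * d) * r')⁻¹ := by rw [hinvr _ hy]
        _ = (a' * b) * (c' * d) * (r' * (a' * b)⁻¹) * r'⁻¹ * (c' * d)⁻¹ := by group
        _ = _ := by rw [hr2 _ hab]; group
    rw [e1, e2, e3]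
    have h1 := hinv b (T.sideA.S_le hbS) _ hc'
    have h2 := hinv d (T.sideA.S_le hdS) _ (inv_mem ha')
    have h3 := mul_mem (mul_mem (mul_mem ha' h1) h2) (inv_mem hc')
    have hbd := T.B_comm b hb d hd
    have e4 : a' * b * (c' * d) * (a' * b)⁻¹ * (c' * d)⁻¹ =
        a' * (b * c' * b⁻¹) * (d * a'⁻¹ * d⁻¹) * c'⁻¹ := by
      calc a' * b * (c' * d) * (a' * b)⁻¹ * (c' * d)⁻¹
          = a' * (b * c' * b⁻¹) * ((b * d) * b⁻¹) * a'⁻¹ * d⁻¹ * c'⁻¹ := by group
        _ = _ := by rw [hbd]; group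
    rw [e4]
    exact h3
  apply le_antisymm hW
  intro a ha
  obtain ⟨n, hn, hna⟩ := T.sideA.cover a ha
  have h1 := hcom (T.der hna)
  have h2 := hinv _ (inv_mem hn) _ h1
  convert h2 using 1
  group

end irr

section quot

variable {C : Type u} [Group C]

/-- identification of the group of automorphisms induced on the image of `A` -/
theorem isQuasisimple_autImage {H : Type*} [Group H] {A L : Subgroup C} {p : C →* H}
    (hp : ∀ x ∈ A, p x = 1 → x = 1) (LN : L ≤ normalizer (A : Set C))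
    {Y : Type*} [Group Y] (f : L →* Y) (hf : Function.Surjective f)
    (ker : f.ker = (centralizer (A : Set C)).subgroupOf L) (qs : Cfsg.IsQuasisimple Y) :
    Cfsg.IsQuasisimple (autImage (A.map p) (L.map p)) := by
  have hLN : ∀ x : L, p x ∈ normalizer ((A.map p : Subgroup H) : Set H) := fun x =>
    Subgroup.le_normalizer_map p ⟨x, LN x.2, rfl⟩
  let g1 : L →* normalizer ((A.map p : Subgroup H) : Set H) := (p.comp L.subtype).codRestrict _ hLN
  let g2 : L →* (A.map p).normalizerMonoidHom.range := (A.map p).normalizerMonoidHom.rangeRestrict.comp g1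
  have hr : g2.range = autImage (A.map p) (L.map p) := by
    have h1 : g1.range = (L.map p).subgroupOf (normalizer ((A.map p : Subgroup H) : Set H)) := by
      ext ⟨x, hx⟩
      rw [mem_subgroupOf]
      constructor
      · rintro ⟨l, hl⟩
        exact ⟨l, l.2, congrArg Subtype.val hl⟩
      · rintro ⟨l, hl, e⟩
        exact ⟨⟨l, hl⟩, Subtype.ext e⟩
    rw [autImage, ← h1, MonoidHom.map_range]
  have hk : f.ker = g2.ker := by
    rw [ker]
    ext x
    rw [mem_subgroupOf, MonoidHom.mem_ker, mem_centralizer_iff]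
    have hval : ∀ (a : A.map p), ((((g2 x : (A.map p).normalizerMonoidHom.range) : MulAut (A.map p)) a :
      (A.map p : Subgroup H)) : H) = p x * a * (p x)⁻¹ := fun a => rfl
    constructor
    · intro h
      apply Subtype.ext
      apply MulEquiv.ext
      rintro ⟨_, a, ha, rfl⟩
      apply Subtype.ext
      rw [hval]
      show p x * p a * (p x)⁻¹ = p a
      rw [← map_mul, ← h a ha, map_mul, mul_inv_cancel_right]
    · intro h a ha
      have h1 := hval ⟨p a, a, ha, rfl⟩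
      rw [h] at h1
      have h2 : p a = p x * p a * (p x)⁻¹ := h1
      have h3 : (x : C) * a * (x : C)⁻¹ * a⁻¹ = 1 := by
        apply hp
        · exact mul_mem (conj_mem_of_mem_normalizer (LN x.2) ha) (inv_mem ha)
        · rw [map_mul, map_mul, map_mul, map_inv, map_inv, ← h2, mul_inv_cancel]
      have h4 := mul_inv_eq_one.1 h3
      nth_rewrite 1 [← h4]
      group
  have e : Y ≃* autImage (A.map p) (L.map p) :=
    (((QuotientGroup.quotientKerEquivOfSurjective f hf).symm.trans (QuotientGroup.quotientMulEquivOfEq hk)).trans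
      (QuotientGroup.quotientKerEquivRange g2)).trans (MulEquiv.subgroupCongr hr)
  exact Cfsg.Agent.SignalizersComponents.Components.isQuasisimple_of_mulEquiv e qs

variable [Finite C]

/-- no components in `C / O(C)` -/
theorem not_hasComponent_quot (h1169 : H1169.{u}) {S : Sylow 2 C} {A B L Z₁ : Subgroup C}
    (ab : IsAB (S : Subgroup C) A B)
    (NB : normalizer (B : Set C) ≤ normalizer ((A ⊓ B : Subgroup C) : Set C))
    (SL : (S : Subgroup C) ≤ L) (LN : L ≤ normalizer (A : Set C))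
    (nL : ∀ n ∈ normalizer (A : Set C), ∀ g ∈ L, n * g * n⁻¹ ∈ L)
    {Y : Type*} [Group Y] (f : L →* Y) (hf : Function.Surjective f)
    (ker : f.ker = (centralizer (A : Set C)).subgroupOf L) (qs : Cfsg.IsQuasisimple Y)
    (Z₁A : Z₁ ≤ A) (cent : ∀ z ∈ Z₁, ∀ g ∈ L, g * z = z * g)
    (irr : ∀ W : Subgroup C, W ≤ A → (∀ g ∈ L, ∀ w ∈ W, g * w * g⁻¹ ∈ W) → W ≤ Z₁ ∨ W = A)
    (card : Nat.card Z₁ * Nat.card Z₁ < Nat.card A)
    (zc : ∃ z ∈ A, z ≠ 1 ∧ ∀ x : C, x * z = z * x) : ¬ Cfsg.HasComponent (C ⧸ Cfsg.oddCore C) := by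
  set O := Cfsg.oddCore C with hO
  have hOn : O.Normal := Cfsg.Agent.Lib.Cores.pPrimeCore_normal 2
  have hOodd : (Nat.card O).Coprime 2 := Cfsg.Agent.Lib.Cores.pPrimeCore_coprime 2
  let SX := S.mapSurjective (QuotientGroup.mk'_surjective O)
  have hinj : ∀ x ∈ (S : Subgroup C), QuotientGroup.mk' O x = 1 → x = 1 := by
    intro x hx hx1
    have hxO : x ∈ O := (QuotientGroup.eq_one_iff _).1 hx1
    have h1 : orderOf x ∣ Nat.card O := by
      have := orderOf_dvd_natCard (⟨x, hxO⟩ : O)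
      rwa [← Subgroup.orderOf_coe] at this
    obtain ⟨k, hk⟩ := S.isPGroup' ⟨x, hx⟩
    have h2 : orderOf x ∣ 2 ^ k := orderOf_dvd_of_pow_eq_one (congrArg Subtype.val hk)
    have h3 : orderOf x ∣ Nat.gcd (Nat.card O) (2 ^ k) := Nat.dvd_gcd h1 h2
    rw [Nat.Coprime.pow_right k hOodd] at h3
    exact orderOf_eq_one_iff.1 (Nat.dvd_one.1 h3)
  have hABX : IsAB (SX : Subgroup (C ⧸ O)) (A.map (QuotientGroup.mk' O)) (B.map (QuotientGroup.mk' O)) :=
    ab.map _ hinj
  have hcore : Cfsg.oddCore (C ⧸ O) = ⊥ := Cfsg.Agent.Lib.Cores.pPrimeCore_quotient_pPrimeCore 2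
  have hinf : A.map (QuotientGroup.mk' O) ⊓ B.map (QuotientGroup.mk' O) = (A ⊓ B).map (QuotientGroup.mk' O) :=
    IsAB.map_inf_of_ker ab.A_le ab.B_le hinj
  have hcard : ∀ W : Subgroup C, W ≤ A → Nat.card (W.map (QuotientGroup.mk' O)) = Nat.card W := by
    intro W hW
    refine (Nat.card_congr (Equiv.ofBijective
      (fun w : W => (⟨QuotientGroup.mk' O w, w, w.2, rfl⟩ : W.map (QuotientGroup.mk' O))) ⟨?_, ?_⟩)).symm
    · intro x y hxy
      exact Subtype.ext (IsAB.inj_of_ker hinj (ab.A_le (hW x.2)) (ab.A_le (hW y.2)) (congrArg Subtype.val hxy))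
    · rintro ⟨_, w, hw, rfl⟩
      exact ⟨⟨w, hw⟩, rfl⟩
  have lift : ∀ {A : Subgroup C}, A ≤ (S : Subgroup C) → ∀ x ∈ normalizer ((A.map (QuotientGroup.mk' O) :
      Subgroup (C ⧸ O)) : Set (C ⧸ O)), ∃ g ∈ normalizer (A : Set C), x = QuotientGroup.mk' O g := by
    intro A hA x hx
    obtain ⟨g, rfl⟩ := QuotientGroup.mk'_surjective O x
    obtain ⟨o, ho, hog⟩ := exists_normalizer_lift hOodd (S.isPGroup'.to_le hA) hx
    refine ⟨o * g, hog, ?_⟩
    rw [map_mul, (QuotientGroup.eq_one_iff o).2 ho |> (fun h => (h : QuotientGroup.mk' O o = 1)), one_mul]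
  refine TypeSpFour.not_hasComponent_one h1169 (L := L.map (QuotientGroup.mk' O))
    (Z₁ := Z₁.map (QuotientGroup.mk' O)) hABX hcore ?_ ?_ ?_ ?_ ?_ ?_ ?_ ?_ ?_
  · rw [hinf]
    intro x hx
    obtain ⟨g, hg, rfl⟩ := lift ab.B_le x hx
    exact Subgroup.le_normalizer_map (QuotientGroup.mk' O) ⟨_, NB hg, rfl⟩
  · exact Subgroup.map_mono SL
  · rintro _ ⟨g, hg, rfl⟩
    exact Subgroup.le_normalizer_map (QuotientGroup.mk' O) ⟨_, LN hg, rfl⟩
  · rintro n hn _ ⟨g, hg, rfl⟩
    obtain ⟨m, hm, rfl⟩ := lift ab.A_le n hn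
    exact ⟨_, nL m hm g hg, by simp only [map_mul, map_inv]⟩
  · exact isQuasisimple_autImage (fun x hx => hinj x (ab.A_le hx)) LN f hf ker qs
  · rintro _ ⟨z, hz, rfl⟩ _ ⟨g, hg, rfl⟩
    rw [← map_mul, cent z hz g hg, map_mul]
  · intro W hW hinv
    set W' := A ⊓ W.comap (QuotientGroup.mk' O) with hW'
    have e : W'.map (QuotientGroup.mk' O) = W := by
      apply le_antisymm
      · rintro _ ⟨w, hw, rfl⟩
        exact (mem_inf.1 hw).2
      · intro w hw
        obtain ⟨a, ha, rfl⟩ := hW hw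
        exact ⟨a, mem_inf.2 ⟨ha, hw⟩, rfl⟩
    rcases irr W' inf_le_left (fun g hg w hw => mem_inf.2
      ⟨conj_mem_of_mem_normalizer (LN hg) (mem_inf.1 hw).1, by
        rw [mem_comap, map_mul, map_mul, map_inv]
        exact hinv _ ⟨g, hg, rfl⟩ _ (mem_inf.1 hw).2⟩) with h | h
    · left
      rw [← e]
      exact Subgroup.map_mono h
    · right
      rw [← e, h]
  · rw [hcard _ Z₁A, hcard _ le_rfl]
    exact card
  · obtain ⟨z, hz, hz1, hzc⟩ := zc
    refine ⟨_, ⟨z, hz, rfl⟩, fun h => hz1 (hinj z (ab.A_le hz) h), fun x => ?_⟩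
    obtain ⟨g, rfl⟩ := QuotientGroup.mk'_surjective O x
    rw [← map_mul, hzc g, map_mul]

end quot

section main

variable [Finite G] {S : Sylow 2 G} {WA WB : Subgroup G}
  {φA : ncl (S : Subgroup G) A →* Matrix.SpecialLinearGroup (Fin 2) F}
  {φB : ncl (S : Subgroup G) B →* Matrix.SpecialLinearGroup (Fin 2) F}

omit [Finite G] in
theorem le_centralizer {S : Subgroup G} (h : IsAB S A B) {z : G} (hz : z ∈ A ⊓ B) : S ≤ centralizer {z} := by
  intro s hs
  rw [mem_centralizer_singleton_iff]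
  exact (h.comm_Z hz hs).symm

omit [Finite G] in
theorem mem_normalizer_inf_subgroupOf {C : Subgroup G} (hA : A ⊓ B ≤ C) {x : C} :
    x ∈ normalizer (((A.subgroupOf C ⊓ B.subgroupOf C) : Subgroup C) : Set C) ↔
      (x : G) ∈ normalizer ((A ⊓ B : Subgroup G) : Set G) := by
  have e : A.subgroupOf C ⊓ B.subgroupOf C = (A ⊓ B).subgroupOf C := rfl
  rw [e, IsL3.coe_mem_normalizer_subgroupOf hA]

/-- in `C_G(z)`, `z ∈ Z ∖ WA`, the subgroup `Z` is normalised by `N(A)` -/
theorem normalizer_le_in_centralizer (T : TwoSided F (S : Subgroup G) A B WA WB φA φB) {z : G}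
    (hz : z ∈ A ⊓ B) (hzW : z ∉ WA) {x : centralizer {z}}
    (hx : x ∈ normalizer ((A.subgroupOf (centralizer {z}) : Subgroup (centralizer {z})) : Set (centralizer {z}))) :
    x ∈ normalizer (((A.subgroupOf (centralizer {z}) ⊓ B.subgroupOf (centralizer {z})) :
      Subgroup (centralizer {z})) : Set (centralizer {z})) := by
  have hS := le_centralizer T.toIsAB hz
  rw [IsL3.coe_mem_normalizer_subgroupOf (T.A_le.trans hS)] at hx
  rw [mem_normalizer_inf_subgroupOf (T.Z_le.trans hS)]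
  exact T.normalizer_A_inf_le hz hzW hx (mem_centralizer_singleton_iff.1 x.2)

/-- no components for `z ∈ Z ∖ (WA ∪ WB)` -/
theorem not_hasComponent_mixed (h1169 : H1169.{u}) (h1171 : H1171.{u})
    (T : TwoSided F (S : Subgroup G) A B WA WB φA φB) {z : G} (hz : z ∈ A ⊓ B) (hzA : z ∉ WA) (hzB : z ∉ WB) :
    ¬ Cfsg.HasComponent (centralizer ({z} : Set G) ⧸ Cfsg.oddCore (centralizer ({z} : Set G))) := by
  set C := centralizer ({z} : Set G) with hC
  have hSC : (S : Subgroup G) ≤ C := le_centralizer T.toIsAB hz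
  set O := Cfsg.oddCore C with hO
  have hOn : O.Normal := Cfsg.Agent.Lib.Cores.pPrimeCore_normal 2
  have hOodd : (Nat.card O).Coprime 2 := Cfsg.Agent.Lib.Cores.pPrimeCore_coprime 2
  let SC : Sylow 2 C := S.subtype hSC
  have hSCc : (SC : Subgroup C) = (S : Subgroup G).subgroupOf C := rfl
  let SX := SC.mapSurjective (QuotientGroup.mk'_surjective O)
  have hAB : IsAB (SC : Subgroup C) (A.subgroupOf C) (B.subgroupOf C) := T.toIsAB.subgroupOf hSC
  have hinj : ∀ x ∈ (SC : Subgroup C), QuotientGroup.mk' O x = 1 → x = 1 := by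
    intro x hx hx1
    have hxO : x ∈ O := (QuotientGroup.eq_one_iff _).1 hx1
    have h1 : orderOf x ∣ Nat.card O := by
      have := orderOf_dvd_natCard (⟨x, hxO⟩ : O)
      rwa [← Subgroup.orderOf_coe] at this
    obtain ⟨k, hk⟩ := SC.isPGroup' ⟨x, hx⟩
    have h2 : orderOf x ∣ 2 ^ k := orderOf_dvd_of_pow_eq_one (congrArg Subtype.val hk)
    have h3 : orderOf x ∣ Nat.gcd (Nat.card O) (2 ^ k) := Nat.dvd_gcd h1 h2
    rw [Nat.Coprime.pow_right k hOodd] at h3
    exact orderOf_eq_one_iff.1 (Nat.dvd_one.1 h3)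
  have hABX : IsAB (SX : Subgroup (C ⧸ O)) ((A.subgroupOf C).map (QuotientGroup.mk' O))
      ((B.subgroupOf C).map (QuotientGroup.mk' O)) := hAB.map _ hinj
  have hcore : Cfsg.oddCore (C ⧸ O) = ⊥ := Cfsg.Agent.Lib.Cores.pPrimeCore_quotient_pPrimeCore 2
  have hinf : (A.subgroupOf C).map (QuotientGroup.mk' O) ⊓ (B.subgroupOf C).map (QuotientGroup.mk' O) =
      (A.subgroupOf C ⊓ B.subgroupOf C).map (QuotientGroup.mk' O) := IsAB.map_inf_of_ker hAB.A_le hAB.B_le hinj
  have step : ∀ (A B : Subgroup C), IsAB (SC : Subgroup C) A B →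
      (∀ x ∈ normalizer (A : Set C), x ∈ normalizer ((A ⊓ B : Subgroup C) : Set C)) →
      normalizer ((A.map (QuotientGroup.mk' O) : Subgroup (C ⧸ O)) : Set (C ⧸ O)) ≤
        normalizer (((A ⊓ B).map (QuotientGroup.mk' O) : Subgroup (C ⧸ O)) : Set (C ⧸ O)) := by
    intro A B hAB hN x hx
    obtain ⟨g, rfl⟩ := QuotientGroup.mk'_surjective O x
    have hAp : IsPGroup 2 A := SC.isPGroup'.to_le hAB.A_le
    obtain ⟨o, ho, hog⟩ := exists_normalizer_lift hOodd hAp hx
    have h1 := hN _ hog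
    have e : QuotientGroup.mk' O g = QuotientGroup.mk' O (o * g) := by
      rw [map_mul, (QuotientGroup.eq_one_iff o).2 ho |> (fun h => (h : QuotientGroup.mk' O o = 1)), one_mul]
    rw [e]
    exact Subgroup.le_normalizer_map (QuotientGroup.mk' O) ⟨_, h1, rfl⟩
  apply TypeL3.not_hasComponent h1169 h1171 hABX hcore
  · rw [hinf]
    exact step _ _ hAB (fun x hx => normalizer_le_in_centralizer T hz hzA hx)
  · rw [hinf, inf_comm (A.subgroupOf C)]
    exact step _ _ hAB.symm (fun x hx => normalizer_le_in_centralizer T.symm (inf_comm A B ▸ hz) hzB hx)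

/-- no components for `z ∈ WA ∖ {1}` -/
theorem not_hasComponent_WA (h1169 : H1169.{u}) (hq : 4 ≤ Nat.card F)
    (T : TwoSided F (S : Subgroup G) A B WA WB φA φB) {z : G} (hz : z ∈ WA) (hz1 : z ≠ 1) :
    ¬ Cfsg.HasComponent (centralizer ({z} : Set G) ⧸ Cfsg.oddCore (centralizer ({z} : Set G))) := by
  have hzZ := T.sideA.W_le hz
  set C := centralizer ({z} : Set G) with hC
  have hSC : (S : Subgroup G) ≤ C := le_centralizer T.toIsAB hzZ
  have hXC : ncl (S : Subgroup G) A ≤ C := by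
    intro g hg
    rw [hC, mem_centralizer_singleton_iff]
    exact TwoSided.X_comm T.sideA hg hz
  have hAC := T.A_le.trans hSC
  have hWC : WA ≤ C := (T.sideA.W_le.trans T.Z_le).trans hSC
  let SC : Sylow 2 C := S.subtype hSC
  have hAB : IsAB (SC : Subgroup C) (A.subgroupOf C) (B.subgroupOf C) := T.toIsAB.subgroupOf hSC
  have hcard : ∀ {W : Subgroup G}, W ≤ C → Nat.card (W.subgroupOf C) = Nat.card W := fun hW =>
    Nat.card_congr (Subgroup.subgroupOfEquivOfLe hW).toEquiv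
  refine not_hasComponent_quot h1169 (L := (ncl (S : Subgroup G) A).subgroupOf C) (Z₁ := WA.subgroupOf C) hAB ?_
    (Subgroup.comap_mono T.sideA.S_le) ?_ ?_ (φA.comp (Subgroup.subgroupOfEquivOfLe hXC).toMonoidHom)
    (T.sideA.surj.comp (Subgroup.subgroupOfEquivOfLe hXC).surjective) ?_
    (Cfsg.Agent.SignalizersComponents.SLQuasisimple.isQuasisimple_two hq)
    (Subgroup.comap_mono (T.sideA.W_le.trans inf_le_left)) ?_ ?_ ?_ ?_
  · intro x hx
    have hzB : z ∉ WB := by
      intro h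
      have h1 : z ∈ WA ⊓ WB := mem_inf.2 ⟨hz, h⟩
      rw [T.disj] at h1
      exact hz1 (mem_bot.1 h1)
    rw [inf_comm]
    exact normalizer_le_in_centralizer T.symm (inf_comm A B ▸ hzZ) hzB hx
  · intro x hx
    rw [IsL3.coe_mem_normalizer_subgroupOf hAC]
    exact T.sideA.X_le hx
  · intro n hn g hg
    rw [IsL3.coe_mem_normalizer_subgroupOf hAC] at hn
    exact T.sideA.norm n hn g hg
  · ext x
    rw [MonoidHom.mem_ker, mem_subgroupOf, mem_centralizer_iff]
    have h1 : (φA.comp (Subgroup.subgroupOfEquivOfLe hXC).toMonoidHom) x = 1 ↔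
        Subgroup.subgroupOfEquivOfLe hXC x ∈ φA.ker := by
      rw [MonoidHom.mem_ker]; rfl
    rw [h1, T.sideA.ker, mem_subgroupOf, mem_centralizer_iff]
    constructor
    · intro h a ha
      apply Subtype.ext
      exact h a ha
    · intro h a ha
      exact congrArg Subtype.val (h ⟨a, hAC ha⟩ ha)
  · intro w hw g hg
    apply Subtype.ext
    exact TwoSided.X_comm T.sideA hg hw
  · intro W hW hinv
    have hle : W.map C.subtype ≤ A := by
      rintro _ ⟨w, hw, rfl⟩
      exact hW hw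
    rcases irr T hle (by
      rintro g hg _ ⟨w, hw, rfl⟩
      exact ⟨_, hinv ⟨g, hXC hg⟩ hg w hw, rfl⟩) with h | h
    · left
      intro w hw
      exact h ⟨w, hw, rfl⟩
    · right
      rw [← h, Subgroup.subgroupOf, Subgroup.comap_map_eq_self_of_injective C.subtype_injective]
  · rw [hcard hWC, hcard hAC, T.sideA.card_W, T.sideA.card_A]
    have h1 : Nat.card F * Nat.card F * 1 < Nat.card F * Nat.card F * Nat.card F :=
      Nat.mul_lt_mul_of_pos_left (by omega) (by positivity)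
    calc Nat.card F * Nat.card F < Nat.card F * Nat.card F * Nat.card F := by omega
      _ = Nat.card F ^ 3 := by ring
  · refine ⟨⟨z, mem_centralizer_singleton_iff.2 rfl⟩, (mem_inf.1 hzZ).1, fun h => hz1 (congrArg Subtype.val h),
      fun x => Subtype.ext (mem_centralizer_singleton_iff.1 x.2)⟩

/-- no components -/
theorem not_hasComponent (h1169 : H1169.{u}) (h1171 : H1171.{u}) (hq : 4 ≤ Nat.card F)
    (T : TwoSided F (S : Subgroup G) A B WA WB φA φB) {z : G} (hz : z ∈ A ⊓ B) (hz1 : z ≠ 1) :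
    ¬ Cfsg.HasComponent (centralizer ({z} : Set G) ⧸ Cfsg.oddCore (centralizer ({z} : Set G))) := by
  by_cases hzA : z ∈ WA
  · exact not_hasComponent_WA h1169 hq T hzA hz1
  by_cases hzB : z ∈ WB
  · exact not_hasComponent_WA h1169 hq T.symm hzB hz1
  exact not_hasComponent_mixed h1169 h1171 T hz hzA hzB

theorem hasComponent_congr {X Y : Type*} [Group X] [Group Y] (e : X ≃* Y) (h : Cfsg.HasComponent X) :
    Cfsg.HasComponent Y := by
  obtain ⟨K, hK, hq⟩ := h
  have h2 := Cfsg.Agent.SignalizersComponents.Components.isComponent_map_equiv e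
    (K := K) ⟨hK, hq⟩
  exact ⟨_, h2.1, h2.2⟩

theorem hasComponent_quotient_congr {C D : Type*} [Group C] [Group D] (e : C ≃* D)
    (h : Cfsg.HasComponent (C ⧸ Cfsg.oddCore C)) : Cfsg.HasComponent (D ⧸ Cfsg.oddCore D) :=
  hasComponent_congr (QuotientGroup.congr (Cfsg.oddCore C) (Cfsg.oddCore D) e
    (Lib.Cores.map_equiv_pPrimeCore e 2)) h

/-- `G` is of characteristic 2 type -/
theorem characteristicTwoType (h1169 : H1169.{u}) (h1171 : H1171.{u}) (h1296 : H1296.{u}) [IsSimpleGroup G]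
    (hq : 4 ≤ Nat.card F) (T : TwoSided F (S : Subgroup G) A B WA WB φA φB) :
    Cfsg.IsCharacteristicTwoType G := by
  have hcardA : 4 < Nat.card A := by
    rw [T.sideA.card_A]
    nlinarith [Nat.pow_le_pow_left hq 3]
  have hle : Nat.card A ≤ Nat.card G := Nat.card_le_card_of_injective _ A.subtype_injective
  obtain ⟨z, hz, hz1⟩ : ∃ z ∈ A ⊓ B, z ≠ 1 := by
    by_contra h0
    push Not at h0
    exact T.Z_ne_bot ((Subgroup.eq_bot_iff_forall _).2 h0)
  have heven : Even (Nat.card G) := by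
    have h1 := orderOf_dvd_natCard z
    rw [orderOf_eq_two_of_sq (T.A_sq z (mem_inf.1 hz).1) hz1] at h1
    exact (even_iff_two_dvd).2 h1
  have hS : (S : Subgroup G) ≠ ⊥ := by
    intro h0
    have := T.A_le (mem_inf.1 hz).1
    rw [h0, mem_bot] at this
    exact hz1 this
  have hidx : ∀ N : Subgroup G, N.Normal → N.index ≠ 2 := by
    intro N hN hind
    rcases hN.eq_bot_or_eq_top with h2 | h2
    · rw [h2, Subgroup.index_bot] at hind
      omega
    · rw [h2, Subgroup.index_top] at hind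
      omega
  rcases h1296 G heven hidx (oddCore_eq_bot_of_simple S hS) with h1 | h1 | h1
  · exfalso
    have hc : IsMulCommutative A := ⟨⟨fun x y => Subtype.ext (T.A_comm x x.2 y y.2)⟩⟩
    have := h1 A hc (fun a ha => by rw [pow_two]; exact T.A_sq a ha)
    omega
  · exfalso
    obtain ⟨t, ht, hcomp⟩ := h1
    have ht2 : t * t = 1 := by rw [← pow_two, ← ht]; exact pow_orderOf_eq_one t
    obtain ⟨k, hk⟩ := T.exists_conj_mem_Z ht2
    have ht1 : t ≠ 1 := by
      rintro rfl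
      rw [orderOf_one] at ht
      omega
    have hkt1 : k * t * k⁻¹ ≠ 1 := by
      intro h2
      apply ht1
      have := congrArg (fun x => k⁻¹ * x * k) h2
      simpa [mul_assoc] using this
    refine not_hasComponent h1169 h1171 hq T hk hkt1 ?_
    have e : centralizer ({t} : Set G) ≃* centralizer ({k * t * k⁻¹} : Set G) := by
      have h3 : (centralizer ({t} : Set G)).map (MulAut.conj k).toMonoidHom = centralizer {k * t * k⁻¹} := by
        ext x
        rw [mem_map_conj, mem_centralizer_singleton_iff, mem_centralizer_singleton_iff]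
        constructor
        · intro h4
          calc x * (k * t * k⁻¹) = k * (k⁻¹ * x * k * t) * k⁻¹ := by group
            _ = k * t * k⁻¹ * x := by rw [h4]; group
        · intro h4
          calc k⁻¹ * x * k * t = k⁻¹ * (x * (k * t * k⁻¹)) * k := by group
            _ = t * (k⁻¹ * x * k) := by rw [h4]; group
      exact ((MulAut.conj k).subgroupMap _).trans (MulEquiv.subgroupCongr h3)
    exact hasComponent_quotient_congr e hcomp
  · exact h1

end main

end Cfsg.Agent.TypeSpFour.CharTwo
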