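import Mathlib
import Cfsg.Agent.TypeSpFour.Both
import Cfsg.Agent.TypeL3.CharTwo
import Cfsg.Agent.ClassTwo.Sp4Final

/-!
# The local structure of type `Sp₄(q)`

`G` of characteristic 2 type with two-sided data: `C_G(z) ≤ N_G(A)` or `C_G(z) ≤ N_G(B)` for every `z ∈ Z`, `z ≠ 1`,
`C_G(A) = A`, `C_G(B) = B`, and the amalgam of the two minimal parabolic subgroups.
-/

set_option autoImplicit false

namespace Cfsg.Agent.TypeSpFour.Local

open Subgroup Cfsg.Agent.Lib.GoldschmidtFusion Cfsg.Agent.TypeL3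
open Cfsg.Agent.TypeSpFour.Side Cfsg.Agent.TypeSpFour.Both
open Cfsg.Agent.ClassTwo
open Cfsg.Agent.ClassTwo.Sp4Defs (u v w)
open scoped Matrix

section SL2

variable {F : Type*} [Field F] [CharP F 2]

/-- `SL(2,F)`, `F` of characteristic two, has no normal subgroup `≠ 1` of exponent two. -/
theorem normal_sq_trivial {N : Subgroup (Matrix.SpecialLinearGroup (Fin 2) F)} (hN : N.Normal)
    (hsq : ∀ x ∈ N, x * x = 1) : N = ⊥ := by
  rw [Subgroup.eq_bot_iff_forall]
  intro x hx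
  by_contra hx1
  -- a fixed vector
  obtain ⟨a, ha⟩ : ∃ a : Fin 2 → F, x.1 *ᵥ a ≠ a := by
    by_contra h
    push Not at h
    apply hx1
    apply Subtype.ext
    ext i j
    have := congrFun (h (Pi.single j 1)) i
    rw [Matrix.mulVec_single_one] at this
    simpa [Matrix.one_apply, Pi.single_apply, eq_comm] using this
  set e := x.1 *ᵥ a - a with he
  have he0 : e ≠ 0 := sub_ne_zero.2 ha
  have hxe : x.1 *ᵥ e = e := by
    have h1 : x.1 *ᵥ (x.1 *ᵥ a) = a := by
      rw [Matrix.mulVec_mulVec, ← Sp4SL2.mul_val, hsq x hx]; simp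
    rw [he, Matrix.mulVec_sub, h1]
    ext i
    have := Sp4SL2.add_self (F := F) ((x.1 *ᵥ a) i - a i)
    simp only [Pi.sub_apply]
    linear_combination -this
  obtain ⟨g, hg⟩ := Sp4SL2.exists_map_e0 e he0
  set y := g * x * g⁻¹ with hy
  have hyN : y ∈ N := hN.conj_mem x hx g
  have hy1 : y ≠ 1 := by
    intro h
    apply hx1
    rwa [hy, conj_eq_one_iff] at h
  have hye : y.1 *ᵥ ![1, 0] = ![1, 0] := by
    have h1 : (g⁻¹).1 *ᵥ ![1, 0] = e := by
      rw [← hg, Matrix.mulVec_mulVec, ← Sp4SL2.mul_val, inv_mul_cancel]; simp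
    rw [hy, Sp4SL2.mul_val, Sp4SL2.mul_val, ← Matrix.mulVec_mulVec, ← Matrix.mulVec_mulVec, h1, hxe, hg]
  have h00 : y.1 0 0 = 1 := by
    have := congrFun hye 0
    simpa [Matrix.mulVec, dotProduct, Fin.sum_univ_two] using this
  have h10 : y.1 1 0 = 0 := by
    have := congrFun hye 1
    simpa [Matrix.mulVec, dotProduct, Fin.sum_univ_two] using this
  have hyu := Sp4Side.Side.eq_u h10 h00
  set t := y.1 0 1 with ht
  have ht0 : t ≠ 0 := by
    intro h
    rw [h, Sp4SL2.u_zero] at hyu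
    exact hy1 hyu
  have hz : w F * y * (w F)⁻¹ ∈ N := hN.conj_mem y hyN _
  rw [hyu, Sp4SL2.w_conj_u] at hz
  rw [hyu] at hyN
  have hcomm : u t * v (-t) = v (-t) * u t := Sp4Side.Side.mul_comm_of_sq hsq hyN hz
  have h1 := congrArg (fun g : Matrix.SpecialLinearGroup (Fin 2) F => g.1 0 0) hcomm
  simp only [Sp4SL2.mul_val] at h1
  simp [Matrix.mul_apply, Fin.sum_univ_two, ht0] at h1

end SL2

universe u0

variable {F : Type*} [Field F] {G : Type u0} [Group G] {A B : Subgroup G}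

section

variable {S : Sylow 2 G} {WA WB : Subgroup G} {φA : ncl (S : Subgroup G) A →* Matrix.SpecialLinearGroup (Fin 2) F}
  {φB : ncl (S : Subgroup G) B →* Matrix.SpecialLinearGroup (Fin 2) F}

theorem le_centralizer {S : Subgroup G} (h : IsAB S A B) {z : G} (hz : z ∈ A ⊓ B) : S ≤ centralizer {z} := by
  intro s hs
  rw [mem_centralizer_singleton_iff]
  exact (h.comm_Z hz hs).symm

theorem normA_in (T : TwoSided F (S : Subgroup G) A B WA WB φA φB) {z : G} (hz : z ∈ A ⊓ B) (hzW : z ∉ WA) :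
    normalizer ((A.subgroupOf (centralizer {z}) : Subgroup (centralizer {z})) : Set (centralizer {z})) ≤
      normalizer (((A.subgroupOf (centralizer {z}) ⊓ B.subgroupOf (centralizer {z})) :
        Subgroup (centralizer {z})) : Set (centralizer {z})) := by
  intro x hx
  have hS := le_centralizer T.toIsAB hz
  rw [IsL3.coe_mem_normalizer_subgroupOf (T.A_le.trans hS)] at hx
  have e : A.subgroupOf (centralizer {z}) ⊓ B.subgroupOf (centralizer {z}) =
      (A ⊓ B).subgroupOf (centralizer {z}) := rfl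
  rw [e, IsL3.coe_mem_normalizer_subgroupOf (T.Z_le.trans hS)]
  exact T.normalizer_A_inf_le hz hzW hx (mem_centralizer_singleton_iff.1 x.2)

theorem normB_in (T : TwoSided F (S : Subgroup G) A B WA WB φA φB) {z : G} (hz : z ∈ A ⊓ B) (hzW : z ∉ WB) :
    normalizer ((B.subgroupOf (centralizer {z}) : Subgroup (centralizer {z})) : Set (centralizer {z})) ≤
      normalizer (((A.subgroupOf (centralizer {z}) ⊓ B.subgroupOf (centralizer {z})) :
        Subgroup (centralizer {z})) : Set (centralizer {z})) := by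
  intro x hx
  have hS := le_centralizer T.toIsAB hz
  rw [IsL3.coe_mem_normalizer_subgroupOf (T.B_le.trans hS)] at hx
  have e : A.subgroupOf (centralizer {z}) ⊓ B.subgroupOf (centralizer {z}) =
      (A ⊓ B).subgroupOf (centralizer {z}) := rfl
  rw [e, IsL3.coe_mem_normalizer_subgroupOf (T.Z_le.trans hS)]
  exact T.normalizer_B_inf_le hz hzW hx (mem_centralizer_singleton_iff.1 x.2)

variable [Finite G]

theorem cent_char (T : TwoSided F (S : Subgroup G) A B WA WB φA φB) (hchar : Cfsg.IsCharacteristicTwoType G)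
    {z : G} (hz : z ∈ A ⊓ B) (hz1 : z ≠ 1) : Cfsg.IsOfCharacteristicTwo (centralizer ({z} : Set G)) := by
  have hz2 := T.A_sq z (mem_inf.1 hz).1
  have h := hchar.2 (zpowers z) (by
    rw [IsPGroup.iff_card]
    exact ⟨1, by rw [Nat.card_zpowers, orderOf_eq_two_of_sq hz2 hz1, pow_one]⟩)
    (by rw [Ne, zpowers_eq_bot]; exact hz1)
  rw [IsL3.centralizer_eq_normalizer_zpowers hz2] at h
  exact h

/-- (i) `C(z) ≤ N(S)` for `z ∈ Z ∖ (W_A ∪ W_B)` -/
theorem centralizer_le_S (T : TwoSided F (S : Subgroup G) A B WA WB φA φB)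
    (hchar : Cfsg.IsCharacteristicTwoType G) {z : G} (hz : z ∈ A ⊓ B) (hzA : z ∉ WA) (hzB : z ∉ WB) :
    centralizer {z} ≤ normalizer ((S : Subgroup G) : Set G) := by
  have hz1 : z ≠ 1 := by
    rintro rfl
    exact hzA (one_mem _)
  have hch := cent_char T hchar hz hz1
  set C := centralizer ({z} : Set G) with hC
  have hSC : (S : Subgroup G) ≤ C := le_centralizer T.toIsAB hz
  let SC : Sylow 2 C := S.subtype hSC
  have hAB : IsAB (SC : Subgroup C) (A.subgroupOf C) (B.subgroupOf C) := T.toIsAB.subgroupOf hSC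
  have hcA : Cfsg.IsStronglyClosed (A.subgroupOf C) (SC : Subgroup C) := hAB.stronglyClosed_A (normB_in T hz hzB)
  have hcB : Cfsg.IsStronglyClosed (B.subgroupOf C) (SC : Subgroup C) := hAB.stronglyClosed_B (normA_in T hz hzA)
  have hOA := le_pCore_of_closed SC hcA hAB.A_comm hAB.A_sq hch
  have hOB := le_pCore_of_closed SC hcB hAB.B_comm hAB.B_sq hch
  have hn : (Cfsg.pCore 2 C).Normal := Cfsg.Agent.Lib.Cores.pCore_normal 2
  have hle : Cfsg.pCore 2 C ≤ (SC : Subgroup C) := Cfsg.Agent.Lib.Cores.pCore_le_sylow SC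
  intro g hg
  rw [mem_normalizer_iff_map_conj]
  apply Subgroup.eq_of_le_of_card_ge _ (by rw [card_map_conj])
  rintro _ ⟨s, hs, rfl⟩
  obtain ⟨a, ha, b, hb, e⟩ := hAB.prod ⟨s, hSC hs⟩ (by
    show (⟨s, hSC hs⟩ : C) ∈ (S : Subgroup G).subgroupOf C
    rw [mem_subgroupOf]; exact hs)
  have h1 : (⟨s, hSC hs⟩ : C) ∈ Cfsg.pCore 2 C := by
    rw [← e]
    exact mul_mem (hOA ha) (hOB hb)
  have h2 := hle (hn.conj_mem _ h1 ⟨g, hg⟩)
  have h3 : (⟨g, hg⟩ * ⟨s, hSC hs⟩ * (⟨g, hg⟩ : C)⁻¹ : C) ∈ (S : Subgroup G).subgroupOf C := h2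
  rw [mem_subgroupOf] at h3
  exact h3

/-- `O_2(C(z)) = A` for `z ∈ W_A`, `z ≠ 1` -/
theorem pCore_eq [CharP F 2] (T : TwoSided F (S : Subgroup G) A B WA WB φA φB)
    (hchar : Cfsg.IsCharacteristicTwoType G) {z : G} (hz : z ∈ WA) (hz1 : z ≠ 1) :
    Cfsg.pCore 2 (centralizer ({z} : Set G)) = A.subgroupOf (centralizer {z}) := by
  have hzZ : z ∈ A ⊓ B := T.sideA.W_le hz
  have hzB : z ∉ WB := by
    intro h
    apply hz1
    have h2 : z ∈ WA ⊓ WB := mem_inf.2 ⟨hz, h⟩
    rwa [T.disj, mem_bot] at h2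
  have hch := cent_char T hchar hzZ hz1
  set C := centralizer ({z} : Set G) with hC
  have hSC : (S : Subgroup G) ≤ C := le_centralizer T.toIsAB hzZ
  let SC : Sylow 2 C := S.subtype hSC
  have hAB : IsAB (SC : Subgroup C) (A.subgroupOf C) (B.subgroupOf C) := T.toIsAB.subgroupOf hSC
  have hcA : Cfsg.IsStronglyClosed (A.subgroupOf C) (SC : Subgroup C) := hAB.stronglyClosed_A (normB_in T hzZ hzB)
  have hOA := le_pCore_of_closed SC hcA hAB.A_comm hAB.A_sq hch
  have hn : (Cfsg.pCore 2 C).Normal := Cfsg.Agent.Lib.Cores.pCore_normal 2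
  have hle : Cfsg.pCore 2 C ≤ (SC : Subgroup C) := Cfsg.Agent.Lib.Cores.pCore_le_sylow SC
  refine le_antisymm ?_ hOA
  -- `X ≤ C`
  have hXC : ncl (S : Subgroup G) A ≤ C := by
    intro x hx
    rw [hC, mem_centralizer_singleton_iff]
    exact TwoSided.X_comm T.sideA hx hz
  -- `Q ≤ (ncl (S : Subgroup G) A)`
  have hQS : (Cfsg.pCore 2 C).map C.subtype ≤ (S : Subgroup G) := by
    rintro _ ⟨q, hq, rfl⟩
    exact hle hq
  have hQX : (Cfsg.pCore 2 C).map C.subtype ≤ (ncl (S : Subgroup G) A) := hQS.trans T.sideA.S_le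
  have hQn : (((Cfsg.pCore 2 C).map C.subtype).subgroupOf (ncl (S : Subgroup G) A)).Normal := by
    constructor
    intro q hq x
    rw [mem_subgroupOf] at hq ⊢
    obtain ⟨q', hq', e⟩ := hq
    refine ⟨⟨x, hXC x.2⟩ * q' * (⟨x, hXC x.2⟩ : C)⁻¹, hn.conj_mem _ hq' _, ?_⟩
    have e' : (q' : G) = q := e
    change (x : G) * (q' : G) * (x : G)⁻¹ = (x * q * x⁻¹ : (ncl (S : Subgroup G) A))
    rw [e']
    rfl
  have hNn : ((((Cfsg.pCore 2 C).map C.subtype).subgroupOf (ncl (S : Subgroup G) A)).map φA).Normal := hQn.map φA T.sideA.surj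
  have hbot := normal_sq_trivial hNn (by
    rintro _ ⟨q, hq, rfl⟩
    rw [← map_mul]
    rw [← MonoidHom.mem_ker, T.sideA.ker, mem_subgroupOf]
    have hqS : (q : G) ∈ (S : Subgroup G) := hQS (mem_subgroupOf.1 hq)
    -- squares of `S` lie in `Z`
    obtain ⟨a, ha, b, hb, e⟩ := T.prod _ hqS
    have h1 : ((q * q : (ncl (S : Subgroup G) A)) : G) ∈ A := by
      have h2 : b * b = 1 := T.B_sq b hb
      have h3 := mem_inf.1 (T.br a ha b hb)
      have h4 : ((q * q : (ncl (S : Subgroup G) A)) : G) = a * (b * a * b⁻¹) * (b * b) := by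
        rw [Subgroup.coe_mul, ← e]
        group
      rw [h4, h2, mul_one]
      refine mul_mem ha ?_
      have h5 : b * a * b⁻¹ = (a * b * a⁻¹ * b⁻¹)⁻¹ * a := by group
      rw [h5]
      exact mul_mem (inv_mem h3.1) ha
    rw [mem_centralizer_iff]
    intro y hy
    exact T.A_comm y hy _ h1)
  intro q hq
  rw [mem_subgroupOf]
  have hqS : (q : G) ∈ (S : Subgroup G) := hQS ⟨q, hq, rfl⟩
  have hqX : (q : G) ∈ (ncl (S : Subgroup G) A) := T.sideA.S_le hqS
  have h1 : φA ⟨q, hqX⟩ ∈ (((Cfsg.pCore 2 C).map C.subtype).subgroupOf (ncl (S : Subgroup G) A)).map φA :=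
    ⟨⟨q, hqX⟩, mem_subgroupOf.2 ⟨q, hq, rfl⟩, rfl⟩
  rw [hbot, mem_bot, ← MonoidHom.mem_ker, T.sideA.ker, mem_subgroupOf, mem_centralizer_iff] at h1
  obtain ⟨a, ha, haB⟩ := T.neA
  exact T.centA a ha haB _ hqS (h1 a ha)

/-- (ii) `C(z) ≤ N(A)` for `z ∈ W_A`, `z ≠ 1` -/
theorem centralizer_le_A [CharP F 2] (T : TwoSided F (S : Subgroup G) A B WA WB φA φB)
    (hchar : Cfsg.IsCharacteristicTwoType G) {z : G} (hz : z ∈ WA) (hz1 : z ≠ 1) :
    centralizer {z} ≤ normalizer (A : Set G) := by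
  have h1 := pCore_eq T hchar hz hz1
  have hzZ : z ∈ A ⊓ B := T.sideA.W_le hz
  have hAC : A ≤ centralizer {z} := T.A_le.trans (le_centralizer T.toIsAB hzZ)
  have hn : (Cfsg.pCore 2 (centralizer ({z} : Set G))).Normal := Cfsg.Agent.Lib.Cores.pCore_normal 2
  rw [h1] at hn
  intro g hg
  have h2 : (⟨g, hg⟩ : centralizer {z}) ∈
      normalizer ((A.subgroupOf (centralizer {z}) : Subgroup (centralizer {z})) : Set (centralizer {z})) := by
    rw [Subgroup.normalizer_eq_top_iff.2 hn]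
    exact mem_top _
  exact (IsL3.coe_mem_normalizer_subgroupOf hAC).1 h2

/-- (iii) `C_G(A) ≤ A` -/
theorem centralizer_A_le [Finite F] [CharP F 2] (T : TwoSided F (S : Subgroup G) A B WA WB φA φB)
    (hchar : Cfsg.IsCharacteristicTwoType G) : centralizer (A : Set G) ≤ A := by
  obtain ⟨z, hz, hz1⟩ : ∃ z ∈ WA, z ≠ 1 := by
    by_contra h0
    push Not at h0
    have h1 : WA = ⊥ := (Subgroup.eq_bot_iff_forall _).2 h0
    have h2 := T.sideA.card_W
    rw [h1, Subgroup.card_bot] at h2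
    have : 1 < Nat.card F := Finite.one_lt_card
    omega
  have hzZ : z ∈ A ⊓ B := T.sideA.W_le hz
  have hch := cent_char T hchar hzZ hz1
  unfold Cfsg.IsOfCharacteristicTwo at hch
  rw [pCore_eq T hchar hz hz1] at hch
  intro x hx
  have hxC : x ∈ centralizer ({z} : Set G) := by
    rw [mem_centralizer_singleton_iff]
    exact ((mem_centralizer_iff.1 hx) z (mem_inf.1 hzZ).1).symm
  have h1 : (⟨x, hxC⟩ : centralizer {z}) ∈ centralizer ((A.subgroupOf (centralizer {z}) :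
      Subgroup (centralizer {z})) : Set (centralizer {z})) := by
    rw [mem_centralizer_iff]
    intro y hy
    apply Subtype.ext
    exact (mem_centralizer_iff.1 hx) y (mem_subgroupOf.1 hy)
  exact mem_subgroupOf.1 (hch h1)

theorem ker_eq [Finite F] [CharP F 2] (T : TwoSided F (S : Subgroup G) A B WA WB φA φB)
    (hchar : Cfsg.IsCharacteristicTwoType G) : φA.ker = A.subgroupOf (ncl (S : Subgroup G) A) := by
  rw [T.sideA.ker]
  congr 1
  apply le_antisymm (centralizer_A_le T hchar)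
  intro x hx
  rw [mem_centralizer_iff]
  intro y hy
  exact T.A_comm y hy x hx

/-- the amalgam of the two minimal parabolic subgroups -/
def amalgam [Finite F] [CharP F 2] (T : TwoSided F (S : Subgroup G) A B WA WB φA φB)
    (hchar : Cfsg.IsCharacteristicTwoType G) : Sp4Defs.Amalgam F G where
  V₁ := A
  V₂ := B
  X₁ := ncl (S : Subgroup G) A
  X₂ := ncl (S : Subgroup G) B
  φ₁ := φA
  φ₂ := φB
  surj₁ := T.sideA.surj
  surj₂ := T.sideB.surj
  ker₁ := ker_eq T hchar
  ker₂ := ker_eq T.symm hchar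
  V₁_le_X₁ := T.A_le.trans T.sideA.S_le
  V₂_le_X₂ := T.B_le.trans T.sideB.S_le
  V₂_le_X₁ := T.B_le.trans T.sideA.S_le
  V₁_le_X₂ := T.A_le.trans T.sideB.S_le
  sq₁ := T.A_sq
  sq₂ := T.B_sq
  card₁ := T.sideA.card_A
  card₂ := T.sideB.card_A
  card₁₂ := T.sideA.card_Z
  cent₁ := centralizer_A_le T hchar
  cent₂ := centralizer_A_le T.symm hchar
  cardZ₁ := by rw [← T.sideA.W_eq]; exact T.sideA.card_W
  cardZ₂ := by rw [← T.sideB.W_eq]; exact T.sideB.card_W
  norm₁ := T.sideA.norm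
  norm₂ := T.sideB.norm
  odd₁ := T.sideA.odd
  odd₂ := T.sideB.odd

theorem cond_amalgam [Finite F] [CharP F 2] (T : TwoSided F (S : Subgroup G) A B WA WB φA φB)
    (hchar : Cfsg.IsCharacteristicTwoType G) : Sp4Final.Cond (amalgam T hchar) := by
  intro z hz hz1
  change centralizer {z} ≤ normalizer (A : Set G) ∨ centralizer {z} ≤ normalizer (B : Set G)
  have hz' : z ∈ A ⊓ B := hz
  by_cases hA : z ∈ WA
  · exact Or.inl (centralizer_le_A T hchar hA hz1)
  by_cases hB : z ∈ WB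
  · exact Or.inr (centralizer_le_A T.symm hchar hB hz1)
  · exact Or.inl ((centralizer_le_S T hchar hz' hA hB).trans T.toIsAB.normalizer_le_A)

/-- **The amalgam.** -/
theorem exists_amalgam [Finite F] [CharP F 2] (T : TwoSided F (S : Subgroup G) A B WA WB φA φB)
    (hchar : Cfsg.IsCharacteristicTwoType G) : ∃ 𝒜 : Sp4Defs.Amalgam F G, Sp4Final.Cond 𝒜 :=
  ⟨amalgam T hchar, cond_amalgam T hchar⟩

end

end Cfsg.Agent.TypeSpFour.Local
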