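import Mathlib
import Cfsg.Agent.TypeSpFour.Both

/-!
# Groups given by coordinates `x y c d : F → G`

`Coords x y c d`: the relations of the Sylow 2-subgroup of `Sp₄(F)`, `F` of characteristic two with at least four
elements. `Coords.halfC2`.
-/

set_option autoImplicit false

namespace Cfsg.Agent.TypeSpFour.Coords

open Subgroup Cfsg.Agent.TypeL3 Cfsg.Agent.TypeSpFour.Half
open scoped commutatorElement

universe u v w

variable {F : Type*} [Field F] {G : Type u} [Group G]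

/-- relations -/
structure Coords (x y c d : F → G) : Prop where
  two : (2 : F) = 0
  four : ∃ l : F, l ≠ 0 ∧ l ≠ 1
  x_add : ∀ a b, x (a + b) = x a * x b
  y_add : ∀ a b, y (a + b) = y a * y b
  c_add : ∀ a b, c (a + b) = c a * c b
  d_add : ∀ a b, d (a + b) = d a * d b
  xc : ∀ a b, x a * c b = c b * x a
  xd : ∀ a b, x a * d b = d b * x a
  yc : ∀ a b, y a * c b = c b * y a
  yd : ∀ a b, y a * d b = d b * y a
  cd : ∀ a b, c a * d b = d b * c a
  xy : ∀ a t, x a * y t = c (a * t) * d (a * t ^ 2) * (y t * x a)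
  inj : ∀ a t γ δ, x a * y t * (c γ * d δ) = 1 → a = 0 ∧ t = 0 ∧ γ = 0 ∧ δ = 0

theorem Coords.map {x y c d : F → G} (h : Coords x y c d) {H : Type v} [Group H] (f : G →* H)
    (hf : ∀ a t γ δ, f (x a * y t * (c γ * d δ)) = 1 → x a * y t * (c γ * d δ) = 1) :
    Coords (fun a => f (x a)) (fun a => f (y a)) (fun a => f (c a)) (fun a => f (d a)) where
  two := h.two
  four := h.four
  x_add a b := by rw [h.x_add, map_mul]
  y_add a b := by rw [h.y_add, map_mul]
  c_add a b := by rw [h.c_add, map_mul]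
  d_add a b := by rw [h.d_add, map_mul]
  xc a b := by rw [← map_mul, h.xc, map_mul]
  xd a b := by rw [← map_mul, h.xd, map_mul]
  yc a b := by rw [← map_mul, h.yc, map_mul]
  yd a b := by rw [← map_mul, h.yd, map_mul]
  cd a b := by rw [← map_mul, h.cd, map_mul]
  xy a t := by rw [← map_mul, h.xy, map_mul, map_mul, map_mul]
  inj a t γ δ e := by
    rw [← map_mul, ← map_mul, ← map_mul] at e
    exact h.inj a t γ δ (hf a t γ δ e)

namespace Coords

variable {x y c d : F → G} (h : Coords x y c d)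

include h

theorem add_self (a : F) : a + a = 0 := by rw [← two_mul, h.two, zero_mul]

theorem x_zero : x 0 = 1 := hom_zero h.x_add
theorem y_zero : y 0 = 1 := hom_zero h.y_add
theorem c_zero : c 0 = 1 := hom_zero h.c_add
theorem d_zero : d 0 = 1 := hom_zero h.d_add

theorem x_sq (a : F) : x a * x a = 1 := by rw [← h.x_add, h.add_self, h.x_zero]
theorem y_sq (a : F) : y a * y a = 1 := by rw [← h.y_add, h.add_self, h.y_zero]
theorem c_sq (a : F) : c a * c a = 1 := by rw [← h.c_add, h.add_self, h.c_zero]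
theorem d_sq (a : F) : d a * d a = 1 := by rw [← h.d_add, h.add_self, h.d_zero]

/-- multiplication of central elements -/
theorem z_mul (γ δ γ' δ' : F) : c γ * d δ * (c γ' * d δ') = c (γ + γ') * d (δ + δ') := by
  rw [h.c_add, h.d_add]
  calc c γ * d δ * (c γ' * d δ') = c γ * (d δ * c γ') * d δ' := by group
    _ = c γ * c γ' * (d δ * d δ') := by rw [← h.cd]; group

theorem z_sq (γ δ : F) : c γ * d δ * (c γ * d δ) = 1 := by
  rw [h.z_mul, h.add_self, h.add_self, h.c_zero, h.d_zero, one_mul]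

theorem z_x (γ δ a : F) : c γ * d δ * x a = x a * (c γ * d δ) := by
  calc c γ * d δ * x a = c γ * (d δ * x a) := by group
    _ = (c γ * x a) * d δ := by rw [← h.xd]; group
    _ = x a * (c γ * d δ) := by rw [← h.xc]; group

theorem z_y (γ δ a : F) : c γ * d δ * y a = y a * (c γ * d δ) := by
  calc c γ * d δ * y a = c γ * (d δ * y a) := by group
    _ = (c γ * y a) * d δ := by rw [← h.yd]; group
    _ = y a * (c γ * d δ) := by rw [← h.yc]; group

theorem yx (a t : F) : y t * x a = x a * y t * (c (a * t) * d (a * t ^ 2)) := by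
  rw [h.xy]
  calc y t * x a = (c (a * t) * d (a * t ^ 2) * (c (a * t) * d (a * t ^ 2))) * (y t * x a) := by
        rw [h.z_sq, one_mul]
    _ = c (a * t) * d (a * t ^ 2) * ((c (a * t) * d (a * t ^ 2) * y t) * x a) := by group
    _ = c (a * t) * d (a * t ^ 2) * (y t * (c (a * t) * d (a * t ^ 2) * x a)) := by rw [h.z_y]; group
    _ = _ := by rw [h.z_x]; group

/-- general multiplication -/
theorem mul (a t γ δ a' t' γ' δ' : F) : x a * y t * (c γ * d δ) * (x a' * y t' * (c γ' * d δ')) =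
    x (a + a') * y (t + t') * (c (a' * t + γ + γ') * d (a' * t ^ 2 + δ + δ')) := by
  rw [← h.z_mul (a' * t + γ) (a' * t ^ 2 + δ), ← h.z_mul (a' * t) (a' * t ^ 2), h.x_add, h.y_add]
  calc x a * y t * (c γ * d δ) * (x a' * y t' * (c γ' * d δ'))
      = x a * y t * ((c γ * d δ) * x a') * y t' * (c γ' * d δ') := by group
    _ = x a * y t * x a' * ((c γ * d δ) * y t') * (c γ' * d δ') := by rw [h.z_x]; group
    _ = x a * (y t * x a') * y t' * ((c γ * d δ) * (c γ' * d δ')) := by rw [h.z_y]; group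
    _ = x a * x a' * y t * ((c (a' * t) * d (a' * t ^ 2)) * y t') * ((c γ * d δ) * (c γ' * d δ')) := by
        rw [h.yx]; group
    _ = _ := by rw [h.z_y]; group

theorem uniq {a t γ δ a' t' γ' δ' : F} (e : x a * y t * (c γ * d δ) = x a' * y t' * (c γ' * d δ')) :
    a = a' ∧ t = t' ∧ γ = γ' ∧ δ = δ' := by
  have hinv : ∀ a t γ δ : F, (x a * y t * (c γ * d δ)) *
      (x a * y t * (c (a * t + γ) * d (a * t ^ 2 + δ))) = 1 := by
    intro a t γ δ
    rw [h.mul]
    have e1 : a * t + γ + (a * t + γ) = 0 := h.add_self _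
    have e2 : a * t ^ 2 + δ + (a * t ^ 2 + δ) = 0 := h.add_self _
    rw [e1, e2, h.add_self, h.add_self, h.x_zero, h.y_zero, h.c_zero, h.d_zero, one_mul, one_mul]
  have h1 := hinv a' t' γ' δ'
  rw [← e, h.mul] at h1
  obtain ⟨h2, h3, h4, h5⟩ := h.inj _ _ _ _ h1
  have hs : ∀ p q : F, p + q = 0 → p = q := by
    intro p q hpq
    linear_combination hpq - q * h.two
  have ha := hs _ _ h2
  have ht := hs _ _ h3
  subst ha ht
  refine ⟨rfl, rfl, ?_, ?_⟩
  · apply hs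
    linear_combination h4 - a * t * h.two
  · apply hs
    linear_combination h5 - a * t ^ 2 * h.two

omit h in
/-- the group `S` -/
def SS (h : Coords x y c d) : Subgroup G where
  carrier := {g | ∃ a t γ δ, g = x a * y t * (c γ * d δ)}
  one_mem' := ⟨0, 0, 0, 0, by rw [h.x_zero, h.y_zero, h.c_zero, h.d_zero]; simp⟩
  mul_mem' := by
    rintro _ _ ⟨a, t, γ, δ, rfl⟩ ⟨a', t', γ', δ', rfl⟩
    exact ⟨_, _, _, _, h.mul _ _ _ _ _ _ _ _⟩
  inv_mem' := by
    rintro _ ⟨a, t, γ, δ, rfl⟩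
    refine ⟨a, t, a * t + γ, a * t ^ 2 + δ, ?_⟩
    rw [inv_eq_iff_mul_eq_one, h.mul]
    have e1 : a * t + γ + (a * t + γ) = 0 := h.add_self _
    have e2 : a * t ^ 2 + δ + (a * t ^ 2 + δ) = 0 := h.add_self _
    rw [e1, e2, h.add_self, h.add_self, h.x_zero, h.y_zero, h.c_zero, h.d_zero, one_mul, one_mul]

omit h in
theorem mem_SS (h : Coords x y c d) {g : G} : g ∈ h.SS ↔ ∃ a t γ δ, g = x a * y t * (c γ * d δ) := Iff.rfl

omit h in
/-- the group `A` -/
def AA (h : Coords x y c d) : Subgroup G where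
  carrier := {g | ∃ a γ δ, g = x a * (c γ * d δ)}
  one_mem' := ⟨0, 0, 0, by rw [h.x_zero, h.c_zero, h.d_zero]; simp⟩
  mul_mem' := by
    rintro _ _ ⟨a, γ, δ, rfl⟩ ⟨a', γ', δ', rfl⟩
    refine ⟨a + a', γ + γ', δ + δ', ?_⟩
    have h1 := h.mul a 0 γ δ a' 0 γ' δ'
    simpa [h.y_zero] using h1
  inv_mem' := by
    rintro _ ⟨a, γ, δ, rfl⟩
    refine ⟨a, γ, δ, ?_⟩
    rw [inv_eq_iff_mul_eq_one]
    have h1 := h.mul a 0 γ δ a 0 γ δ
    simpa [h.y_zero, h.add_self, h.x_zero, h.c_zero, h.d_zero] using h1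

omit h in
theorem mem_AA (h : Coords x y c d) {g : G} : g ∈ h.AA ↔ ∃ a γ δ, g = x a * (c γ * d δ) := Iff.rfl

omit h in
/-- the group `B` -/
def BB (h : Coords x y c d) : Subgroup G where
  carrier := {g | ∃ a γ δ, g = y a * (c γ * d δ)}
  one_mem' := ⟨0, 0, 0, by rw [h.y_zero, h.c_zero, h.d_zero]; simp⟩
  mul_mem' := by
    rintro _ _ ⟨a, γ, δ, rfl⟩ ⟨a', γ', δ', rfl⟩
    refine ⟨a + a', γ + γ', δ + δ', ?_⟩
    have h1 := h.mul 0 a γ δ 0 a' γ' δ'
    simpa [h.x_zero] using h1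
  inv_mem' := by
    rintro _ ⟨a, γ, δ, rfl⟩
    refine ⟨a, γ, δ, ?_⟩
    rw [inv_eq_iff_mul_eq_one]
    have h1 := h.mul 0 a γ δ 0 a γ δ
    simpa [h.x_zero, h.add_self, h.y_zero, h.c_zero, h.d_zero] using h1

omit h in
theorem mem_BB (h : Coords x y c d) {g : G} : g ∈ h.BB ↔ ∃ a γ δ, g = y a * (c γ * d δ) := Iff.rfl

theorem AA_mem_iff {a t γ δ : F} : x a * y t * (c γ * d δ) ∈ h.AA ↔ t = 0 := by
  constructor
  · rintro ⟨a', γ', δ', e⟩
    have e' : x a * y t * (c γ * d δ) = x a' * y 0 * (c γ' * d δ') := by rw [e, h.y_zero, mul_one]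
    exact (h.uniq e').2.1
  · rintro rfl
    exact ⟨a, γ, δ, by rw [h.y_zero, mul_one]⟩

theorem BB_mem_iff {a t γ δ : F} : x a * y t * (c γ * d δ) ∈ h.BB ↔ a = 0 := by
  constructor
  · rintro ⟨a', γ', δ', e⟩
    have e' : x a * y t * (c γ * d δ) = x 0 * y a' * (c γ' * d δ') := by rw [e, h.x_zero, one_mul]
    exact (h.uniq e').1
  · rintro rfl
    exact ⟨t, γ, δ, by rw [h.x_zero, one_mul]⟩

theorem mem_AB {g : G} : g ∈ h.AA ⊓ h.BB ↔ ∃ γ δ, g = c γ * d δ := by
  constructor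
  · intro hg
    obtain ⟨⟨a, γ, δ, rfl⟩, h2⟩ := mem_inf.1 hg
    have h3 : x a * y 0 * (c γ * d δ) ∈ h.BB := by rwa [h.y_zero, mul_one]
    rw [h.BB_mem_iff] at h3
    subst h3
    exact ⟨γ, δ, by rw [h.x_zero, one_mul]⟩
  · rintro ⟨γ, δ, rfl⟩
    exact mem_inf.2 ⟨⟨0, γ, δ, by rw [h.x_zero, one_mul]⟩, ⟨0, γ, δ, by rw [h.y_zero, one_mul]⟩⟩

theorem z_mem (γ δ : F) : c γ * d δ ∈ h.AA ⊓ h.BB := h.mem_AB.2 ⟨γ, δ, rfl⟩

/-- commutators -/
theorem comm' (a t : F) : x a * y t * (x a)⁻¹ * (y t)⁻¹ = c (a * t) * d (a * t ^ 2) := by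
  rw [h.xy]; group

theorem isAB : IsAB h.SS h.AA h.BB where
  A_le := by
    rintro _ ⟨a, γ, δ, rfl⟩
    exact ⟨a, 0, γ, δ, by rw [h.y_zero, mul_one]⟩
  B_le := by
    rintro _ ⟨a, γ, δ, rfl⟩
    exact ⟨0, a, γ, δ, by rw [h.x_zero, one_mul]⟩
  prod := by
    rintro _ ⟨a, t, γ, δ, rfl⟩
    exact ⟨x a, ⟨a, 0, 0, by rw [h.c_zero, h.d_zero]; simp⟩, y t * (c γ * d δ), ⟨t, γ, δ, rfl⟩, by group⟩
  A_comm := by
    rintro _ ⟨a, γ, δ, rfl⟩ _ ⟨a', γ', δ', rfl⟩
    have h1 := h.mul a 0 γ δ a' 0 γ' δ'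
    have h2 := h.mul a' 0 γ' δ' a 0 γ δ
    rw [h.y_zero] at h1 h2
    simp only [mul_one] at h1 h2
    have e1 : a' * 0 + γ + γ' = a * 0 + γ' + γ := by ring
    have e2 : a' * 0 ^ 2 + δ + δ' = a * 0 ^ 2 + δ' + δ := by ring
    rw [h1, h2, e1, e2, add_comm a a']
  B_comm := by
    rintro _ ⟨a, γ, δ, rfl⟩ _ ⟨a', γ', δ', rfl⟩
    have h1 := h.mul 0 a γ δ 0 a' γ' δ'
    have h2 := h.mul 0 a' γ' δ' 0 a γ δ
    rw [h.x_zero] at h1 h2
    simp only [one_mul] at h1 h2
    have e1 : 0 * a + γ + γ' = 0 * a' + γ' + γ := by ring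
    have e2 : 0 * a ^ 2 + δ + δ' = 0 * a' ^ 2 + δ' + δ := by ring
    rw [h1, h2, e1, e2, add_comm a a']
  A_sq := by
    rintro _ ⟨a, γ, δ, rfl⟩
    have h1 := h.mul a 0 γ δ a 0 γ δ
    simpa [h.y_zero, h.add_self, h.x_zero, h.c_zero, h.d_zero] using h1
  B_sq := by
    rintro _ ⟨a, γ, δ, rfl⟩
    have h1 := h.mul 0 a γ δ 0 a γ δ
    simpa [h.x_zero, h.add_self, h.y_zero, h.c_zero, h.d_zero] using h1
  br := by
    rintro _ ⟨a, γ, δ, rfl⟩ _ ⟨t, γ', δ', rfl⟩
    have h1 : x a * (c γ * d δ) * (y t * (c γ' * d δ')) =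
        (c (a * t) * d (a * t ^ 2)) * (y t * (c γ' * d δ') * (x a * (c γ * d δ))) := by
      have h2 := h.mul a 0 γ δ 0 t γ' δ'
      have h3 := h.mul 0 t γ' δ' a 0 γ δ
      rw [h.x_zero, h.y_zero] at h2 h3
      simp only [mul_one, one_mul] at h2 h3
      rw [h2, h3]
      have h4 := h.mul 0 0 (a * t) (a * t ^ 2) (0 + a) (t + 0) (a * t + γ' + γ) (a * t ^ 2 + δ' + δ)
      rw [h.x_zero, h.y_zero] at h4
      simp only [mul_one, one_mul, mul_zero] at h4
      rw [h4]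
      congr 1
      · congr 1 <;> congr 1 <;> ring
      · congr 1
        · congr 1
          linear_combination (-(a * t)) * h.two
        · congr 1
          linear_combination (-(a * t ^ 2)) * h.two
    rw [h1]
    have h2 : c (a * t) * d (a * t ^ 2) * (y t * (c γ' * d δ') * (x a * (c γ * d δ))) * (x a * (c γ * d δ))⁻¹ *
        (y t * (c γ' * d δ'))⁻¹ = c (a * t) * d (a * t ^ 2) := by group
    rw [h2]
    exact h.z_mem _ _
  inv := by
    rintro _ ⟨a, t, γ, δ, rfl⟩ hsq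
    rw [h.mul] at hsq
    obtain ⟨-, -, h1, -⟩ := h.inj _ _ _ _ hsq
    have h2 : a * t = 0 := by linear_combination h1 - γ * h.two
    rcases mul_eq_zero.1 h2 with rfl | rfl
    · right; exact h.BB_mem_iff.2 rfl
    · left; exact h.AA_mem_iff.2 rfl
  centA := by
    rintro _ ⟨a, γ, δ, rfl⟩ haB _ ⟨a', t, γ', δ', rfl⟩ hc
    have ha : a ≠ 0 := by
      rintro rfl
      exact haB ⟨0, γ, δ, by rw [h.x_zero, h.y_zero]⟩
    have h1 := h.mul a 0 γ δ a' t γ' δ'
    have h2 := h.mul a' t γ' δ' a 0 γ δ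
    rw [h.y_zero] at h1 h2
    simp only [mul_one] at h1 h2
    rw [h1, h2] at hc
    obtain ⟨-, -, h3, -⟩ := h.uniq hc
    have h4 : a * t = 0 := by linear_combination (-1 : F) * h3
    rw [h.AA_mem_iff]
    exact (mul_eq_zero.1 h4).resolve_left ha
  centB := by
    rintro _ ⟨t, γ, δ, rfl⟩ htA _ ⟨a', t', γ', δ', rfl⟩ hc
    have ht : t ≠ 0 := by
      rintro rfl
      exact htA ⟨0, γ, δ, by rw [h.x_zero, h.y_zero]⟩
    have h1 := h.mul 0 t γ δ a' t' γ' δ'
    have h2 := h.mul a' t' γ' δ' 0 t γ δ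
    rw [h.x_zero] at h1 h2
    simp only [one_mul] at h1 h2
    rw [h1, h2] at hc
    obtain ⟨-, -, h3, -⟩ := h.uniq hc
    have h4 : a' * t = 0 := by linear_combination h3
    rw [h.BB_mem_iff]
    exact (mul_eq_zero.1 h4).resolve_right ht
  der := by
    -- commutators
    have hcom : ∀ γ δ : F, γ ≠ 0 → δ ≠ 0 → c γ * d δ ∈ ⁅h.SS, h.SS⁆ := by
      intro γ δ hγ hδ
      have h1 := h.comm' (γ ^ 2 / δ) (δ / γ)
      have e3 : γ ^ 2 / δ * (δ / γ) = γ := by field_simp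
      have e4 : γ ^ 2 / δ * (δ / γ) ^ 2 = δ := by field_simp
      rw [e3, e4] at h1
      rw [← h1]
      refine commutator_mem_commutator ?_ ?_
      · exact ⟨γ ^ 2 / δ, 0, 0, 0, by rw [h.y_zero, h.c_zero, h.d_zero]; simp⟩
      · exact ⟨0, δ / γ, 0, 0, by rw [h.x_zero, h.c_zero, h.d_zero]; simp⟩
    obtain ⟨l, hl0, hl1⟩ := h.four
    intro g hg
    obtain ⟨γ, δ, rfl⟩ := h.mem_AB.1 hg
    by_cases hγ : γ = 0
    · subst hγ
      by_cases hδ : δ = 0
      · subst hδ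
        rw [h.c_zero, h.d_zero, one_mul]
        exact one_mem _
      · have h1 := mul_mem (hcom 1 (l * δ) one_ne_zero (mul_ne_zero hl0 hδ))
          (hcom 1 ((1 + l) * δ) one_ne_zero (mul_ne_zero (fun h0 => hl1 (by
            linear_combination h0 - h.two)) hδ))
        rw [h.z_mul] at h1
        have e1 : (1 : F) + 1 = 0 := h.add_self 1
        have e2 : l * δ + (1 + l) * δ = δ := by linear_combination (l * δ) * h.two
        rwa [e1, e2] at h1
    · by_cases hδ : δ = 0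
      · subst hδ
        have h1 := mul_mem (hcom (l * γ) 1 (mul_ne_zero hl0 hγ) one_ne_zero)
          (hcom ((1 + l) * γ) 1 (mul_ne_zero (fun h0 => hl1 (by
            linear_combination h0 - h.two)) hγ) one_ne_zero)
        rw [h.z_mul] at h1
        have e1 : (1 : F) + 1 = 0 := h.add_self 1
        have e2 : l * γ + (1 + l) * γ = γ := by linear_combination (l * γ) * h.two
        rwa [e1, e2] at h1
      · exact hcom γ δ hγ hδ
  neA := by
    refine ⟨x 1 * y 0 * (c 0 * d 0), h.AA_mem_iff.2 rfl, fun h1 => ?_⟩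
    exact one_ne_zero (h.BB_mem_iff.1 h1)
  neB := by
    refine ⟨x 0 * y 1 * (c 0 * d 0), h.BB_mem_iff.2 rfl, fun h1 => ?_⟩
    exact one_ne_zero (h.AA_mem_iff.1 h1)

theorem halfC2 : HalfC2 h.SS h.AA h.BB x y c d :=
  { h.isAB with
    x_add := h.x_add
    y_add := h.y_add
    c_add := h.c_add
    d_add := h.d_add
    mem_A' := fun _ => Iff.rfl
    mem_B' := fun _ => Iff.rfl
    mem_Z' := fun _ => h.mem_AB
    inj_Z := by
      intro γ δ e
      obtain ⟨-, -, h1, h2⟩ := h.inj 0 0 γ δ (by rw [h.x_zero, h.y_zero, e]; simp)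
      exact ⟨h1, h2⟩
    comm := h.comm' }

theorem card_SS : Nat.card h.SS = Nat.card F ^ 4 := by
  have h1 : Nat.card F ^ 4 = Nat.card (F × F × F × F) := by
    rw [Nat.card_prod, Nat.card_prod, Nat.card_prod]; ring
  rw [h1]
  refine (Nat.card_congr (Equiv.ofBijective
    (fun p : F × F × F × F => (⟨x p.1 * y p.2.1 * (c p.2.2.1 * d p.2.2.2), ⟨_, _, _, _, rfl⟩⟩ : h.SS)) ⟨?_, ?_⟩)).symm
  · rintro ⟨a, t, γ, δ⟩ ⟨a', t', γ', δ'⟩ e
    obtain ⟨h1, h2, h3, h4⟩ := h.uniq (congrArg Subtype.val e)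
    exact Prod.ext h1 (Prod.ext h2 (Prod.ext h3 h4))
  · rintro ⟨_, a, t, γ, δ, rfl⟩
    exact ⟨(a, t, γ, δ), rfl⟩

/-- transport along an isomorphism `S ≃* T` -/
theorem exists_transport {H : Type v} [Group H] {T : Subgroup H} (e : h.SS ≃* T) :
    ∃ (A B : Subgroup H) (x' y' c' d' : F → H), HalfC2 T A B x' y' c' d' := by
  have hx : ∀ a, x a ∈ h.SS := fun a => ⟨a, 0, 0, 0, by rw [h.y_zero, h.c_zero, h.d_zero]; simp⟩
  have hy : ∀ a, y a ∈ h.SS := fun a => ⟨0, a, 0, 0, by rw [h.x_zero, h.c_zero, h.d_zero]; simp⟩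
  have hc : ∀ a, c a ∈ h.SS := fun a => ⟨0, 0, a, 0, by rw [h.x_zero, h.y_zero, h.d_zero]; simp⟩
  have hd : ∀ a, d a ∈ h.SS := fun a => ⟨0, 0, 0, a, by rw [h.x_zero, h.y_zero, h.c_zero]; simp⟩
  have h' : Coords (G := h.SS) (fun a => ⟨x a, hx a⟩) (fun a => ⟨y a, hy a⟩) (fun a => ⟨c a, hc a⟩)
      (fun a => ⟨d a, hd a⟩) :=
    { two := h.two
      four := h.four
      x_add := fun a b => Subtype.ext (h.x_add a b)
      y_add := fun a b => Subtype.ext (h.y_add a b)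
      c_add := fun a b => Subtype.ext (h.c_add a b)
      d_add := fun a b => Subtype.ext (h.d_add a b)
      xc := fun a b => Subtype.ext (h.xc a b)
      xd := fun a b => Subtype.ext (h.xd a b)
      yc := fun a b => Subtype.ext (h.yc a b)
      yd := fun a b => Subtype.ext (h.yd a b)
      cd := fun a b => Subtype.ext (h.cd a b)
      xy := fun a b => Subtype.ext (h.xy a b)
      inj := fun a t γ δ e => h.inj a t γ δ (congrArg Subtype.val e) }
  let f : h.SS →* H := T.subtype.comp e.toMonoidHom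
  have hf : Function.Injective f := T.subtype_injective.comp e.injective
  have h'' := h'.map f (fun a t γ δ e' => hf (e'.trans (map_one f).symm))
  have hS : h''.SS = T := by
    ext g
    rw [h''.mem_SS]
    constructor
    · rintro ⟨a, t, γ, δ, rfl⟩
      rw [← map_mul, ← map_mul, ← map_mul]
      exact (e _).2
    · intro hg
      obtain ⟨⟨_, a, t, γ, δ, rfl⟩, hs'⟩ := e.surjective ⟨g, hg⟩
      refine ⟨a, t, γ, δ, ?_⟩
      rw [← map_mul, ← map_mul, ← map_mul]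
      exact (congrArg Subtype.val hs').symm
  have h3 := h''.halfC2
  rw [hS] at h3
  exact ⟨_, _, _, _, _, _, h3⟩

end Coords

end Cfsg.Agent.TypeSpFour.Coords
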