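import Mathlib
import Cfsg.Prelude.Def_Classical
import Cfsg.Agent.LieClassical.SympCenter
import Cfsg.Agent.LieClassical.SympCount
import Cfsg.Agent.TypeSpFour.Coords

/-!
# The Sylow 2-subgroups of `PSp₄(F)`, `F` finite of characteristic two
-/

set_option autoImplicit false

namespace Cfsg.Agent.TypeSpFour.Model

open Matrix Cfsg.Agent.TypeSpFour.Coords Cfsg.Agent.TypeSpFour.Half

universe u v

variable {F : Type u} [Field F]

/-- `[[1, N], [0, 1]]`, `N = [[p, r], [r, s]]` -/
def up (p r s : F) : symplecticGroup (Fin 2) F :=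
  ⟨fromBlocks 1 !![p, r; r, s] 0 1, by
    apply Cfsg.Agent.LieClassical.SympCenter.upper_mem
    ext i j
    fin_cases i <;> fin_cases j <;> rfl⟩

/-- `[[E, 0], [0, E⁻ᵀ]]`, `E = [[1, t], [0, 1]]` -/
def lev (t : F) : symplecticGroup (Fin 2) F :=
  ⟨fromBlocks !![1, t; 0, 1] 0 0 !![1, 0; -t, 1], by
    rw [SymplecticGroup.fromBlocks_mem_iff]
    refine ⟨by simp, by simp, ?_⟩
    ext i j
    fin_cases i <;> fin_cases j <;> simp [Matrix.mul_apply, Fin.sum_univ_two]⟩

theorem up_mul (p r s p' r' s' : F) : up p r s * up p' r' s' = up (p + p') (r + r') (s + s') := by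
  apply Subtype.ext
  show fromBlocks 1 !![p, r; r, s] 0 1 * fromBlocks 1 !![p', r'; r', s'] 0 1 =
    fromBlocks 1 !![p + p', r + r'; r + r', s + s'] 0 1
  rw [fromBlocks_multiply]
  congr 1
  · simp
  · ext i j
    fin_cases i <;> fin_cases j <;> simp [add_comm]
  · simp
  · simp

theorem lev_mul (t t' : F) : lev (t + t') = lev t * lev t' := by
  apply Subtype.ext
  show fromBlocks !![1, t + t'; 0, 1] 0 0 !![1, 0; -(t + t'), 1] =
    fromBlocks !![1, t; 0, 1] 0 0 !![1, 0; -t, 1] * fromBlocks !![1, t'; 0, 1] 0 0 !![1, 0; -t', 1]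
  rw [fromBlocks_multiply]
  congr 1
  · ext i j
    fin_cases i <;> fin_cases j <;> simp [Matrix.mul_apply, Fin.sum_univ_two, add_comm]
  · simp
  · simp
  · ext i j
    fin_cases i <;> fin_cases j <;> simp [Matrix.mul_apply, Fin.sum_univ_two, add_comm]

theorem lev_up (t p r s : F) : lev t * up p r s = up (p + 2 * t * r + t ^ 2 * s) (r + t * s) s * lev t := by
  apply Subtype.ext
  show fromBlocks !![1, t; 0, 1] 0 0 !![1, 0; -t, 1] * fromBlocks 1 !![p, r; r, s] 0 1 =
    fromBlocks 1 !![p + 2 * t * r + t ^ 2 * s, r + t * s; r + t * s, s] 0 1 *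
      fromBlocks !![1, t; 0, 1] 0 0 !![1, 0; -t, 1]
  rw [fromBlocks_multiply, fromBlocks_multiply]
  congr 1
  · simp
  · ext i j
    fin_cases i <;> fin_cases j <;> simp [Matrix.mul_apply, Fin.sum_univ_two] <;> ring
  · simp
  · simp

theorem eq_one {a t γ δ : F} (h : up 0 0 a * lev t * (up 0 γ 0 * up δ 0 0) = 1) :
    a = 0 ∧ t = 0 ∧ γ = 0 ∧ δ = 0 := by
  rw [up_mul, mul_assoc, lev_up, ← mul_assoc, up_mul] at h
  have h1 : fromBlocks 1 !![0 + (0 + δ + 2 * t * (γ + 0) + t ^ 2 * (0 + 0)), 0 + (γ + 0 + t * (0 + 0));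
      0 + (γ + 0 + t * (0 + 0)), a + (0 + 0)] 0 1 * fromBlocks !![1, t; 0, 1] 0 0 !![1, 0; -t, 1] =
      (1 : Matrix (Fin 2 ⊕ Fin 2) (Fin 2 ⊕ Fin 2) F) := congrArg Subtype.val h
  rw [fromBlocks_multiply, ← fromBlocks_one] at h1
  obtain ⟨h2, h3, -, -⟩ := fromBlocks_inj.1 h1
  have ht : t = 0 := by
    have := congrFun (congrFun h2 0) 1
    simpa [Matrix.mul_apply, Fin.sum_univ_two] using this
  subst ht
  have e00 := congrFun (congrFun h3 0) 0
  have e01 := congrFun (congrFun h3 0) 1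
  have e11 := congrFun (congrFun h3 1) 1
  simp [Matrix.mul_apply, Fin.sum_univ_two] at e00 e01 e11
  exact ⟨e11, rfl, e01, e00⟩

/-- coordinates in `Sp₄(F)` -/
theorem coords (h2 : (2 : F) = 0) (h4 : ∃ l : F, l ≠ 0 ∧ l ≠ 1) :
    Coords (fun a : F => up 0 0 a) (fun t : F => lev t) (fun γ : F => up 0 γ 0) (fun δ : F => up δ 0 0) where
  two := h2
  four := h4
  x_add a b := by simp [up_mul]
  y_add := lev_mul
  c_add a b := by simp [up_mul]
  d_add a b := by simp [up_mul]
  xc a b := by simp [up_mul, add_comm]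
  xd a b := by simp [up_mul, add_comm]
  yc a b := by
    rw [lev_up]
    congr 2 <;> simp [h2]
  yd a b := by
    rw [lev_up]
    congr 2 <;> simp [h2]
  cd a b := by simp [up_mul, add_comm]
  xy a t := by
    have hs : ∀ p : F, p + p = 0 := fun p => by rw [← two_mul, h2, zero_mul]
    rw [lev_up, ← mul_assoc, up_mul, up_mul]
    have e1 : 0 + a * t ^ 2 + (0 + 2 * t * 0 + t ^ 2 * a) = 0 := by linear_combination (a * t ^ 2) * h2
    have e2 : a * t + 0 + (0 + t * a) = 0 := by linear_combination (a * t) * h2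
    have e3 : (0 : F) + 0 + a = a := by ring
    rw [e1, e2, e3]
  inj a t γ δ e := eq_one e

theorem exists_four [Fintype F] (h : 4 ≤ Fintype.card F) : ∃ l : F, l ≠ 0 ∧ l ≠ 1 := by
  classical
  have h1 : ∃ l : F, l ∉ ({0, 1} : Finset F) := by
    by_contra hcon
    push Not at hcon
    have h2 : (Finset.univ : Finset F) ⊆ {0, 1} := fun l _ => hcon l
    have h3 := Finset.card_le_card h2
    rw [Finset.card_univ] at h3
    have h4 : ({0, 1} : Finset F).card ≤ 2 := Finset.card_insert_le _ _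
    omega
  obtain ⟨l, hl⟩ := h1
  exact ⟨l, by simpa using hl⟩

/-- the projection `Sp₄(F) → PSp₄(F)` -/
abbrev proj (F : Type u) [Field F] : symplecticGroup (Fin 2) F →* Cfsg.PSp 2 F :=
  QuotientGroup.mk' (Subgroup.center (symplecticGroup (Fin 2) F))

theorem center_eq_bot [Fintype F] (hF : Even (Fintype.card F)) :
    Subgroup.center (symplecticGroup (Fin 2) F) = ⊥ := by
  rw [← Subgroup.card_eq_one, LieClassical.SympCenter.card_center (by norm_num : 1 ≤ 2)]
  have h1 := Fintype.card_pos (α := F)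
  obtain ⟨r, hr⟩ := hF
  rw [← Nat.coprime_iff_gcd_eq_one, Nat.coprime_two_left]
  exact ⟨r - 1, by omega⟩

theorem two_eq_zero_of_even [Fintype F] (hF : Even (Fintype.card F)) : (2 : F) = 0 := by
  obtain ⟨p, hp⟩ := CharP.exists F
  have hpp : p.Prime := CharP.char_prime_of_ne_zero F (CharP.char_ne_zero_of_finite F p)
  haveI : Fact p.Prime := ⟨hpp⟩
  obtain ⟨n, -, hn⟩ := FiniteField.card F p
  have h2 : 2 ∣ p := by
    have := hF.two_dvd
    rw [hn] at this
    exact Nat.prime_two.dvd_of_dvd_pow this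
  have h3 : p = 2 := ((Nat.prime_dvd_prime_iff_eq Nat.prime_two hpp).1 h2).symm
  subst h3
  exact CharP.cast_eq_zero F 2

/-- coordinates in `PSp₄(F)` -/
theorem coords_psp [Fintype F] (hF : Even (Fintype.card F)) (h4 : 4 ≤ Fintype.card F) :
    Coords (fun a : F => proj F (up 0 0 a)) (fun t : F => proj F (lev t)) (fun γ : F => proj F (up 0 γ 0))
      (fun δ : F => proj F (up δ 0 0)) := by
  refine (coords (two_eq_zero_of_even hF) (exists_four h4)).map (proj F) ?_
  intro a t γ δ e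
  have h1 := (QuotientGroup.eq_one_iff _).1 e
  rwa [center_eq_bot hF, Subgroup.mem_bot] at h1

theorem card_PSp [Fintype F] (hF : Even (Fintype.card F)) : Nat.card (Cfsg.PSp 2 F) =
    Fintype.card F ^ 4 * ((Fintype.card F ^ 2 - 1) * (Fintype.card F ^ 4 - 1)) := by
  have h := Subgroup.card_eq_card_quotient_mul_card_subgroup (Subgroup.center (symplecticGroup (Fin 2) F))
  have hc : Nat.card (Subgroup.center (symplecticGroup (Fin 2) F)) = 1 := by
    rw [center_eq_bot hF, Subgroup.card_bot]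
  rw [hc, mul_one, LieClassical.SympCount.card_symplecticGroup,
    Finset.prod_range_succ, Finset.prod_range_succ, Finset.prod_range_zero, one_mul] at h
  exact h.symm

/-- **coordinates in a group isomorphic to a Sylow 2-subgroup of `PSp₄(F)`** -/
theorem exists_halfC2 [Fintype F] (hF : Even (Fintype.card F)) (h4 : 4 ≤ Fintype.card F)
    (P : Sylow 2 (Cfsg.PSp 2 F)) {G : Type v} [Group G] (S : Subgroup G) (e : Nonempty (S ≃* P)) :
    ∃ (A B : Subgroup G) (x y c d : F → G), HalfC2 S A B x y c d := by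
  have hC := coords_psp hF h4
  have hcard := hC.card_SS
  have hq : 0 < Fintype.card F := Fintype.card_pos
  have hq2 : ∃ k, Fintype.card F = 2 ^ k := by
    obtain ⟨p, hp⟩ := CharP.exists F
    have hpp : p.Prime := CharP.char_prime_of_ne_zero F (CharP.char_ne_zero_of_finite F p)
    haveI : Fact p.Prime := ⟨hpp⟩
    obtain ⟨n, -, hn⟩ := FiniteField.card F p
    have h2 : 2 ∣ p := by
      have := hF.two_dvd
      rw [hn] at this
      exact Nat.prime_two.dvd_of_dvd_pow this
    have h3 : p = 2 := ((Nat.prime_dvd_prime_iff_eq Nat.prime_two hpp).1 h2).symm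
    exact ⟨n, by rw [hn, h3]⟩
  have hp : IsPGroup 2 hC.SS := by
    obtain ⟨k, hk⟩ := hq2
    rw [Nat.card_eq_fintype_card (α := F), hk, ← pow_mul] at hcard
    exact IsPGroup.of_card hcard
  haveI : Finite (symplecticGroup (Fin 2) F) := inferInstance
  haveI : Finite (Cfsg.PSp 2 F) := inferInstance
  have hidx : ¬ 2 ∣ hC.SS.index := by
    have h1 := hC.SS.card_mul_index
    rw [hcard, card_PSp hF, Nat.card_eq_fintype_card (α := F)] at h1
    have h2 := Nat.eq_of_mul_eq_mul_left (pow_pos hq 4) h1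
    rw [h2]
    intro h3
    obtain ⟨r, hr⟩ := hF
    have hodd : ∀ n : ℕ, 1 ≤ n → ¬ 2 ∣ Fintype.card F ^ n - 1 := by
      intro n hn h4
      have h5 : 2 ∣ Fintype.card F ^ n := dvd_pow (by rw [hr]; exact ⟨r, by ring⟩) (by omega)
      have h6 : 1 ≤ Fintype.card F ^ n := Nat.one_le_pow _ _ hq
      omega
    rcases (Nat.Prime.dvd_mul Nat.prime_two).1 h3 with h4 | h4
    · exact hodd 2 (by norm_num) h4
    · exact hodd 4 (by norm_num) h4
  let U : Sylow 2 (Cfsg.PSp 2 F) := hp.toSylow hidx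
  obtain ⟨e⟩ := e
  have e1 : hC.SS ≃* S := (MulEquiv.trans e (Sylow.equiv P U)).symm
  exact hC.exists_transport e1

end Cfsg.Agent.TypeSpFour.Model
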