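import Mathlib
import Cfsg.Agent.TypeSpFour.CharTwo
import Cfsg.Agent.TypeSpFour.Local
import Cfsg.Agent.TypeSpFour.Model
import Cfsg.Agent.ClassTwo.Sp4Main

/-!
# Simple groups with Sylow 2-subgroups of type `Sp₄(2ʳ)`, `r ≥ 2`

`nonempty_psp_of_sylow`: conditional on S1169 (`H1169`), the first half of S1171 (`H1171`), S1296 (`H1296`).
-/

set_option autoImplicit false

namespace Cfsg.Agent.TypeSpFour.Main

open Cfsg.Agent.TypeL3 Cfsg.Agent.TypeSpFour.Half Cfsg.Agent.TypeSpFour.Both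

universe u w

theorem charP_two {F : Type w} [Field F] (h : (2 : F) = 0) : CharP F 2 := by
  obtain ⟨p, hp⟩ := CharP.exists F
  have h1 : p ∣ 2 := (CharP.cast_eq_zero_iff F p 2).1 (by exact_mod_cast h)
  have h2 : p ≠ 1 := CharP.char_ne_one F p
  have h3 : p = 2 := ((Nat.dvd_prime Nat.prime_two).1 h1).resolve_left h2
  rw [← h3]
  exact hp

/-- **Type `Sp₄(q)`**, `q = 2ʳ ≥ 4`, from the coordinates of the Sylow 2-subgroup. -/
theorem nonempty_psp_of_halfC2 (h1169 : H1169.{u}) (h1171 : H1171.{u}) (h1296 : H1296.{u})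
    {G : Type u} [Group G] [Finite G] [IsSimpleGroup G] {F : Type w} [Field F] [Finite F]
    (hq : 4 ≤ Nat.card F) {S : Sylow 2 G} {A B : Subgroup G} {x y c d : F → G}
    (h : HalfC2 (S : Subgroup G) A B x y c d) : Nonempty (G ≃* Cfsg.PSp 2 F) := by
  have : CharP F 2 := charP_two h.two_eq_zero
  obtain ⟨WA, WB, φA, φB, T⟩ := exists_twoSided h1169 h
  obtain ⟨𝒜, hc⟩ := Local.exists_amalgam T (CharTwo.characteristicTwoType h1169 h1171 h1296 hq T)
  exact Cfsg.Agent.ClassTwo.Sp4Main.nonempty_psp hq 𝒜 hc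

/-- **Type `Sp₄(q)`**, `q = 2ʳ ≥ 4`. -/
theorem nonempty_psp_of_sylow (h1169 : H1169.{u}) (h1171 : H1171.{u}) (h1296 : H1296.{u})
    {G : Type u} [Group G] [Finite G] [IsSimpleGroup G] {F : Type w} [Field F] [Fintype F] {r : ℕ}
    (hr : 2 ≤ r) (hF : Fintype.card F = 2 ^ r) (S : Sylow 2 G) (P : Sylow 2 (Cfsg.PSp 2 F))
    (hS : Nonempty (↥(S : Subgroup G) ≃* ↥(P : Subgroup (Cfsg.PSp 2 F)))) :
    Nonempty (G ≃* Cfsg.PSp 2 F) := by
  have h4 : 4 ≤ Fintype.card F := by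
    rw [hF]
    calc 4 = 2 ^ 2 := by norm_num
      _ ≤ 2 ^ r := Nat.pow_le_pow_right (by norm_num) hr
  have heven : Even (Fintype.card F) := by
    rw [hF]
    exact even_iff_two_dvd.2 (dvd_pow_self 2 (by omega))
  obtain ⟨A, B, x, y, c, d, h⟩ := Model.exists_halfC2 heven h4 P (S : Subgroup G) hS
  exact nonempty_psp_of_halfC2 h1169 h1171 h1296 (by rw [Nat.card_eq_fintype_card]; exact h4) h

end Cfsg.Agent.TypeSpFour.Main
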