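import Mathlib
import Cfsg.Agent.LieClassical.SympSimple

/-!
Rigidity of the polar space of a symplectic space: a perpendicularity preserving map of the projective points
fixing every point of `x₀^⊥` and one point outside is the identity.
-/

set_option autoImplicit false
open Cfsg
open scoped Matrix

namespace Cfsg.Agent.TypeSpFour.Rigid

open Cfsg.Agent.ClassicalGeometry.SympBasic
open Cfsg.Agent.LieClassical.SympSimple

variable {F : Type*} [Field F] {m : ℕ}

theorem form_eq_zero_comm {x y : Fin m ⊕ Fin m → F} :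
    sympForm m F x y = 0 ↔ sympForm m F y x = 0 := by
  rw [sympForm_swap, neg_eq_zero]

theorem form_ne_zero_comm {x y : Fin m ⊕ Fin m → F} :
    sympForm m F x y ≠ 0 ↔ sympForm m F y x ≠ 0 :=
  form_eq_zero_comm.not

theorem ne_zero_of_form {x y : Fin m ⊕ Fin m → F} (h : sympForm m F x y ≠ 0) : x ≠ 0 := by
  rintro rfl
  exact h (sympForm_zero_left y)

theorem ne_zero_of_form' {x y : Fin m ⊕ Fin m → F} (h : sympForm m F x y ≠ 0) : y ≠ 0 :=
  ne_zero_of_form (form_ne_zero_comm.1 h)

/-- `{w : w ⊥ x, w ⊥ y}^⊥ = ⟨x, y⟩` for a hyperbolic pair. -/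
theorem exists_eq_add {x y z : Fin m ⊕ Fin m → F} (hyx : sympForm m F y x ≠ 0)
    (h : ∀ w, sympForm m F w x = 0 → sympForm m F w y = 0 → sympForm m F z w = 0) :
    ∃ a b : F, z = a • y + b • x := by
  set d := sympForm m F y x with hd
  have hxy : sympForm m F x y = -d := by rw [sympForm_swap]
  -- projection of a vector to the orthogonal complement
  have proj : ∀ v, ∃ a b : F, ∃ w, v = a • y + b • x + w ∧ sympForm m F w x = 0 ∧
      sympForm m F w y = 0 := by
    intro v
    refine ⟨sympForm m F v x * d⁻¹, -(sympForm m F v y * d⁻¹),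
      v - ((sympForm m F v x * d⁻¹) • y + (-(sympForm m F v y * d⁻¹)) • x), by abel, ?_, ?_⟩
    · rw [sympForm_sub_left, sympForm_add_left, sympForm_smul_left, sympForm_smul_left,
        sympForm_self, ← hd]
      field_simp
      ring
    · rw [sympForm_sub_left, sympForm_add_left, sympForm_smul_left, sympForm_smul_left,
        sympForm_self, hxy]
      field_simp
      ring
  obtain ⟨a, b, z', hz, hz1, hz2⟩ := proj z
  refine ⟨a, b, ?_⟩
  have hz0 : z' = 0 := by
    apply eq_zero_of_forall_sympForm_right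
    intro v
    obtain ⟨a', b', w, hw, hw1, hw2⟩ := proj v
    rw [hw, sympForm_add_right, sympForm_add_right, sympForm_smul_right, sympForm_smul_right,
      hz1, hz2]
    have h1 := h w hw1 hw2
    rw [hz, sympForm_add_left, sympForm_add_left, sympForm_smul_left, sympForm_smul_left,
      form_eq_zero_comm.1 hw1, form_eq_zero_comm.1 hw2] at h1
    simpa using h1
  rw [hz, hz0, add_zero]

/-- If `x` is not in the span of `y, y'` then some `w` is perpendicular to `y, y'` and not to `x`. -/
theorem exists_perp_two {x y y' : Fin m ⊕ Fin m → F}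
    (h : ∀ a b : F, x ≠ a • y + b • y') :
    ∃ w, sympForm m F w y = 0 ∧ sympForm m F w y' = 0 ∧ sympForm m F w x ≠ 0 := by
  by_contra hcon
  push Not at hcon
  have key : sympBilin m F x ∈ Submodule.span F
      (Set.range ![sympBilin m F y, sympBilin m F y']) := by
    apply mem_span_of_iInf_ker_le_ker
    intro w hw
    rw [Submodule.mem_iInf] at hw
    have h0 : sympForm m F y w = 0 := by simpa using hw 0
    have h1 : sympForm m F y' w = 0 := by simpa using hw 1
    rw [LinearMap.mem_ker, sympBilin_apply]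
    exact form_eq_zero_comm.1 (hcon w (form_eq_zero_comm.1 h0) (form_eq_zero_comm.1 h1))
  rw [Matrix.range_cons, Matrix.range_cons, Matrix.range_empty, Set.union_empty,
    Set.singleton_union, Submodule.mem_span_pair] at key
  obtain ⟨a, b, hab⟩ := key
  apply h a b
  apply eq_of_forall_sympForm_right
  intro w
  have := congrArg (fun f => f w) hab
  simp only [LinearMap.add_apply, LinearMap.smul_apply, sympBilin_apply, smul_eq_mul] at this
  rw [sympForm_add_left, sympForm_smul_left, sympForm_smul_left, this]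

/-- For `2 ≤ m` there is a vector perpendicular to `x` outside `⟨x, y⟩`. -/
theorem exists_perp_not_span (hm : 2 ≤ m) {x y : Fin m ⊕ Fin m → F}
    (hyx : sympForm m F y x ≠ 0) :
    ∃ v, sympForm m F v x = 0 ∧ ∀ a b : F, v ≠ a • x + b • y := by
  by_contra hcon
  push Not at hcon
  -- then the whole space is spanned by `x, y`
  have hall : ∀ v : Fin m ⊕ Fin m → F, v ∈ Submodule.span F {x, y} := by
    intro v
    rw [Submodule.mem_span_pair]
    have hd : sympForm m F y x ≠ 0 := hyx
    obtain ⟨a, b, hab⟩ := hcon (v - (sympForm m F v x * (sympForm m F y x)⁻¹) • y) (by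
      rw [sympForm_sub_left, sympForm_smul_left]
      field_simp
      ring)
    refine ⟨a, b + sympForm m F v x * (sympForm m F y x)⁻¹, ?_⟩
    rw [add_smul, ← add_assoc, ← hab, sub_add_cancel]
  have htop : Submodule.span F ({x, y} : Set (Fin m ⊕ Fin m → F)) = ⊤ :=
    eq_top_iff.2 fun v _ => hall v
  have hfr : Module.finrank F (Fin m ⊕ Fin m → F) ≤ 2 := by
    classical
    have h1 := finrank_span_le_card (R := F) ({x, y} : Set (Fin m ⊕ Fin m → F))
    rw [htop, finrank_top] at h1
    refine h1.trans ?_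
    rw [Set.toFinset_card, ← Nat.card_eq_fintype_card]
    exact (Set.ncard_insert_le x {y}).trans (by rw [Set.ncard_singleton])
  rw [Module.finrank_pi, Fintype.card_sum, Fintype.card_fin] at hfr
  omega

/-- The rigidity theorem. -/
theorem rigid (hm : 2 ≤ m) {x₀ y₀ : Fin m ⊕ Fin m → F} (hy₀ : sympForm m F y₀ x₀ ≠ 0)
    (T : (Fin m ⊕ Fin m → F) → (Fin m ⊕ Fin m → F))
    (hT : ∀ x y, x ≠ 0 → y ≠ 0 → (sympForm m F x y = 0 ↔ sympForm m F (T x) (T y) = 0))
    (hw : ∀ w, w ≠ 0 → sympForm m F w x₀ = 0 → ∃ c : F, c ≠ 0 ∧ T w = c • w)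
    (hy : ∃ c : F, c ≠ 0 ∧ T y₀ = c • y₀) :
    ∀ x, x ≠ 0 → ∃ c : F, c ≠ 0 ∧ T x = c • x := by
  have hx₀ : x₀ ≠ 0 := ne_zero_of_form' hy₀
  obtain ⟨c₀, hc₀, hTx₀⟩ := hw x₀ hx₀ (sympForm_self x₀)
  -- images of the far points
  have hfar : ∀ y, sympForm m F y x₀ ≠ 0 → ∃ a b : F, a ≠ 0 ∧ T y = a • y + b • x₀ := by
    intro y hyx
    have hy0 : y ≠ 0 := ne_zero_of_form hyx
    obtain ⟨a, b, hab⟩ := exists_eq_add (z := T y) hyx (fun w hw1 hw2 => by
      by_cases hw0 : w = 0
      · rw [hw0, sympForm_zero_right]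
      · obtain ⟨c, hc, hTw⟩ := hw w hw0 hw1
        have h1 := (hT y w hy0 hw0).1 (form_eq_zero_comm.1 hw2)
        rw [hTw, sympForm_smul_right] at h1
        exact (mul_eq_zero.1 h1).resolve_left hc)
    refine ⟨a, b, ?_, hab⟩
    rintro rfl
    apply hyx
    rw [hT y x₀ hy0 hx₀, hTx₀, hab, zero_smul, zero_add, sympForm_smul_left,
      sympForm_smul_right, sympForm_self, mul_zero, mul_zero]
  -- propagation along perpendicular far points
  have step : ∀ y y', sympForm m F y x₀ ≠ 0 → sympForm m F y' x₀ ≠ 0 → sympForm m F y y' = 0 →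
      (∃ c : F, c ≠ 0 ∧ T y = c • y) → ∃ c : F, c ≠ 0 ∧ T y' = c • y' := by
    rintro y y' hyx hyx' hyy ⟨c, hc, hTy⟩
    obtain ⟨a, b, ha, hTy'⟩ := hfar y' hyx'
    have h1 := (hT y y' (ne_zero_of_form hyx) (ne_zero_of_form hyx')).1 hyy
    rw [hTy, hTy', sympForm_smul_left, sympForm_add_right, sympForm_smul_right,
      sympForm_smul_right, hyy, mul_zero, zero_add] at h1
    have hb : b = 0 := by
      rcases mul_eq_zero.1 h1 with h | h
      · exact absurd h hc
      · exact (mul_eq_zero.1 h).resolve_right hyx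
    exact ⟨a, ha, by rw [hTy', hb, zero_smul, add_zero]⟩
  have step2 : ∀ y y', sympForm m F y x₀ ≠ 0 → sympForm m F y' x₀ ≠ 0 →
      (∀ a b : F, x₀ ≠ a • y + b • y') →
      (∃ c : F, c ≠ 0 ∧ T y = c • y) → ∃ c : F, c ≠ 0 ∧ T y' = c • y' := by
    intro y y' hyx hyx' hsp hTy
    obtain ⟨w, hw1, hw2, hw3⟩ := exists_perp_two hsp
    exact step w y' hw3 hyx' hw2 (step y w hyx hw3 (form_eq_zero_comm.1 hw1) hTy)
  have hgood : ∀ y, sympForm m F y x₀ ≠ 0 → ∃ c : F, c ≠ 0 ∧ T y = c • y := by
    intro y hyx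
    by_cases hsp : ∀ a b : F, x₀ ≠ a • y₀ + b • y
    · exact step2 y₀ y hy₀ hyx hsp hy
    · push Not at hsp
      obtain ⟨a, b, hab⟩ := hsp
      obtain ⟨v, hv1, hv2⟩ := exists_perp_not_span hm hy₀
      have hb : b ≠ 0 := by
        rintro rfl
        rw [zero_smul, add_zero] at hab
        have ha : a ≠ 0 := by
          rintro rfl
          rw [zero_smul] at hab
          exact hx₀ hab
        have h1 := sympForm_self (m := m) x₀
        apply hy₀
        have h2 : sympForm m F (a • y₀) x₀ = 0 := by rw [← hab]; exact sympForm_self _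
        rw [sympForm_smul_left] at h2
        exact (mul_eq_zero.1 h2).resolve_left ha
      -- `y` is in the span of `x₀, y₀`
      have hy' : y = b⁻¹ • x₀ + (-(b⁻¹ * a)) • y₀ := by
        have : b • y = x₀ - a • y₀ := by rw [hab]; abel
        calc y = b⁻¹ • (b • y) := by rw [smul_smul, inv_mul_cancel₀ hb, one_smul]
          _ = b⁻¹ • x₀ + (-(b⁻¹ * a)) • y₀ := by
            rw [this, smul_sub, smul_smul, neg_smul, sub_eq_add_neg]
      have hyvx : sympForm m F (y₀ + v) x₀ ≠ 0 := by
        rw [sympForm_add_left, hv1, add_zero]; exact hy₀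
      have hyy0 : sympForm m F y₀ x₀ ≠ 0 := hy₀
      have s1 : ∀ c d : F, x₀ ≠ c • y₀ + d • (y₀ + v) := by
        intro c d hcd
        by_cases hd : d = 0
        · subst hd
          rw [zero_smul, add_zero] at hcd
          have hc : c ≠ 0 := by
            rintro rfl
            rw [zero_smul] at hcd
            exact hx₀ hcd
          have h2 : sympForm m F (c • y₀) x₀ = 0 := by rw [← hcd]; exact sympForm_self _
          rw [sympForm_smul_left] at h2
          exact hy₀ ((mul_eq_zero.1 h2).resolve_left hc)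
        · apply hv2 d⁻¹ (-(d⁻¹ * (c + d)))
          have : d • v = x₀ - (c + d) • y₀ := by
            rw [hcd, smul_add, add_smul]; abel
          calc v = d⁻¹ • (d • v) := by rw [smul_smul, inv_mul_cancel₀ hd, one_smul]
            _ = d⁻¹ • x₀ + (-(d⁻¹ * (c + d))) • y₀ := by
              rw [this, smul_sub, smul_smul, neg_smul, sub_eq_add_neg]
      have s2 : ∀ c d : F, x₀ ≠ c • (y₀ + v) + d • y := by
        intro c d hcd
        by_cases hc : c = 0
        · subst hc
          rw [zero_smul, zero_add] at hcd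
          have hd : d ≠ 0 := by
            rintro rfl
            rw [zero_smul] at hcd
            exact hx₀ hcd
          have h2 : sympForm m F (d • y) x₀ = 0 := by rw [← hcd]; exact sympForm_self _
          rw [sympForm_smul_left] at h2
          exact hyx ((mul_eq_zero.1 h2).resolve_left hd)
        · apply hv2 (c⁻¹ * (1 - d * b⁻¹)) (c⁻¹ * (d * b⁻¹ * a - c))
          have : c • v = (1 - d * b⁻¹) • x₀ + (d * b⁻¹ * a - c) • y₀ := by
            have h3 : c • v = x₀ - c • y₀ - d • y := by
              conv_rhs => rw [hcd]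
              rw [smul_add]; abel
            rw [h3, hy', smul_add, smul_smul, smul_smul, sub_smul, sub_smul, one_smul, mul_neg,
              neg_smul, mul_assoc]
            abel
          calc v = c⁻¹ • (c • v) := by rw [smul_smul, inv_mul_cancel₀ hc, one_smul]
            _ = _ := by rw [this, smul_add, smul_smul, smul_smul]
      exact step2 (y₀ + v) y hyvx hyx s2 (step2 y₀ (y₀ + v) hy₀ hyvx s1 hy)
  intro x hx
  by_cases h : sympForm m F x x₀ = 0
  · exact hw x hx h
  · exact hgood x h

end Cfsg.Agent.TypeSpFour.Rigid
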