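import Mathlib
import Cfsg.Prelude.Def_Classical
import Cfsg.Agent.S0765
import Cfsg.Agent.TypeSpFour.Rigid

/-!
Recognition of `PSp_{2m}(F)` from its action on the points of the symplectic polar space:
a group `G` acting faithfully and transitively on the points, preserving perpendicularity, generated by
subgroups `Z p` fixing all points perpendicular to `p`, one of which contains a "full" set of elements, is
isomorphic to `PSp m F`.
-/

set_option autoImplicit false
open Cfsg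
open scoped Matrix

namespace Cfsg.Agent.TypeSpFour.Polar

open Cfsg.Agent.ClassicalGeometry.SympBasic
open Cfsg.Agent.LieClassical.SympSimple
open Cfsg.Agent.TypeSpFour.Rigid

/-- An action of `G` on the points of the polar space of the symplectic space `F^{2m}`. -/
structure PolarAct (F : Type*) [Field F] (m : ℕ) (G P : Type*) [Group G] [MulAction G P] where
  Psi : (Fin m ⊕ Fin m → F) → P
  R : P → P → Prop
  Z : P → Set G
  psi_smul : ∀ x, x ≠ 0 → ∀ c : F, c ≠ 0 → Psi (c • x) = Psi x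
  psi_inj : ∀ x y, x ≠ 0 → y ≠ 0 → Psi x = Psi y → ∃ c : F, c ≠ 0 ∧ y = c • x
  psi_surj : ∀ p, ∃ x, x ≠ 0 ∧ Psi x = p
  R_smul : ∀ (g : G) (p r : P), R p r → R (g • p) (g • r)
  R_iff : ∀ x y, x ≠ 0 → y ≠ 0 → (R (Psi x) (Psi y) ↔ sympForm m F x y = 0)
  Z_conj : ∀ (g : G) (p : P) (z : G), z ∈ Z p → g * z * g⁻¹ ∈ Z (g • p)
  Z_fix : ∀ (p r : P) (z : G), z ∈ Z p → R p r → z • r = r
  x₀ : Fin m ⊕ Fin m → F
  y₀ : Fin m ⊕ Fin m → F
  form_y₀ : sympForm m F y₀ x₀ = 1
  exists_Z : ∀ c : F, ∃ z, z ∈ Z (Psi x₀) ∧ z • Psi y₀ = Psi (y₀ + c • x₀)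
  trans : ∀ p r : P, ∃ g : G, g • p = r
  faithful : ∀ g : G, (∀ p : P, g • p = p) → g = 1
  gen : Subgroup.closure {z : G | ∃ p, z ∈ Z p} = ⊤

variable {F : Type*} [Field F] {m : ℕ} {G P : Type*} [Group G] [MulAction G P]

namespace PolarAct

variable (D : PolarAct F m G P)

/-- `g` acts on the points as the symplectic matrix `M`. -/
def Lin (g : G) (M : Matrix.symplecticGroup (Fin m) F) : Prop :=
  ∀ x, x ≠ 0 → g • D.Psi x = D.Psi ((M : Matrix (Fin m ⊕ Fin m) (Fin m ⊕ Fin m) F) *ᵥ x)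

theorem mulVec_ne_zero (M : Matrix.symplecticGroup (Fin m) F) {x : Fin m ⊕ Fin m → F}
    (hx : x ≠ 0) : (M : Matrix (Fin m ⊕ Fin m) (Fin m ⊕ Fin m) F) *ᵥ x ≠ 0 := by
  intro h
  apply hx
  apply eq_zero_of_forall_sympForm_right
  intro w
  rw [← sympForm_mulVec M.2, h, sympForm_zero_left]

theorem lin_one : D.Lin 1 1 := by
  intro x _
  rw [one_smul, OneMemClass.coe_one, Matrix.one_mulVec]

theorem Lin.mul {g h : G} {M N : Matrix.symplecticGroup (Fin m) F} (hg : D.Lin g M)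
    (hh : D.Lin h N) : D.Lin (g * h) (M * N) := by
  intro x hx
  rw [mul_smul, hh x hx, hg _ (mulVec_ne_zero N hx), coe_mul_mulVec]

theorem Lin.inv {g : G} {M : Matrix.symplecticGroup (Fin m) F} (hg : D.Lin g M) :
    D.Lin g⁻¹ M⁻¹ := by
  intro x hx
  have h1 := hg _ (mulVec_ne_zero M⁻¹ hx)
  rw [← coe_mul_mulVec, mul_inv_cancel, OneMemClass.coe_one, Matrix.one_mulVec] at h1
  rw [← h1, inv_smul_smul]

theorem Lin.unique {g h : G} {M : Matrix.symplecticGroup (Fin m) F} (hg : D.Lin g M)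
    (hh : D.Lin h M) : g = h := by
  rw [← inv_mul_eq_one]
  apply D.faithful
  intro p
  obtain ⟨x, hx, rfl⟩ := D.psi_surj p
  rw [mul_smul, hh x hx, ← hg x hx, inv_smul_smul]

/-- Elements of `Z p` act as transvections. -/
theorem exists_lin_transv (hm : 2 ≤ m) {x : Fin m ⊕ Fin m → F} (hx : x ≠ 0) {z : G}
    (hz : z ∈ D.Z (D.Psi x)) : ∃ c : F, D.Lin z (transv x c) := by
  classical
  obtain ⟨y, -, hyx⟩ := exists_both_ne_zero hx hx
  rw [form_ne_zero_comm] at hyx
  have hy0 : y ≠ 0 := ne_zero_of_form hyx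
  -- a lift of the action to vectors
  have hex : ∀ v : Fin m ⊕ Fin m → F, ∃ u, u ≠ 0 ∧ D.Psi u = z • D.Psi v := fun v =>
    D.psi_surj (z • D.Psi v)
  choose T hT0 hTz using hex
  have hRz : ∀ p r : P, D.R p r ↔ D.R (z • p) (z • r) := by
    intro p r
    refine ⟨D.R_smul z p r, fun h => ?_⟩
    have h2 := D.R_smul z⁻¹ _ _ h
    rwa [inv_smul_smul, inv_smul_smul] at h2
  have hTform : ∀ u v, u ≠ 0 → v ≠ 0 →
      (sympForm m F u v = 0 ↔ sympForm m F (T u) (T v) = 0) := by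
    intro u v hu hv
    rw [← D.R_iff u v hu hv, ← D.R_iff _ _ (hT0 u) (hT0 v), hTz, hTz]
    exact hRz _ _
  have hfix : ∀ w, w ≠ 0 → sympForm m F w x = 0 → z • D.Psi w = D.Psi w := by
    intro w hw hwx
    exact D.Z_fix _ _ z hz ((D.R_iff x w hx hw).2 (form_eq_zero_comm.1 hwx))
  have hTw : ∀ w, w ≠ 0 → sympForm m F w x = 0 → ∃ c : F, c ≠ 0 ∧ T w = c • w := by
    intro w hw hwx
    refine D.psi_inj w (T w) hw (hT0 w) ?_
    rw [hTz, hfix w hw hwx]
  -- the image of `y`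
  obtain ⟨a, b, hab⟩ := exists_eq_add (z := T y) hyx (fun w hw1 hw2 => by
    by_cases hw0 : w = 0
    · rw [hw0, sympForm_zero_right]
    · obtain ⟨c, hc, hTw'⟩ := hTw w hw0 hw1
      have h1 := (hTform y w hy0 hw0).1 (form_eq_zero_comm.1 hw2)
      rw [hTw', sympForm_smul_right] at h1
      exact (mul_eq_zero.1 h1).resolve_left hc)
  obtain ⟨cx, hcx, hTx⟩ := hTw x hx (sympForm_self x)
  have ha : a ≠ 0 := by
    rintro rfl
    apply hyx
    rw [hTform y x hy0 hx, hTx, hab, zero_smul, zero_add, sympForm_smul_left,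
      sympForm_smul_right, sympForm_self, mul_zero, mul_zero]
  -- the transvection
  set c : F := a⁻¹ * b * (sympForm m F y x)⁻¹ with hc
  refine ⟨c, ?_⟩
  set M : Matrix.symplecticGroup (Fin m) F := transv x c with hM
  have hMy : (M : Matrix (Fin m ⊕ Fin m) (Fin m ⊕ Fin m) F) *ᵥ y = a⁻¹ • T y := by
    rw [hM, coe_transv, sympTransvection_mulVec, hab, hc, smul_add, smul_smul, smul_smul,
      inv_mul_cancel₀ ha, one_smul, inv_mul_cancel_right₀ hyx]
  have hMw : ∀ w, sympForm m F w x = 0 →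
      (M : Matrix (Fin m ⊕ Fin m) (Fin m ⊕ Fin m) F) *ᵥ w = w := by
    intro w hw
    rw [hM, coe_transv, sympTransvection_mulVec, hw, mul_zero, zero_smul, add_zero]
  -- apply rigidity to `M⁻¹ T`
  have hMinv : ∀ u v : Fin m ⊕ Fin m → F,
      (M : Matrix (Fin m ⊕ Fin m) (Fin m ⊕ Fin m) F) *ᵥ u = v →
      ((M⁻¹ : Matrix.symplecticGroup (Fin m) F) :
        Matrix (Fin m ⊕ Fin m) (Fin m ⊕ Fin m) F) *ᵥ v = u := by
    rintro u v rfl
    rw [← coe_mul_mulVec, inv_mul_cancel, OneMemClass.coe_one, Matrix.one_mulVec]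
  have hrig := rigid hm hyx
    (fun v => ((M⁻¹ : Matrix.symplecticGroup (Fin m) F) :
      Matrix (Fin m ⊕ Fin m) (Fin m ⊕ Fin m) F) *ᵥ (T v))
    (fun u v hu hv => by
      rw [sympForm_mulVec (M⁻¹).2]
      exact hTform u v hu hv)
    (fun w hw hwx => by
      obtain ⟨d, hd, hd'⟩ := hTw w hw hwx
      refine ⟨d, hd, ?_⟩
      rw [hd', Matrix.mulVec_smul, hMinv w w (hMw w hwx)])
    ⟨a, ha, by
      have h1 := hMinv y _ hMy
      rw [Matrix.mulVec_smul] at h1
      change _ = a • y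
      conv_rhs => rw [← h1]
      rw [smul_smul, mul_inv_cancel₀ ha, one_smul]⟩
  intro v hv
  obtain ⟨d, hd, hd'⟩ := hrig v hv
  have h2 : T v = d • ((M : Matrix (Fin m ⊕ Fin m) (Fin m ⊕ Fin m) F) *ᵥ v) := by
    rw [← Matrix.mulVec_smul, ← hd', ← coe_mul_mulVec, mul_inv_cancel, OneMemClass.coe_one,
      Matrix.one_mulVec]
  rw [← hTz v, h2, D.psi_smul _ (mulVec_ne_zero M hv) d hd]

/-- Every element of `G` acts linearly. -/
theorem exists_lin (hm : 2 ≤ m) (g : G) : ∃ M, D.Lin g M := by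
  have hg : g ∈ Subgroup.closure {z : G | ∃ p, z ∈ D.Z p} := by rw [D.gen]; trivial
  induction hg using Subgroup.closure_induction with
  | mem z hz =>
    obtain ⟨p, hp⟩ := hz
    obtain ⟨x, hx, rfl⟩ := D.psi_surj p
    obtain ⟨c, hc⟩ := D.exists_lin_transv hm hx hp
    exact ⟨_, hc⟩
  | one => exact ⟨1, D.lin_one⟩
  | mul a b _ _ ha hb =>
    obtain ⟨M, hM⟩ := ha
    obtain ⟨N, hN⟩ := hb
    exact ⟨M * N, hM.mul D hN⟩
  | inv a _ ha =>
    obtain ⟨M, hM⟩ := ha
    exact ⟨M⁻¹, hM.inv D⟩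

theorem x₀_ne : D.x₀ ≠ 0 := by
  refine ne_zero_of_form' (x := D.y₀) ?_
  rw [D.form_y₀]; exact one_ne_zero

theorem y₀_ne : D.y₀ ≠ 0 := by
  refine ne_zero_of_form (y := D.x₀) ?_
  rw [D.form_y₀]; exact one_ne_zero

/-- All transvections with centre `x₀` are realised. -/
theorem exists_transv₀ (hm : 2 ≤ m) (c : F) : ∃ z : G, D.Lin z (transv D.x₀ c) := by
  obtain ⟨z, hz, hzy⟩ := D.exists_Z c
  obtain ⟨d, hd⟩ := D.exists_lin_transv hm D.x₀_ne hz
  refine ⟨z, ?_⟩
  have h1 := hd D.y₀ D.y₀_ne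
  rw [hzy, coe_transv, sympTransvection_mulVec, D.form_y₀, mul_one] at h1
  have hne : ∀ e : F, D.y₀ + e • D.x₀ ≠ 0 := by
    intro e h0
    have h2 : sympForm m F (D.y₀ + e • D.x₀) D.x₀ = 1 := by
      rw [sympForm_add_left, sympForm_smul_left, sympForm_self, mul_zero, add_zero, D.form_y₀]
    rw [h0, sympForm_zero_left] at h2
    exact zero_ne_one h2
  obtain ⟨e, -, he⟩ := D.psi_inj _ _ (hne c) (hne d) h1
  have he1 : e = 1 := by
    have h2 := congrArg (fun v => sympForm m F v D.x₀) he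
    simp only [sympForm_add_left, sympForm_smul_left, sympForm_self, mul_zero, add_zero,
      D.form_y₀, mul_one] at h2
    exact h2.symm
  rw [he1, one_smul] at he
  have hcd : d = c := by
    have h2 := congrArg (fun v => sympForm m F v D.y₀) he
    simp only [sympForm_add_left, sympForm_smul_left, sympForm_self, zero_add] at h2
    have h3 : sympForm m F D.x₀ D.y₀ = -1 := by rw [sympForm_swap, D.form_y₀]
    rw [h3] at h2
    simpa using h2
  rwa [hcd] at hd

/-- All transvections are realised. -/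
theorem exists_transv (hm : 2 ≤ m) (x : Fin m ⊕ Fin m → F) (c : F) :
    ∃ z : G, D.Lin z (transv x c) := by
  by_cases hx : x = 0
  · refine ⟨1, ?_⟩
    have : (transv x c : Matrix.symplecticGroup (Fin m) F) = 1 := by
      apply Subtype.ext
      rw [coe_transv, OneMemClass.coe_one, ← Matrix.mulVec_injective.eq_iff]
      funext v
      rw [sympTransvection_mulVec, hx, smul_zero, add_zero, Matrix.one_mulVec]
    rw [this]
    exact D.lin_one
  obtain ⟨g, hg⟩ := D.trans (D.Psi D.x₀) (D.Psi x)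
  obtain ⟨N, hN⟩ := D.exists_lin hm g
  have h1 := hN D.x₀ D.x₀_ne
  rw [hg] at h1
  obtain ⟨a, ha, hxa⟩ := D.psi_inj _ _ hx (mulVec_ne_zero N D.x₀_ne) h1
  -- `N x₀ = a x`
  obtain ⟨z, hz⟩ := D.exists_transv₀ hm ((a⁻¹) ^ 2 * c)
  refine ⟨g * z * g⁻¹, ?_⟩
  have h2 : (transv x c : Matrix.symplecticGroup (Fin m) F) =
      N * transv D.x₀ ((a⁻¹) ^ 2 * c) * N⁻¹ := by
    rw [eq_mul_inv_iff_mul_eq]
    apply Subtype.ext
    rw [Submonoid.coe_mul, Submonoid.coe_mul, coe_transv, coe_transv, mul_sympTransvection N.2,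
      hxa, sympTransvection_smul]
    congr 2
    field_simp
  rw [h2]
  exact (hN.mul D hz).mul D (hN.inv D)

/-- Every symplectic matrix is realised. -/
theorem exists_realize (hm : 2 ≤ m) (M : Matrix.symplecticGroup (Fin m) F) :
    ∃ g : G, D.Lin g M := by
  have hM : M ∈ Subgroup.closure {A : Matrix.symplecticGroup (Fin m) F |
      ∃ (w : Fin m ⊕ Fin m → F) (c : F),
        (A : Matrix (Fin m ⊕ Fin m) (Fin m ⊕ Fin m) F) = Cfsg.sympTransvection m w c} := by
    rw [Cfsg.Agent.S0765.result m]; trivial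
  induction hM using Subgroup.closure_induction with
  | mem A hA =>
    obtain ⟨w, c, hwc⟩ := hA
    obtain ⟨z, hz⟩ := D.exists_transv hm w c
    have : A = transv w c := Subtype.ext hwc
    exact ⟨z, this ▸ hz⟩
  | one => exact ⟨1, D.lin_one⟩
  | mul a b _ _ ha hb =>
    obtain ⟨g, hg⟩ := ha
    obtain ⟨h, hh⟩ := hb
    exact ⟨g * h, hg.mul D hh⟩
  | inv a _ ha =>
    obtain ⟨g, hg⟩ := ha
    exact ⟨g⁻¹, hg.inv D⟩

theorem mem_center_iff {M : Matrix.symplecticGroup (Fin m) F} :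
    M ∈ Subgroup.center (Matrix.symplecticGroup (Fin m) F) ↔
      ∀ v : Fin m ⊕ Fin m → F, ∃ a : F,
        (M : Matrix (Fin m ⊕ Fin m) (Fin m ⊕ Fin m) F) *ᵥ v = a • v := by
  refine ⟨fun h v => ?_, mem_center_of_forall⟩
  by_cases hv : v = 0
  · exact ⟨1, by rw [hv, Matrix.mulVec_zero, smul_zero]⟩
  obtain ⟨y, hy, -⟩ := exists_both_ne_zero hv hv
  have hc := Subgroup.mem_center_iff.1 h (transv v 1)
  have h1 : (transv v (1 : F) : Matrix.symplecticGroup (Fin m) F) * M = M * transv v 1 := hc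
  have h2 := congrArg (fun A : Matrix.symplecticGroup (Fin m) F =>
    (A : Matrix (Fin m ⊕ Fin m) (Fin m ⊕ Fin m) F)) h1
  simp only [Submonoid.coe_mul, coe_transv] at h2
  rw [mul_sympTransvection M.2] at h2
  -- compare the two transvections
  have h3 : sympTransvection m v (1 : F) =
      sympTransvection m ((M : Matrix (Fin m ⊕ Fin m) (Fin m ⊕ Fin m) F) *ᵥ v) 1 := by
    have h4 := congrArg (fun A => A * (M⁻¹ : Matrix.symplecticGroup (Fin m) F).1) h2
    simp only [Matrix.mul_assoc] at h4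
    have h5 : (M : Matrix (Fin m ⊕ Fin m) (Fin m ⊕ Fin m) F) *
        (M⁻¹ : Matrix.symplecticGroup (Fin m) F).1 = 1 := by
      have := congrArg (fun A : Matrix.symplecticGroup (Fin m) F =>
        (A : Matrix (Fin m ⊕ Fin m) (Fin m ⊕ Fin m) F)) (mul_inv_cancel M)
      simpa only [Submonoid.coe_mul, OneMemClass.coe_one] using this
    rwa [h5, Matrix.mul_one, Matrix.mul_one] at h4
  have h6 := congrArg (fun A => A *ᵥ y) h3
  simp only [sympTransvection_mulVec, one_mul, add_right_inj] at h6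
  have hyv : sympForm m F y v ≠ 0 := form_ne_zero_comm.1 hy
  have hyMv : sympForm m F y ((M : Matrix (Fin m ⊕ Fin m) (Fin m ⊕ Fin m) F) *ᵥ v) ≠ 0 := by
    intro h0
    rw [h0, zero_smul] at h6
    exact (smul_ne_zero hyv hv) h6
  refine ⟨(sympForm m F y ((M : Matrix (Fin m ⊕ Fin m) (Fin m ⊕ Fin m) F) *ᵥ v))⁻¹ *
    sympForm m F y v, ?_⟩
  rw [mul_smul, h6, smul_smul, inv_mul_cancel₀ hyMv, one_smul]

/-- **Recognition of `PSp_{2m}(F)` on its polar space.** -/
theorem nonempty_mulEquiv (D : PolarAct F m G P) (hm : 2 ≤ m) : Nonempty (G ≃* PSp m F) := by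
  classical
  choose Φ hΦ using fun M => D.exists_realize hm M
  let φ : Matrix.symplecticGroup (Fin m) F →* G :=
    { toFun := Φ
      map_one' := (hΦ 1).unique D D.lin_one
      map_mul' := fun M N => (hΦ (M * N)).unique D ((hΦ M).mul D (hΦ N)) }
  have hsurj : Function.Surjective φ := by
    intro g
    obtain ⟨M, hM⟩ := D.exists_lin hm g
    exact ⟨M, (hΦ M).unique D hM⟩
  have hker : φ.ker = Subgroup.center (Matrix.symplecticGroup (Fin m) F) := by
    ext M
    rw [MonoidHom.mem_ker, mem_center_iff]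
    constructor
    · intro h v
      by_cases hv : v = 0
      · exact ⟨1, by rw [hv, Matrix.mulVec_zero, smul_zero]⟩
      have h1 : (Φ M) • D.Psi v = _ := hΦ M v hv
      have h2 : Φ M = 1 := h
      rw [h2, one_smul] at h1
      obtain ⟨c, -, hc⟩ := D.psi_inj _ _ hv (mulVec_ne_zero M hv) h1
      exact ⟨c, hc⟩
    · intro h
      apply D.faithful
      intro p
      obtain ⟨x, hx, rfl⟩ := D.psi_surj p
      obtain ⟨a, ha⟩ := h x
      have h1 : (Φ M) • D.Psi x = _ := hΦ M x hx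
      have ha0 : a ≠ 0 := by
        rintro rfl
        rw [zero_smul] at ha
        exact mulVec_ne_zero M hx ha
      calc φ M • D.Psi x = D.Psi ((M : Matrix (Fin m ⊕ Fin m) (Fin m ⊕ Fin m) F) *ᵥ x) := h1
        _ = D.Psi x := by rw [ha, D.psi_smul x hx a ha0]
  exact ⟨((QuotientGroup.quotientMulEquivOfEq hker).symm.trans
    (QuotientGroup.quotientKerEquivOfSurjective φ hsurj)).symm⟩

end PolarAct

end Cfsg.Agent.TypeSpFour.Polar
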