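import Mathlib
import Cfsg.Agent.TypeSpFour.Polar

/-!
Recognition of `PSp 2 F`, `F` of characteristic two, from translation data of a generalised quadrangle:
coordinates for the points.
-/

set_option autoImplicit false
open Cfsg
open scoped Matrix

namespace Cfsg.Agent.TypeSpFour.Trans

open Cfsg.Agent.ClassicalGeometry.SympBasic
open Cfsg.Agent.LieClassical.SympSimple
open Cfsg.Agent.TypeSpFour.Rigid
open Cfsg.Agent.TypeSpFour.Polar

/-- The determinant on `F²`. -/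
def det2 {F : Type*} [Field F] (v w : F × F) : F := v.1 * w.2 - v.2 * w.1

/-- Translation data of a generalised quadrangle with translation group `{s v * f c}`. -/
structure TransData (F : Type*) [Field F] (G P : Type*) [Group G] [MulAction G P] where
  R : P → P → Prop
  Z : P → Set G
  p₀ : P
  o : P
  s : F × F → G
  f : F → G
  ρ : F × F → P
  R_refl : ∀ p, R p p
  R_symm : ∀ p r, R p r → R r p
  R_smul : ∀ (g : G) (p r : P), R p r → R (g • p) (g • r)
  Z_conj : ∀ (g : G) (p : P) (z : G), z ∈ Z p → g * z * g⁻¹ ∈ Z (g • p)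
  Z_fix : ∀ (p r : P) (z : G), z ∈ Z p → R p r → z • r = r
  f_mem : ∀ c, f c ∈ Z p₀
  f_add : ∀ c d, f (c + d) = f c * f d
  s_mul : ∀ v w, s v * s w = s (v + w) * f (det2 v w)
  sf_comm : ∀ v c, s v * f c = f c * s v
  s_p₀ : ∀ v, s v • p₀ = p₀
  not_R_o : ¬ R p₀ o
  far : ∀ r, ¬ R p₀ r → ∃ v c, r = (s v * f c) • o
  R_far : ∀ v c, R ((s v * f c) • o) o ↔ c = 0
  R_ρ : ∀ v, v ≠ 0 → R p₀ (ρ v)
  R_ρo : ∀ v, v ≠ 0 → R (ρ v) o
  ρ_smul : ∀ v, v ≠ 0 → ∀ c : F, c ≠ 0 → ρ (c • v) = ρ v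
  stab : ∀ v w, v ≠ 0 → (s w • ρ v = ρ v ↔ det2 v w = 0)
  uniq : ∀ v w, v ≠ 0 → R (s w • ρ v) o → s w • ρ v = ρ v
  near : ∀ r, R p₀ r → r ≠ p₀ → ∃ v w, v ≠ 0 ∧ r = s w • ρ v
  R_line : ∀ v w, v ≠ 0 → R (s w • ρ v) (ρ v)
  R_near : ∀ v v' w, v ≠ 0 → v' ≠ 0 → R (s w • ρ v) (ρ v') → det2 v v' = 0
  trans : ∀ p r : P, ∃ g : G, g • p = r
  faithful : ∀ g : G, (∀ p : P, g • p = p) → g = 1
  gen : Subgroup.closure {z : G | ∃ p, z ∈ Z p} = ⊤

variable {F : Type*} [Field F] {G P : Type*} [Group G] [MulAction G P]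

section det

theorem det2_smul_left (c : F) (v w : F × F) : det2 (c • v) w = c * det2 v w := by
  simp only [det2, Prod.smul_fst, Prod.smul_snd, smul_eq_mul]; ring

theorem det2_smul_right (c : F) (v w : F × F) : det2 v (c • w) = c * det2 v w := by
  simp only [det2, Prod.smul_fst, Prod.smul_snd, smul_eq_mul]; ring

theorem det2_add_right (v w w' : F × F) : det2 v (w + w') = det2 v w + det2 v w' := by
  simp only [det2, Prod.fst_add, Prod.snd_add]; ring

theorem det2_self (v : F × F) : det2 v v = 0 := by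
  simp only [det2]; ring

theorem det2_swap (v w : F × F) : det2 v w = - det2 w v := by
  simp only [det2]; ring

theorem exists_smul_of_det2_eq_zero {v w : F × F} (hv : v ≠ 0) (hw : w ≠ 0)
    (h : det2 v w = 0) : ∃ c : F, c ≠ 0 ∧ w = c • v := by
  obtain ⟨a, b⟩ := v
  obtain ⟨x, y⟩ := w
  simp only [det2] at h
  have key : ∀ c : F, (x, y) = c • ((a, b) : F × F) → ∃ c : F, c ≠ 0 ∧ (x, y) = c • ((a, b) : F × F) := by
    intro c hc
    refine ⟨c, ?_, hc⟩
    rintro rfl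
    rw [zero_smul] at hc
    exact hw hc
  by_cases ha : a = 0
  · have hb : b ≠ 0 := by
      rintro rfl
      exact hv (by rw [ha]; rfl)
    apply key (y * b⁻¹)
    rw [Prod.smul_mk, smul_eq_mul, smul_eq_mul, ha, mul_zero, inv_mul_cancel_right₀ hb]
    rw [ha, zero_mul, zero_sub, neg_eq_zero] at h
    rw [(mul_eq_zero.1 h).resolve_left hb]
  · apply key (x * a⁻¹)
    rw [Prod.smul_mk, smul_eq_mul, smul_eq_mul, inv_mul_cancel_right₀ ha]
    congr 1
    field_simp
    linear_combination h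

/-- A vector with prescribed determinant. -/
theorem exists_det2 (v : F × F) (hv : v ≠ 0) (c : F) : ∃ w, det2 v w = c := by
  obtain ⟨a, b⟩ := v
  by_cases ha : a = 0
  · have hb : b ≠ 0 := by
      rintro rfl
      exact hv (by rw [ha]; rfl)
    refine ⟨(-(c * b⁻¹), 0), ?_⟩
    simp only [det2]
    field_simp
    ring
  · refine ⟨(0, c * a⁻¹), ?_⟩
    simp only [det2]
    field_simp
    ring

open Classical in
/-- A chosen vector with prescribed determinant. -/
noncomputable def lift (v : F × F) (c : F) : F × F :=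
  if h : v ≠ 0 then (exists_det2 v h c).choose else 0

theorem det2_lift {v : F × F} (hv : v ≠ 0) (c : F) : det2 v (lift v c) = c := by
  rw [lift, dif_pos hv]
  exact (exists_det2 v hv c).choose_spec

end det

/-- The form in coordinates. -/
theorem form_eq (x y : Fin 2 ⊕ Fin 2 → F) :
    sympForm 2 F x y = x (Sum.inr 0) * y (Sum.inl 0) - x (Sum.inl 0) * y (Sum.inr 0) +
      (x (Sum.inr 1) * y (Sum.inl 1) - x (Sum.inl 1) * y (Sum.inr 1)) := by
  rw [sympForm_eq_sum, Fin.sum_univ_two]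

namespace TransData

variable (D : TransData F G P)

theorem f_zero : D.f 0 = 1 := by
  have h := D.f_add 0 0
  rw [add_zero] at h
  exact mul_eq_left.1 h.symm

theorem f_neg (c : F) : D.f (-c) = (D.f c)⁻¹ := by
  rw [eq_inv_iff_mul_eq_one, ← D.f_add, neg_add_cancel, D.f_zero]

theorem s_zero : D.s 0 = 1 := by
  have h := D.s_mul 0 0
  rw [add_zero, det2_self, D.f_zero, mul_one] at h
  exact mul_eq_left.1 h

theorem s_inv (v : F × F) : (D.s v)⁻¹ = D.s (-v) := by
  symm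
  rw [eq_inv_iff_mul_eq_one, D.s_mul, neg_add_cancel, D.s_zero, one_mul]
  have : det2 (-v) v = 0 := by simp only [det2, Prod.fst_neg, Prod.snd_neg]; ring
  rw [this, D.f_zero]

theorem f_p₀ (c : F) : D.f c • D.p₀ = D.p₀ := D.Z_fix _ _ _ (D.f_mem c) (D.R_refl _)

theorem R_iff_smul (g : G) (p r : P) : D.R (g • p) (g • r) ↔ D.R p r := by
  refine ⟨fun h => ?_, D.R_smul g p r⟩
  have h2 := D.R_smul g⁻¹ _ _ h
  rwa [inv_smul_smul, inv_smul_smul] at h2

theorem R_comm (p r : P) : D.R p r ↔ D.R r p := ⟨D.R_symm p r, D.R_symm r p⟩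

theorem R_p₀_smul (v : F × F) (r : P) : D.R D.p₀ (D.s v • r) ↔ D.R D.p₀ r := by
  conv_lhs => rw [← D.s_p₀ v]
  exact D.R_iff_smul _ _ _

theorem f_smul_near {v : F × F} (hv : v ≠ 0) (w : F × F) (c : F) :
    D.f c • (D.s w • D.ρ v) = D.s w • D.ρ v :=
  D.Z_fix _ _ _ (D.f_mem c) ((D.R_p₀_smul w _).2 (D.R_ρ v hv))

theorem s_smul_ρ_eq {v w w' : F × F} (hv : v ≠ 0) (h : det2 v w = det2 v w') :
    D.s w • D.ρ v = D.s w' • D.ρ v := by
  have h1 : D.s (w' - w) • D.ρ v = D.ρ v := by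
    rw [D.stab v _ hv, sub_eq_add_neg, det2_add_right, ← neg_one_smul F w, det2_smul_right, h]
    ring
  have h2 : D.s w * D.s (w' - w) = D.s w' * D.f (det2 w (w' - w)) := by
    rw [D.s_mul, add_sub_cancel]
  calc D.s w • D.ρ v = D.s w • (D.s (w' - w) • D.ρ v) := by rw [h1]
    _ = (D.s w' * D.f (det2 w (w' - w))) • D.ρ v := by rw [smul_smul, h2]
    _ = D.s w' • D.ρ v := by
      rw [mul_smul, D.Z_fix _ _ _ (D.f_mem _) (D.R_ρ v hv)]

open Classical in
/-- The point with given homogeneous coordinates. -/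
noncomputable def Psi (x : Fin 2 ⊕ Fin 2 → F) : P :=
  if x (Sum.inr 0) ≠ 0 then
    (D.s (x (Sum.inl 1) * (x (Sum.inr 0))⁻¹, x (Sum.inr 1) * (x (Sum.inr 0))⁻¹) *
      D.f (x (Sum.inl 0) * (x (Sum.inr 0))⁻¹)) • D.o
  else if (x (Sum.inl 1), x (Sum.inr 1)) ≠ (0 : F × F) then
    D.s (lift (x (Sum.inl 1), x (Sum.inr 1)) (x (Sum.inl 0))) •
      D.ρ (x (Sum.inl 1), x (Sum.inr 1))
  else D.p₀

theorem psi_far {x : Fin 2 ⊕ Fin 2 → F} (hx : x (Sum.inr 0) ≠ 0) :
    D.Psi x = (D.s (x (Sum.inl 1) * (x (Sum.inr 0))⁻¹, x (Sum.inr 1) * (x (Sum.inr 0))⁻¹) *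
      D.f (x (Sum.inl 0) * (x (Sum.inr 0))⁻¹)) • D.o := by
  rw [Psi, if_pos hx]

theorem psi_near {x : Fin 2 ⊕ Fin 2 → F} (hx : x (Sum.inr 0) = 0)
    (hx' : (x (Sum.inl 1), x (Sum.inr 1)) ≠ (0 : F × F)) :
    D.Psi x = D.s (lift (x (Sum.inl 1), x (Sum.inr 1)) (x (Sum.inl 0))) •
      D.ρ (x (Sum.inl 1), x (Sum.inr 1)) := by
  rw [Psi, if_neg (not_not.2 hx), if_pos hx']

theorem psi_p₀ {x : Fin 2 ⊕ Fin 2 → F} (hx : x (Sum.inr 0) = 0)
    (hx' : (x (Sum.inl 1), x (Sum.inr 1)) = (0 : F × F)) : D.Psi x = D.p₀ := by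
  rw [Psi, if_neg (not_not.2 hx), if_neg (not_not.2 hx')]

theorem psi_smul (x : Fin 2 ⊕ Fin 2 → F) (_ : x ≠ 0) (c : F) (hc : c ≠ 0) :
    D.Psi (c • x) = D.Psi x := by
  by_cases h4 : x (Sum.inr 0) = 0
  · have h4' : (c • x) (Sum.inr 0) = 0 := by
      rw [Pi.smul_apply, h4, smul_zero]
    by_cases h23 : (x (Sum.inl 1), x (Sum.inr 1)) = (0 : F × F)
    · have h23' : ((c • x) (Sum.inl 1), (c • x) (Sum.inr 1)) = (0 : F × F) := by
        rw [Pi.smul_apply, Pi.smul_apply, ← Prod.smul_mk, h23, smul_zero]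
      rw [D.psi_p₀ h4 h23, D.psi_p₀ h4' h23']
    · have hcv : ((c • x) (Sum.inl 1), (c • x) (Sum.inr 1)) =
          c • ((x (Sum.inl 1), x (Sum.inr 1)) : F × F) := by
        rw [Pi.smul_apply, Pi.smul_apply, ← Prod.smul_mk]
      have h23' : ((c • x) (Sum.inl 1), (c • x) (Sum.inr 1)) ≠ (0 : F × F) := by
        rw [hcv]
        exact smul_ne_zero hc h23
      rw [D.psi_near h4 h23, D.psi_near h4' h23', hcv, D.ρ_smul _ h23 c hc]
      apply D.s_smul_ρ_eq h23
      rw [det2_lift h23]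
      have h5 := det2_lift (smul_ne_zero hc h23) ((c • x) (Sum.inl 0))
      rw [det2_smul_left] at h5
      have h6 : (c • x) (Sum.inl 0) = c * x (Sum.inl 0) := rfl
      rw [h6] at h5 ⊢
      exact mul_left_cancel₀ hc h5
  · have h4' : (c • x) (Sum.inr 0) ≠ 0 := smul_ne_zero hc h4
    rw [D.psi_far h4, D.psi_far h4']
    have key : ∀ i, (c • x) i * ((c • x) (Sum.inr 0))⁻¹ = x i * (x (Sum.inr 0))⁻¹ := by
      intro i
      rw [Pi.smul_apply, Pi.smul_apply, smul_eq_mul, smul_eq_mul]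
      field_simp
    rw [key, key, key]

theorem psi_surj (p : P) : ∃ x, x ≠ 0 ∧ D.Psi x = p := by
  by_cases hR : D.R D.p₀ p
  · by_cases hp : p = D.p₀
    · refine ⟨Pi.single (Sum.inl 0) 1, by simp, ?_⟩
      rw [hp]
      apply D.psi_p₀ <;> simp
    · obtain ⟨v, w, hv, rfl⟩ := D.near p hR hp
      refine ⟨Sum.elim ![det2 v w, v.1] ![0, v.2], ?_, ?_⟩
      · intro h0
        apply hv
        have h1 := congrFun h0 (Sum.inl 1)
        have h2 := congrFun h0 (Sum.inr 1)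
        simp only [Sum.elim_inl, Sum.elim_inr, Matrix.cons_val_one, Matrix.cons_val_fin_one,
          Pi.zero_apply] at h1 h2
        exact Prod.ext h1 h2
      · have h23 : ((Sum.elim ![det2 v w, v.1] ![0, v.2] : Fin 2 ⊕ Fin 2 → F) (Sum.inl 1),
            (Sum.elim ![det2 v w, v.1] ![0, v.2] : Fin 2 ⊕ Fin 2 → F) (Sum.inr 1)) = v := by
          simp
        rw [D.psi_near (by simp) (by rw [h23]; exact hv), h23]
        apply D.s_smul_ρ_eq hv
        rw [det2_lift hv]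
        simp
  · obtain ⟨v, c, rfl⟩ := D.far p hR
    refine ⟨Sum.elim ![c, v.1] ![1, v.2], ?_, ?_⟩
    · intro h0
      have h1 := congrFun h0 (Sum.inr 0)
      simp at h1
    · rw [D.psi_far (by simp)]
      simp

/-- Far points are not perpendicular to `p₀`. -/
theorem not_R_far (v : F × F) (c : F) : ¬ D.R D.p₀ ((D.s v * D.f c) • D.o) := by
  intro h
  apply D.not_R_o
  rwa [← D.R_iff_smul (D.s v * D.f c), mul_smul, D.f_p₀, D.s_p₀]

theorem smul_far_R {v w : F × F} {c d : F} :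
    D.R ((D.s v * D.f c) • D.o) ((D.s w * D.f d) • D.o) ↔ c - d - det2 w v = 0 := by
  rw [← D.R_iff_smul (D.s w * D.f d)⁻¹, smul_smul, inv_smul_smul]
  have h1 : (D.s w * D.f d)⁻¹ * (D.s v * D.f c) =
      D.s (-w + v) * D.f (c - d - det2 w v) := by
    have h2 : D.f (c - d - det2 w v) = D.f (det2 (-w) v) * D.f c * D.f (-d) := by
      rw [← D.f_add, ← D.f_add]
      congr 1
      have : det2 (-w) v = - det2 w v := by
        simp only [det2, Prod.fst_neg, Prod.snd_neg]; ring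
      rw [this]; ring
    rw [mul_inv_rev, D.s_inv, ← D.f_neg, h2, ← mul_assoc, ← mul_assoc, ← mul_assoc, ← D.s_mul]
    have h3 : D.f (-d) * D.s (-w) * D.s v = D.s (-w) * D.s v * D.f (-d) := by
      rw [← D.sf_comm, mul_assoc, ← D.sf_comm, mul_assoc]
    rw [h3, mul_assoc (D.s (-w) * D.s v), mul_assoc (D.s (-w) * D.s v), ← D.f_add, ← D.f_add,
      add_comm]
  rw [h1, D.R_far]

theorem smul_near_far_R {v w w' : F × F} {c : F} (hv : v ≠ 0) :
    D.R (D.s w' • D.ρ v) ((D.s w * D.f c) • D.o) ↔ det2 v w' - det2 v w = 0 := by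
  have key : (D.s w * D.f c)⁻¹ • (D.s w' • D.ρ v) = D.s (-w + w') • D.ρ v := by
    rw [mul_inv_rev, D.s_inv, ← D.f_neg, smul_smul, mul_assoc, D.s_mul, mul_smul, mul_smul,
      D.Z_fix _ _ _ (D.f_mem _) (D.R_ρ v hv), D.f_smul_near hv]
  rw [← D.R_iff_smul (D.s w * D.f c)⁻¹, inv_smul_smul, key]
  have hdet : det2 v (-w + w') = det2 v w' - det2 v w := by
    simp only [det2, Prod.fst_add, Prod.snd_add, Prod.fst_neg, Prod.snd_neg]; ring
  rw [← hdet, ← D.stab v _ hv]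
  refine ⟨D.uniq v _ hv, fun h => ?_⟩
  rw [h]
  exact D.R_ρo v hv

theorem smul_near_R {v v' w w' : F × F} (hv : v ≠ 0) (hv' : v' ≠ 0) :
    D.R (D.s w • D.ρ v) (D.s w' • D.ρ v') ↔ det2 v v' = 0 := by
  have key : (D.s w')⁻¹ • (D.s w • D.ρ v) = D.s (-w' + w) • D.ρ v := by
    rw [D.s_inv, smul_smul, D.s_mul, mul_smul, D.Z_fix _ _ _ (D.f_mem _) (D.R_ρ v hv)]
  rw [← D.R_iff_smul (D.s w')⁻¹, inv_smul_smul, key]
  refine ⟨D.R_near v v' _ hv hv', fun h => ?_⟩
  obtain ⟨c, hc, rfl⟩ := exists_smul_of_det2_eq_zero hv hv' h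
  rw [D.ρ_smul v hv c hc]
  exact D.R_line v _ hv

theorem R_p₀_iff (x : Fin 2 ⊕ Fin 2 → F) : D.R D.p₀ (D.Psi x) ↔ x (Sum.inr 0) = 0 := by
  by_cases h4 : x (Sum.inr 0) = 0
  · refine ⟨fun _ => h4, fun _ => ?_⟩
    by_cases h23 : (x (Sum.inl 1), x (Sum.inr 1)) = (0 : F × F)
    · rw [D.psi_p₀ h4 h23]
      exact D.R_refl _
    · rw [D.psi_near h4 h23, D.R_p₀_smul]
      exact D.R_ρ _ h23
  · rw [D.psi_far h4]
    exact ⟨fun h => absurd h (D.not_R_far _ _), fun h => absurd h h4⟩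

theorem R_iff (h2 : (2 : F) = 0) (x y : Fin 2 ⊕ Fin 2 → F) (hx : x ≠ 0) (hy : y ≠ 0) :
    D.R (D.Psi x) (D.Psi y) ↔ sympForm 2 F x y = 0 := by
  have hneg : ∀ a : F, -a = a := fun a => by linear_combination (-a) * h2
  have hp₀ : ∀ z : Fin 2 ⊕ Fin 2 → F, z ≠ 0 → z (Sum.inr 0) = 0 →
      (z (Sum.inl 1), z (Sum.inr 1)) = (0 : F × F) → z (Sum.inl 0) ≠ 0 ∧
        z (Sum.inl 1) = 0 ∧ z (Sum.inr 1) = 0 := by
    intro z hz h4 h23
    have e1 : z (Sum.inl 1) = 0 := congrArg Prod.fst h23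
    have e2 : z (Sum.inr 1) = 0 := congrArg Prod.snd h23
    refine ⟨fun h0 => hz ?_, e1, e2⟩
    funext i
    rcases i with i | i
    · fin_cases i
      · exact h0
      · exact e1
    · fin_cases i
      · exact h4
      · exact e2
  have main : ∀ x y : Fin 2 ⊕ Fin 2 → F, x ≠ 0 → y ≠ 0 →
      ((x (Sum.inr 0) = 0 ∧ (x (Sum.inl 1), x (Sum.inr 1)) = (0 : F × F)) →
        (D.R (D.Psi x) (D.Psi y) ↔ sympForm 2 F x y = 0)) := by
    rintro x y hx hy ⟨h4, h23⟩
    obtain ⟨h1, e1, e2⟩ := hp₀ x hx h4 h23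
    rw [D.psi_p₀ h4 h23, D.R_p₀_iff, form_eq, h4, e1, e2, zero_mul, zero_mul, zero_mul, zero_sub,
      sub_zero, add_zero, neg_eq_zero, mul_eq_zero, or_iff_right h1]
  by_cases hx1 : x (Sum.inr 0) = 0 ∧ (x (Sum.inl 1), x (Sum.inr 1)) = (0 : F × F)
  · exact main x y hx hy hx1
  by_cases hy1 : y (Sum.inr 0) = 0 ∧ (y (Sum.inl 1), y (Sum.inr 1)) = (0 : F × F)
  · rw [D.R_comm, main y x hy hx hy1]
    exact form_eq_zero_comm
  by_cases hx4 : x (Sum.inr 0) = 0
  · have hx23 : (x (Sum.inl 1), x (Sum.inr 1)) ≠ (0 : F × F) := fun h => hx1 ⟨hx4, h⟩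
    by_cases hy4 : y (Sum.inr 0) = 0
    · have hy23 : (y (Sum.inl 1), y (Sum.inr 1)) ≠ (0 : F × F) := fun h => hy1 ⟨hy4, h⟩
      rw [D.psi_near hx4 hx23, D.psi_near hy4 hy23, D.smul_near_R hx23 hy23, form_eq, hx4, hy4]
      simp only [det2]
      constructor
      · intro h; linear_combination -h
      · intro h; linear_combination -h
    · rw [D.psi_near hx4 hx23, D.psi_far hy4, D.smul_near_far_R hx23, det2_lift hx23, form_eq,
        hx4]
      simp only [det2]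
      rw [← mul_right_inj' hy4 (b := _ - _)]
      constructor
      · intro h
        field_simp at h
        linear_combination (-1 : F) * h + (x (Sum.inr 1) * y (Sum.inl 1) - x (Sum.inl 1) * y (Sum.inr 1)) * h2
      · intro h
        field_simp
        linear_combination (-1 : F) * h + (x (Sum.inr 1) * y (Sum.inl 1) - x (Sum.inl 1) * y (Sum.inr 1)) * h2
  · by_cases hy4 : y (Sum.inr 0) = 0
    · have hy23 : (y (Sum.inl 1), y (Sum.inr 1)) ≠ (0 : F × F) := fun h => hy1 ⟨hy4, h⟩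
      rw [D.R_comm, D.psi_near hy4 hy23, D.psi_far hx4, D.smul_near_far_R hy23, det2_lift hy23,
        form_eq, hy4]
      simp only [det2]
      rw [← mul_right_inj' hx4 (b := _ - _)]
      constructor
      · intro h
        field_simp at h
        linear_combination h + (x (Sum.inr 1) * y (Sum.inl 1) - x (Sum.inl 1) * y (Sum.inr 1)) * h2
      · intro h
        field_simp
        linear_combination h - (x (Sum.inr 1) * y (Sum.inl 1) - x (Sum.inl 1) * y (Sum.inr 1)) * h2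
    · rw [D.psi_far hx4, D.psi_far hy4, D.smul_far_R, form_eq]
      simp only [det2]
      rw [← mul_right_inj' (mul_ne_zero hx4 hy4) (b := _ - _)]
      constructor
      · intro h
        field_simp at h
        linear_combination h + (x (Sum.inr 0) * y (Sum.inl 0) - x (Sum.inl 0) * y (Sum.inr 0) + x (Sum.inr 1) * y (Sum.inl 1) - x (Sum.inl 1) * y (Sum.inr 1)) * h2
      · intro h
        field_simp
        linear_combination h - (x (Sum.inr 0) * y (Sum.inl 0) - x (Sum.inl 0) * y (Sum.inr 0) + x (Sum.inr 1) * y (Sum.inl 1) - x (Sum.inl 1) * y (Sum.inr 1)) * h2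

/-- The polar space of the translation data. -/
noncomputable def toPolar (h2 : (2 : F) = 0) : PolarAct F 2 G P where
  Psi := D.Psi
  R := D.R
  Z := D.Z
  psi_smul := D.psi_smul
  psi_inj := by
    intro x y hx hy hxy
    by_contra hcon
    push Not at hcon
    have hns : ∀ a : F, y ≠ a • x := by
      intro a ha
      refine hcon a ?_ ha
      rintro rfl
      rw [zero_smul] at ha
      exact hy ha
    obtain ⟨w, hw1, hw2⟩ := exists_perp_of_not_smul hx hns
    have hw0 : w ≠ 0 := ne_zero_of_form' hw2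
    apply hw2
    rw [← D.R_iff h2 y w hy hw0, ← hxy, D.R_iff h2 x w hx hw0]
    exact hw1
  psi_surj := D.psi_surj
  R_smul := D.R_smul
  R_iff := D.R_iff h2
  Z_conj := D.Z_conj
  Z_fix := D.Z_fix
  x₀ := Pi.single (Sum.inl 0) 1
  y₀ := Pi.single (Sum.inr 0) 1
  form_y₀ := by rw [sympForm_single_inr_left, Pi.single_eq_same]
  exists_Z := by
    intro c
    have h1 : D.Psi (Pi.single (Sum.inl 0) 1) = D.p₀ := by
      apply D.psi_p₀ <;> simp
    have h3 : D.Psi (Pi.single (Sum.inr 0) 1) = D.o := by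
      rw [D.psi_far (by simp)]
      simp [D.f_zero]
      have := D.s_zero
      rw [show ((0, 0) : F × F) = 0 from rfl, this, one_smul]
    have h4 : D.Psi ((Pi.single (Sum.inr 0) 1 : Fin 2 ⊕ Fin 2 → F) +
        c • Pi.single (Sum.inl 0) 1) = D.f c • D.o := by
      rw [D.psi_far (by simp)]
      simp
      have := D.s_zero
      rw [show ((0, 0) : F × F) = 0 from rfl, this, one_mul]
    refine ⟨D.f c, ?_, ?_⟩
    · rw [h1]; exact D.f_mem c
    · rw [h3, h4]
  trans := D.trans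
  faithful := D.faithful
  gen := D.gen

/-- **Recognition of `PSp 2 F` from translation data.** -/
theorem nonempty_mulEquiv (D : TransData F G P) (h2 : (2 : F) = 0) :
    Nonempty (G ≃* PSp 2 F) :=
  (D.toPolar h2).nonempty_mulEquiv le_rfl

end TransData

end Cfsg.Agent.TypeSpFour.Trans
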